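import Cfsg.Agent.Coset.Fi24.Loop
import Cfsg.Agent.Coset.Presented
import Cfsg.Agent.Coset.HN.KData

/-!
The group presented by the relators of `Cfsg.Spor.HN` on `x, y, z`, in the five letters
`x, x⁻¹, y, y⁻¹, z`, and its action on 1408 points.
-/

set_option autoImplicit false
set_option maxRecDepth 100000
set_option Elab.async false

namespace CfsgLib.Coset.HN

/-- The inverse of a letter. -/
def ivK : Nat → Nat
  | 0 => 1
  | 1 => 0
  | 2 => 3
  | 3 => 2
  | l => l

/-- The presented group on `x, y, z`. -/
abbrev K0 : Type := NumGr 5 KD.rels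

/-- Its letters. -/
noncomputable abbrev Lk : List K0 := numGens 5 KD.rels

theorem length_Lk : Lk.length = 5 := length_numGens

theorem inv_Lk : ∀ x, fl Lk (ivK x) = (fl Lk x)⁻¹
  | 0 => (inv_eq_of_mul_eq_one_right (by simpa [ivK] using ev_numGens (k := 5) (rels := KD.rels) [0, 1] (by decide +kernel))).symm
  | 1 => (inv_eq_of_mul_eq_one_right (by simpa [ivK] using ev_numGens (k := 5) (rels := KD.rels) [1, 0] (by decide +kernel))).symm
  | 2 => (inv_eq_of_mul_eq_one_right (by simpa [ivK] using ev_numGens (k := 5) (rels := KD.rels) [2, 3] (by decide +kernel))).symm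
  | 3 => (inv_eq_of_mul_eq_one_right (by simpa [ivK] using ev_numGens (k := 5) (rels := KD.rels) [3, 2] (by decide +kernel))).symm
  | 4 => (inv_eq_of_mul_eq_one_right (by simpa [ivK] using ev_numGens (k := 5) (rels := KD.rels) [4, 4] (by decide +kernel))).symm
  | n + 5 => by
    show fl Lk (n + 5) = (fl Lk (n + 5))⁻¹
    rw [fl_of_le _ (by rw [length_Lk]; omega), inv_one]

/-- The formal inverse of a word. -/
def invW (w : List Nat) : List Nat := (w.map ivK).reverse

theorem ev_invW (w : List Nat) : ev Lk (invW w) = (ev Lk w)⁻¹ := by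
  induction w with
  | nil => simp [invW]
  | cons l w ih =>
    rw [invW] at ih
    simp [invW, ev_append, ih, inv_Lk]

theorem invW_ev (w : List Nat) : ev Lk w * ev Lk (invW w) = 1 := by
  rw [ev_invW, mul_inv_cancel]

theorem hperm : checkPerm ivK 1408 5 11 3 KD.Tb = true := by decide +kernel

theorem hrels : checkRels 1408 11 KD.Tb KD.rels = true := by decide +kernel

theorem length_sigList : (sigList hperm).length = 5 := by simp [sigList]

theorem sig_rels : ∀ w ∈ KD.rels, ev (sigList hperm) w = 1 :=
  ev_sigList_eq_one hperm hrels (by decide +kernel)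

/-- The action on 1408 points. -/
noncomputable def σK : K0 →* Equiv.Perm (Fin 1408) := numHom length_sigList sig_rels

theorem matches_σK : Matches Lk σK KD.Tb := by
  intro l hl i
  rw [σK, numHom_fl, fl_sigList, sig_symm_apply hperm (length_Lk ▸ hl)]

theorem σK_one {w : List Nat} (hw : ∀ l ∈ w, l < 5)
    (h : checkRels 1408 11 KD.Tb [w] = true) : σK (ev Lk w) = 1 := by
  rw [σK, numHom_ev]
  exact ev_sigList_eq_one hperm h (by simpa using hw) w (by simp)

/-- A list of words that are all trivial in the presented group. -/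
theorem known_append {ws : List (List Nat)} (h : ∀ w ∈ ws, ev Lk w = 1)
    {rels : List (List Nat)} (hc : (rels.all fun w => (KD.rels ++ ws).contains w) = true) :
    ∀ w ∈ rels, ev Lk w = 1 := by
  intro w hw
  rcases List.mem_append.mp (List.contains_iff_mem.mp (List.all_eq_true.mp hc w hw)) with h' | h'
  · exact ev_numGens w h'
  · exact h w h'

/-- Membership from a checked slice. -/
theorem ev_mem_of_slice {H : Subgroup K0} {ws : List (List Nat)} (h : ∀ w ∈ ws, ev Lk w = 1)
    {E : Nat → Nat} {R : Tr (List Nat × Nat)} {rels subs : List (List Nat)}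
    {d d' N nC : Nat} {C : Nat → Nat} {w : List Nat} {loops : List (List Nat × Nat × Nat)}
    (hr : (rels.all fun w => (KD.rels ++ ws).contains w) = true)
    (hR : checkRules rels subs R = true) (hd : checkDefs E 5 d' N = true)
    (hc : checkChunks E ivK R 5 d N nC C = true)
    (hl : allList (checkLoop E ivK 5 (N + chunk * nC)) loops = true)
    (hsub : ∀ w ∈ subs, ev Lk w ∈ H) (hw : (loops.map Prod.fst).contains w = true) :
    ev Lk w ∈ H := by
  obtain ⟨q, hq, rfl⟩ := List.mem_map.mp (List.contains_iff_mem.mp hw)
  exact ev_mem_of_loops inv_Lk hR (length_Lk.symm ▸ hd) (length_Lk.symm ▸ hc)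
    (length_Lk.symm ▸ hl) (known_append h hr) hsub q hq

/-- An element of a finite subgroup with faithful image, trivial in the image, is trivial. -/
theorem eq_one_of_image {X Y : Type*} [Group X] [Group Y] (f : X →* Y) (H : Subgroup X) {m : Nat}
    (hf : Finite H) (hle : Nat.card H ≤ m) (him : m ≤ Nat.card (H.map f)) {g : X} (hg : g ∈ H)
    (h1 : f g = 1) : g = 1 := by
  have hb := (f.subgroupMap_surjective H).bijective_of_nat_card_le (hle.trans him)
  have : (⟨g, hg⟩ : H) = 1 := hb.1 (Subtype.ext (by simpa using h1))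
  exact congrArg Subtype.val this

end CfsgLib.Coset.HN
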