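import Cfsg.Agent.Coset.Prim

set_option autoImplicit false
set_option maxRecDepth 100000
set_option linter.unusedVariables false

namespace CfsgLib.Coset.HN.Cen

noncomputable def ELeaf (i : Nat) : Nat := (0x50000000000000500000000000005000000000000050000000000000500000000000005000000000000050000000000000500000000000005000000000000050000000000000500000000000005000000000000050000000000000500000000000005000000000000050000000000000500000000000005000000000000050000000000000500000000000005000000000000050000000000000500000000000005000000000000050000000000000500000000000005000000000000050000000000000500000000000005000000000000050000000000000500000000000005000000000000050000000000000500000000000005000000000000050000000000000500000000000005000000000000050000000000000500000000000005000000000000050000000000000500000000000005000000000000050000000000000500000000000005000000000000050000000000000500000000000005000000000000050000000000000500000000000005000000000000050000000000000500000000000005000000000000050000000000000500000000000005000000000000050000000000000200000000000505000000000006000000020000070000000700000002000006000005000000050000040000000400000303000003000002010000020000010100000100000005000000000000 : Nat)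
noncomputable def E (i : Nat) : Nat := Nat.shiftRight (ELeaf (Nat.shiftRight i 8)) (Nat.mul 56 (Nat.land i 255))

noncomputable def C (i : Nat) : Nat := (0x300000000000300000000000300000000000300000000000300000000000300000000000300000000000300000000000300000000000300000000000300000000000300000000000300000000000300000000000300000000000300000000000300000000000300000000000300000000000300000000000300000000000300000000000300000000000300000000000300000000000300000000000300000000000300000000000300000000000300000000000300000000000300000000000300000000000300000000000300000000000300000000000300000000000300000000000300000000000300000000000300000000000300000000000300000000000300000000000300000000000300000000000300000000000300000000000300000000000300000000000300000000000300000000000300000000000300000000000300000000000300000000000300000000000300000000000300000000000300000000000300000d00001300000200000200000c00000a00000800000600001000000e00000600000000000e000003000005000003000001 : Nat)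

def R : CfsgLib.Coset.Tr (List Nat × Nat) := .node (.node (.leaf ([0, 0, 3, 0, 0, 2], 518)) (.leaf ([3, 2], 5120))) (.node (.leaf ([0, 0, 0, 0], 3076)) (.leaf ([], 5632)))

def rels : List (List Nat) := [[2, 2, 2, 2, 2, 2], [0, 0, 2, 0, 0, 3], [1, 3, 0, 2, 1, 3, 0, 2, 1, 3, 0, 2], [1, 2, 2, 0, 2, 2, 2, 1, 2, 2, 0, 2, 2, 2, 1, 2, 2, 0, 2, 2, 2], [0, 2, 0, 2, 0, 2, 0, 2, 0, 2, 0, 2, 0, 2, 0, 2], [0, 2, 0, 2, 2, 2, 0, 2, 0, 2, 2, 2, 0, 2, 0, 2, 2, 2, 0, 2, 0, 2, 2, 2], [0, 0, 0, 0], [0, 1], [1, 0], [2, 3], [3, 2]]

def subs : List (List Nat) := []

def loops : List (List Nat × Nat × Nat) := [(([1, 1, 3, 0, 0, 2] : List Nat), (6, 0x1400000a000008000006000004000002))]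

end CfsgLib.Coset.HN.Cen
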