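import Cfsg.Agent.Coset.Sift

/-!
Data types and checker for derivations between double-coset representatives: an edge `⟨i, a, j, b⟩`
says that `H r_i a t = H r_j b`, a stabiliser entry `(j, s)` that `r_j s r_j⁻¹ ∈ H`.
-/

set_option autoImplicit false

namespace CfsgLib.Coset.HN

/-- An edge. -/
structure Edge where
  /-- start index -/
  i : Nat
  /-- start element -/
  a : Nat
  /-- end index -/
  j : Nat
  /-- end element -/
  b : Nat

/-- Use of an earlier edge. -/
structure Choice where
  /-- the edge -/
  f : Nat
  /-- the direction -/
  d : Nat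
  /-- the stabiliser factors -/
  w : List (Nat × Bool)
  /-- the index reached -/
  j : Nat
  /-- the element reached -/
  k : Nat

/-- Two paths from one start. -/
structure Paths where
  /-- start index -/
  i : Nat
  /-- start element -/
  k : Nat
  /-- the first word -/
  U : List Nat
  /-- its choices -/
  cU : List Choice
  /-- the second word -/
  V : List Nat
  /-- its choices -/
  cV : List Choice

/-- A step of the derivation. -/
inductive Item where
  | triv
  | defn
  | edge (p : Paths)
  | stab (p : Paths)

/-- A packed word. -/
noncomputable def up (e : Nat) : List Nat := unpack 256 e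

/-- The formal inverse of a word in seven letters. -/
noncomputable def inv7 (l : Nat) : Nat :=
  cond (Nat.ble 4 l) (cond (Nat.beq l 5) 6 (cond (Nat.beq l 6) 5 l))
    (cond (Nat.beq (Nat.land l 1) 0) (Nat.add l 1) (Nat.sub l 1))

/-- All letters of the five. -/
noncomputable def low (w : List Nat) : Bool := allList (fun x => Nat.ble (Nat.add x 1) 5) w

variable (Tb : Nat → Nat) (base : List Nat)

/-- Equal images of the base. -/
noncomputable def eqK (u v : List Nat) : Bool :=
  allList (fun b => Nat.beq (followF (tget Tb) b u) (followF (tget Tb) b v)) base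

variable (EL : List Edge) (SL : List (Nat × Nat))

/-- The product of stabiliser factors. -/
noncomputable def uWord (w : List (Nat × Bool)) : List Nat :=
  w.flatMap fun p => cond p.2 (up (SL.getD p.1 (0, 0)).2)
    (invWd inv7 (up (SL.getD p.1 (0, 0)).2))

/-- The factors are known stabiliser elements of `i`. -/
noncomputable def uOK (ns i : Nat) (w : List (Nat × Bool)) : Bool :=
  allList (fun p => cond (Nat.ble (Nat.add p.1 1) ns)
    (cond (Nat.beq (SL.getD p.1 (0, 0)).1 i) (low (up (SL.getD p.1 (0, 0)).2)) false) false) w

/-- One use of an edge from `(i, k)`. -/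
noncomputable def useOK (ne ns i : Nat) (k : List Nat) (d : Nat) (c : Choice) : Bool :=
  cond (Nat.ble (Nat.add c.f 1) ne) (cond (Nat.beq c.d d) (cond (uOK SL ns i c.w) (cond (low (up c.k))
    (cond (Nat.beq c.d 0)
      (cond (Nat.beq (EL.getD c.f ⟨0, 0, 0, 0⟩).i i)
        (cond (Nat.beq (EL.getD c.f ⟨0, 0, 0, 0⟩).j c.j)
          (cond (cond (low (up (EL.getD c.f ⟨0, 0, 0, 0⟩).a))
              (low (up (EL.getD c.f ⟨0, 0, 0, 0⟩).b)) false)
            (cond (Nat.beq (followF (tget Tb) 0
                (invWd inv7 (up (EL.getD c.f ⟨0, 0, 0, 0⟩).a) ++ uWord SL c.w ++ k)) 0)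
              (eqK Tb base (up c.k) (up (EL.getD c.f ⟨0, 0, 0, 0⟩).b ++
                (invWd inv7 (up (EL.getD c.f ⟨0, 0, 0, 0⟩).a) ++ uWord SL c.w ++ k))) false)
            false) false) false)
      (cond (Nat.beq c.d 1)
        (cond (Nat.beq (EL.getD c.f ⟨0, 0, 0, 0⟩).j i)
          (cond (Nat.beq (EL.getD c.f ⟨0, 0, 0, 0⟩).i c.j)
            (cond (cond (low (up (EL.getD c.f ⟨0, 0, 0, 0⟩).a))
                (low (up (EL.getD c.f ⟨0, 0, 0, 0⟩).b)) false)
              (cond (Nat.beq (followF (tget Tb) 0
                  (invWd inv7 (up (EL.getD c.f ⟨0, 0, 0, 0⟩).b) ++ uWord SL c.w ++ k)) 0)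
                (eqK Tb base (up c.k) (up (EL.getD c.f ⟨0, 0, 0, 0⟩).a ++
                  (invWd inv7 (up (EL.getD c.f ⟨0, 0, 0, 0⟩).b) ++ uWord SL c.w ++ k))) false)
              false) false) false) false)) false) false) false) false

/-- Follow a word from `(i, k)`. -/
noncomputable def runK (ne ns : Nat) : List Nat → List Choice → Nat → List Nat →
    (Nat → List Nat → Bool) → Bool :=
  fun U => List.rec (motive := fun _ => List Choice → Nat → List Nat → (Nat → List Nat → Bool) → Bool)
    (fun cs i k K => List.rec (K i k) (fun _ _ _ => false) cs)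
    (fun l _ ih cs i k K =>
      cond (Nat.ble (Nat.add l 1) 5) (ih cs i (k ++ [l]) K)
        (cond (Nat.ble l 6)
          (List.rec false (fun c t _ => cond (useOK Tb base EL SL ne ns i k (Nat.sub l 5) c)
            (ih t c.j (up c.k) K) false) cs) false)) U

/-- Equality of lists of numbers. -/
noncomputable def sameW (u v : List Nat) : Bool := wordEq u v

variable (RW : List Nat) (relW : List (List Nat))

/-- A word is one of the listed ones. -/
noncomputable def inW (w : List Nat) : Bool :=
  List.rec false (fun a _ ih => cond (wordEq a w) true ih) relW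

/-- The derivation is right. -/
noncomputable def checkItems : List Item → Nat → Nat → Bool :=
  fun its => List.rec (motive := fun _ => Nat → Nat → Bool)
    (fun ne ns => cond (Nat.beq ne EL.length) (Nat.beq ns SL.length) false)
    (fun it _ ih ne ns =>
      Item.rec
        (cond (Nat.ble (Nat.add ns 1) SL.length)
          (cond (low (up (SL.getD ns (0, 0)).2))
            (cond (cond (Nat.beq (SL.getD ns (0, 0)).1 0) true
                (cond (Nat.beq (SL.getD ns (0, 0)).1 1)
                  (cond (Nat.beq (followF (tget Tb) 0 (up (SL.getD ns (0, 0)).2)) 0)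
                    (sameW (up (RW.getD 1 0)) [5]) false) false))
              (ih ne (Nat.add ns 1)) false) false) false)
        (cond (Nat.ble (Nat.add ne 1) EL.length)
          (cond (low (up (EL.getD ne ⟨0, 0, 0, 0⟩).a))
            (cond (sameW (up (RW.getD (EL.getD ne ⟨0, 0, 0, 0⟩).j 0))
                (up (RW.getD (EL.getD ne ⟨0, 0, 0, 0⟩).i 0) ++
                  up (EL.getD ne ⟨0, 0, 0, 0⟩).a ++ [5]))
              (cond (Nat.beq (EL.getD ne ⟨0, 0, 0, 0⟩).b 0) (ih (Nat.add ne 1) ns) false)
              false) false) false)
        (fun p =>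
          cond (Nat.ble (Nat.add ne 1) EL.length)
            (cond (cond (low (up p.k))
                (inW relW (p.U ++ 5 :: invWd inv7 p.V)) false)
              (cond (runK Tb base EL SL ne ns p.U p.cU p.i (up p.k) fun a ka =>
                  runK Tb base EL SL ne ns p.V p.cV p.i (up p.k) fun b kb =>
                    cond (cond (Nat.beq (EL.getD ne ⟨0, 0, 0, 0⟩).i a)
                      (Nat.beq (EL.getD ne ⟨0, 0, 0, 0⟩).j b) false)
                      (cond (cond (low (up (EL.getD ne ⟨0, 0, 0, 0⟩).a))
                          (low (up (EL.getD ne ⟨0, 0, 0, 0⟩).b)) false)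
                        (cond (eqK Tb base (up (EL.getD ne ⟨0, 0, 0, 0⟩).a) ka)
                          (eqK Tb base (up (EL.getD ne ⟨0, 0, 0, 0⟩).b) kb) false) false) false)
                (ih (Nat.add ne 1) ns) false) false) false)
        (fun p =>
          cond (Nat.ble (Nat.add ns 1) SL.length)
            (cond (cond (low (up p.k))
                (inW relW (p.U ++ invWd inv7 p.V)) false)
              (cond (runK Tb base EL SL ne ns p.U p.cU p.i (up p.k) fun a ka =>
                  runK Tb base EL SL ne ns p.V p.cV p.i (up p.k) fun b kb =>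
                    cond (cond (Nat.beq (SL.getD ns (0, 0)).1 a)
                      (Nat.beq (SL.getD ns (0, 0)).1 b) false)
                      (cond (low (up (SL.getD ns (0, 0)).2))
                        (eqK Tb base (up (SL.getD ns (0, 0)).2) (kb ++ invWd inv7 ka)) false) false)
                (ih ne (Nat.add ns 1)) false) false) false)
        it) its

/-- Every point is reached from an edge of `i` by stabiliser elements of `i`. -/
noncomputable def checkPar (i n dn : Nat) (Par : Nat → Nat) : Bool :=
  allBelow dn n fun p =>
    cond (Nat.beq (field (Par p) 1) 0)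
      (cond (Nat.ble (Nat.add (field (Par p) 0) 1) EL.length)
        (cond (Nat.beq (EL.getD (field (Par p) 0) ⟨0, 0, 0, 0⟩).i i)
          (Nat.beq (followF (tget Tb) 0
            (invWd inv7 (up (EL.getD (field (Par p) 0) ⟨0, 0, 0, 0⟩).a))) p) false) false)
      (cond (Nat.ble (Nat.add (field (Par p) 0) 1) n)
        (cond (Nat.ble (field (Par p) 1) SL.length)
          (cond (Nat.beq (SL.getD (Nat.sub (field (Par p) 1) 1) (0, 0)).1 i)
            (cond (Nat.ble (Nat.add (field (Par (field (Par p) 0)) 2) 1) (field (Par p) 2))
              (Nat.beq (followF (tget Tb) (field (Par p) 0)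
                (up (SL.getD (Nat.sub (field (Par p) 1) 1) (0, 0)).2)) p) false) false) false) false)

end CfsgLib.Coset.HN
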