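import Cfsg.Agent.Coset.HN.KBound
import Cfsg.Agent.Coset.HN.CertData

/-!
Groups satisfying the relators of `Cfsg.Spor.HN` in seven letters: the image of the group on
`x, y, z`, the relations used in the derivation, and what commutes with `t`.
-/

set_option autoImplicit false
set_option maxRecDepth 100000
set_option Elab.async false

namespace CfsgLib.Coset.HN

/-- The relators on seven letters. -/
def relsG : List (List Nat) :=
  KD.rels ++ [[5, 5, 5, 5, 5], [1, 5, 0, 5, 5], [6, 3, 5, 2], [4, 5, 4, 5, 4, 5], [5, 6], [6, 5]]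

/-- The group element list satisfies the relators. -/
structure Frame {Γ : Type*} [Group Γ] (L : List Γ) : Prop where
  len : L.length = 7
  rel : ∀ w ∈ relsG, ev L w = 1

theorem low_iff {w : List Nat} (h : low w = true) : ∀ l ∈ w, l < 5 := fun l hl =>
  Nat.ble_eq.mp (allList_iff.mp h l hl)

variable {Γ : Type*} [Group Γ] {L : List Γ}

theorem fl_take {l : Nat} (hl : l < 5) : fl (L.take 5) l = fl L l := by
  simp [fl, List.getD_eq_getElem?_getD, List.getElem?_take, hl]

theorem ev_take : ∀ w : List Nat, (∀ l ∈ w, l < 5) → ev (L.take 5) w = ev L w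
  | [], _ => by simp
  | l :: w, h => by
    rw [ev_cons, ev_cons, fl_take (h l (by simp)), ev_take w fun x hx => h x (by simp [hx])]

theorem Frame.take_len (F : Frame L) : (L.take 5).length = 5 := by simp [F.len]

theorem Frame.take_rel (F : Frame L) : ∀ w ∈ KD.rels, ev (L.take 5) w = 1 := fun w hw => by
  rw [ev_take w ((by decide +kernel : ∀ w ∈ KD.rels, ∀ l ∈ w, l < 5) w hw)]
  exact F.rel w (List.mem_append_left _ hw)

/-- The map from the group on `x, y, z`. -/
noncomputable def Frame.ψ (F : Frame L) : K0 →* Γ := numHom F.take_len F.take_rel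

/-- Its image. -/
noncomputable def Frame.HH (F : Frame L) : Subgroup Γ := F.ψ.range

theorem Frame.ψ_ev (F : Frame L) {w : List Nat} (hw : ∀ l ∈ w, l < 5) :
    F.ψ (ev Lk w) = ev L w := by rw [Frame.ψ, numHom_ev, ev_take w hw]

theorem Frame.ψ_mem (F : Frame L) (k : K0) : F.ψ k ∈ F.HH := ⟨k, rfl⟩

theorem Frame.ev_mem (F : Frame L) {w : List Nat} (hw : ∀ l ∈ w, l < 5) : ev L w ∈ F.HH :=
  F.ψ_ev hw ▸ F.ψ_mem _

theorem Frame.inv7_fl (F : Frame L) (l : Nat) : fl L (inv7 l) = (fl L l)⁻¹ := by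
  rcases lt_or_ge l 7 with hl | hl
  · have key : ∀ l < 7, [l, inv7 l] ∈ relsG := by decide +kernel
    exact (inv_eq_of_mul_eq_one_right (by simpa using F.rel _ (key l hl))).symm
  · have e : inv7 l = l := by
      have h1 : Nat.ble 4 l = true := Nat.ble_eq.mpr (by omega)
      have h2 : Nat.beq l 5 = false := by
        cases h : Nat.beq l 5
        · rfl
        · exact absurd (Nat.eq_of_beq_eq_true h) (by omega)
      have h3 : Nat.beq l 6 = false := by
        cases h : Nat.beq l 6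
        · rfl
        · exact absurd (Nat.eq_of_beq_eq_true h) (by omega)
      simp only [inv7, h1, h2, h3, cond_true, cond_false]
    rw [e, fl_of_le _ (by rw [F.len]; omega), inv_one]

theorem Frame.ev_inv (F : Frame L) (w : List Nat) : ev L (invWd inv7 w) = (ev L w)⁻¹ :=
  ev_invWd F.inv7_fl w

theorem inv_Lk7 (l : Nat) (hl : l < 5) : fl Lk (inv7 l) = (fl Lk l)⁻¹ := by
  rw [← inv_Lk]
  congr 1
  interval_cases l <;> rfl

theorem invWd_low : ∀ {w : List Nat}, (∀ l ∈ w, l < 5) → ∀ l ∈ invWd inv7 w, l < 5 :=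
  fun {w} hw => invWd_letters (k := 5) (by decide +kernel) w hw

theorem ev_invWd_Lk : ∀ {w : List Nat}, (∀ l ∈ w, l < 5) →
    ev Lk (invWd inv7 w) = (ev Lk w)⁻¹ := by
  intro w
  induction w with
  | nil => simp [invWd]
  | cons a w ih =>
    intro hw
    show ev Lk (invWd inv7 w ++ [inv7 a]) = _
    rw [ev_append, ev_cons, ev_cons, ev_nil, mul_one, ih fun x hx => hw x (by simp [hx]),
      inv_Lk7 a (hw a (by simp)), mul_inv_rev]

/-- The base. -/
def baseK : List Nat := [0, 196, 16, 7]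

theorem baseStab_bot : baseStab σK [(0 : Fin 1408), 196, 16, 7] = ⊥ := by
  have hT : ∀ ws : List (List Nat), ∀ w ∈ ws, ev Lk w ∈ (⊤ : Subgroup K0) := fun _ _ _ => trivial
  have hl3 : checkLetters Lk.length KD.CK3G = true := by rw [length_Lk]; decide +kernel
  have hl2 : checkLetters Lk.length KD.CK2G = true := by rw [length_Lk]; decide +kernel
  have hl1 : checkLetters Lk.length KD.CK1G = true := by rw [length_Lk]; decide +kernel
  have hl0 : checkLetters Lk.length KD.CK0G = true := by rw [length_Lk]; decide +kernel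
  have h3 := orbit_step matches_σK (base := [(0 : Fin 1408), 196, 16]) (β := (7 : Fin 1408))
    (m := 2) (dm := 1) (gens := KD.CK3G) (P := KD.CK3P) (Inv := KD.CK3Inv)
    (by decide +kernel) hl3 (by decide +kernel) (M := Nat.card (baseStab σK [(0 : Fin 1408), 196, 16, 7])) le_rfl
  have h2 := orbit_step matches_σK (base := [(0 : Fin 1408), 196]) (β := (16 : Fin 1408))
    (m := 125) (dm := 7) (gens := KD.CK2G) (P := KD.CK2P) (Inv := KD.CK2Inv)
    (by decide +kernel) hl2 (by decide +kernel) h3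
  have h1 := orbit_step matches_σK (base := [(0 : Fin 1408)]) (β := (196 : Fin 1408))
    (m := 504) (dm := 9) (gens := KD.CK1G) (P := KD.CK1P) (Inv := KD.CK1Inv)
    (by decide +kernel) hl1 (by decide +kernel) h2
  have h0 := orbit_step matches_σK (base := ([] : List (Fin 1408))) (β := (0 : Fin 1408))
    (m := 1408) (dm := 11) (gens := KD.CK0G) (P := KD.CK0P) (Inv := KD.CK0Inv)
    (by decide +kernel) hl0 (by decide +kernel) h1
  have e : Nat.card (baseStab σK ([] : List (Fin 1408))) = 177408000 := by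
    simp [baseStab, card_K0.1]
  rw [e] at h0
  exact Subgroup.eq_bot_of_card_eq _ (le_antisymm (by omega) Nat.card_pos)

theorem ev_eq_of_eqK {u v : List Nat} (hu : ∀ l ∈ u, l < 5) (hv : ∀ l ∈ v, l < 5)
    (h : eqK KD.Tb baseK u v = true) : ev Lk u = ev Lk v := by
  rw [← mul_inv_eq_one, ← Subgroup.mem_bot, ← baseStab_bot]
  refine (mem_foldl_inf _ ⊤).mpr ⟨trivial, fun b hb => ?_⟩
  have hb' : (b : Nat) ∈ baseK :=
    (by decide : ∀ b ∈ [(0 : Fin 1408), 196, 16, 7], (b : Nat) ∈ baseK) b hb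
  have h1 := Nat.eq_of_beq_eq_true (allList_iff.mp h _ hb')
  rw [followF_eq, followF_eq] at h1
  have e : (σK (ev Lk u))⁻¹ b = (σK (ev Lk v))⁻¹ b := by
    apply Fin.ext
    rw [matches_σK.follow_eq u b (fun l hl => length_Lk.symm ▸ hu l hl),
      matches_σK.follow_eq v b (fun l hl => length_Lk.symm ▸ hv l hl), h1]
  rw [mem_pstab, map_mul, map_inv, Equiv.Perm.mul_apply, ← e]
  simp

/-- A word of words. -/
def expK (g : List (List Nat)) (v : List Nat) : List Nat := v.flatMap fun i => g.getD i []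

theorem ev_expK_mem {g : List (List Nat)} {T : Subgroup K0} (hg : ∀ w ∈ g, ev Lk w ∈ T) :
    ∀ v : List Nat, ev Lk (expK g v) ∈ T
  | [] => one_mem _
  | i :: v => by
    rw [expK, List.flatMap_cons, ev_append]
    refine mul_mem ?_ (ev_expK_mem hg v)
    rcases lt_or_ge i g.length with hi | hi
    · rw [List.getD_eq_getElem _ _ hi]; exact hg _ (List.getElem_mem hi)
    · rw [List.getD_eq_default _ _ hi]; exact one_mem _

theorem expK_low {g : List (List Nat)} (hg : ∀ w ∈ g, ∀ l ∈ w, l < 5) (v : List Nat) :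
    ∀ l ∈ expK g v, l < 5 := by
  intro l hl
  obtain ⟨a, -, ha⟩ := List.mem_flatMap.mp hl
  rcases lt_or_ge a g.length with hi | hi
  · rw [List.getD_eq_getElem _ _ hi] at ha; exact hg _ (List.getElem_mem hi) l ha
  · rw [List.getD_eq_default _ _ hi] at ha; simp at ha

/-- The words are equal to the listed expressions. -/
noncomputable def checkExpr (g ws vs : List (List Nat)) : Bool :=
  allList (fun i => cond (low (ws.getD i [])) (eqK KD.Tb baseK (ws.getD i []) (expK g (vs.getD i []))) false)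
    (List.range ws.length)

theorem mem_of_checkExpr {g ws vs : List (List Nat)} (h : checkExpr g ws vs = true)
    (hg : ∀ w ∈ g, ∀ l ∈ w, l < 5) {T : Subgroup K0} (hT : ∀ w ∈ g, ev Lk w ∈ T) :
    ∀ w ∈ ws, ev Lk w ∈ T := by
  intro w hw
  obtain ⟨i, hi, rfl⟩ := List.getElem_of_mem hw
  have h1 := allList_iff.mp h i (List.mem_range.mpr hi)
  rw [cond_false_eq_true, List.getD_eq_getElem _ _ hi] at h1
  rw [ev_eq_of_eqK (low_iff h1.1) (expK_low hg _) h1.2]
  exact ev_expK_mem hT _

/-- The stabiliser of the point `0` is generated by `y` and `x⁻¹yx`. -/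
theorem pstab_zero_eq : pstab σK (0 : Fin 1408) = genW Lk KD.CK1G := by
  set T := genW Lk KD.CK1G with hT
  have hl : checkLetters Lk.length KD.CK1G = true := by rw [length_Lk]; decide +kernel
  have hle : T ≤ pstab σK (0 : Fin 1408) :=
    genW_le_pstab matches_σK _ hl (by decide +kernel)
  have hg : ∀ w ∈ CD.gg1, ev Lk w ∈ T := by
    intro w hw
    obtain ⟨g, hg, h⟩ : ∃ g ∈ KD.CK1G, (∀ l ∈ g, l < 5) ∧ (w = g ∨ w = invWd inv7 g) :=
      (by decide +kernel : ∀ w ∈ CD.gg1, ∃ g ∈ KD.CK1G, (∀ l ∈ g, l < 5) ∧ (w = g ∨ w = invWd inv7 g)) w hw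
    rcases h.2 with rfl | rfl
    · exact ev_mem_genW hg
    · rw [ev_invWd_Lk h.1]; exact inv_mem (ev_mem_genW hg)
  have hgl : ∀ w ∈ CD.gg1, ∀ l ∈ w, l < 5 := by decide +kernel
  have h3 := orbit_step_in matches_σK T (base := [(0 : Fin 1408), 196, 16]) (β := (7 : Fin 1408))
    (m := 2) (dm := 1) (gens := KD.CK3G) (P := KD.CK3P) (Inv := KD.CK3Inv)
    (by decide +kernel) (by rw [length_Lk]; decide +kernel) (by decide +kernel)
    (mem_of_checkExpr (vs := CD.CK3V) (by decide +kernel) hgl hg)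
    (show 1 ≤ Nat.card (T ⊓ baseStab σK [(0 : Fin 1408), 196, 16, 7] : Subgroup K0) from Nat.card_pos)
  have h2 := orbit_step_in matches_σK T (base := [(0 : Fin 1408), 196]) (β := (16 : Fin 1408))
    (m := 125) (dm := 7) (gens := KD.CK2G) (P := KD.CK2P) (Inv := KD.CK2Inv)
    (by decide +kernel) (by rw [length_Lk]; decide +kernel) (by decide +kernel)
    (mem_of_checkExpr (vs := CD.CK2V) (by decide +kernel) hgl hg) h3
  have h1 := orbit_step_in matches_σK T (base := [(0 : Fin 1408)]) (β := (196 : Fin 1408))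
    (m := 504) (dm := 9) (gens := KD.CK1G) (P := KD.CK1P) (Inv := KD.CK1Inv)
    (by decide +kernel) hl (by decide +kernel) (fun _ => ev_mem_genW) h2
  have hb : (T ⊓ baseStab σK [(0 : Fin 1408)] : Subgroup K0) ≤ T := inf_le_left
  have h4 : 126000 ≤ Nat.card T := le_trans (by simpa using h1) (Nat.le_of_dvd Nat.card_pos
    (Subgroup.card_dvd_of_le hb))
  refine (Subgroup.eq_of_le_of_card_ge hle ?_).symm
  have h5 := card_orb_mul (ρ := σK) (⊤ : Subgroup K0) (0 : Fin 1408)
  have h6 := (matches_σK.orbit_le (β := (0 : Fin 1408)) (m := 1408) (dm := 11) (gens := KD.CK0G)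
    (P := KD.CK0P) (Inv := KD.CK0Inv) (by decide +kernel) (by rw [length_Lk]; decide +kernel)
    (S := ⊤) fun _ _ => trivial).1
  rw [top_inf_eq, Subgroup.card_top, card_K0.1] at h5
  have h7 : 1408 * Nat.card (pstab σK (0 : Fin 1408)) ≤ 177408000 := h5 ▸ Nat.mul_le_mul_right _ h6
  omega

theorem Frame.fl_one (F : Frame L) : fl L 1 = (fl L 0)⁻¹ := F.inv7_fl 0
theorem Frame.fl_three (F : Frame L) : fl L 3 = (fl L 2)⁻¹ := F.inv7_fl 2
theorem Frame.fl_six (F : Frame L) : fl L 6 = (fl L 5)⁻¹ := F.inv7_fl 5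

theorem Frame.t_pow_five (F : Frame L) : fl L 5 ^ 5 = 1 := by
  simpa [pow_succ, mul_assoc] using F.rel [5, 5, 5, 5, 5] (by decide +kernel)

theorem Frame.x_t_x (F : Frame L) : (fl L 0)⁻¹ * fl L 5 * fl L 0 = fl L 5 ^ 3 := by
  have h := F.rel [1, 5, 0, 5, 5] (by decide +kernel)
  simp only [ev_cons, ev_nil, mul_one, F.fl_one] at h
  have h5 := F.t_pow_five
  calc (fl L 0)⁻¹ * fl L 5 * fl L 0
      = ((fl L 0)⁻¹ * fl L 5 * fl L 0) * fl L 5 ^ 2 * fl L 5 ^ 3 := by
        rw [mul_assoc _ (fl L 5 ^ 2), ← pow_add, h5, mul_one]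
    _ = fl L 5 ^ 3 := by
        rw [pow_two, ← mul_assoc _ (fl L 5) (fl L 5)]
        simp only [mul_assoc] at h ⊢
        rw [← mul_assoc, ← mul_assoc, ← mul_assoc, ← mul_assoc] 
        simp only [← mul_assoc] at h
        rw [h, one_mul]

/-- The elements fixing the point `0` commute with `t`. -/
theorem Frame.comm_t (F : Frame L) {n : K0} (hn : σK n 0 = 0) :
    Commute (F.ψ n) (fl L 5) := by
  have hy : Commute (fl L 2) (fl L 5) := by
    have h := F.rel [6, 3, 5, 2] (by decide +kernel)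
    simp only [ev_cons, ev_nil, mul_one, F.fl_six, F.fl_three] at h
    show _ * _ = _ * _
    calc fl L 2 * fl L 5 = fl L 2 * fl L 5 * ((fl L 5)⁻¹ * ((fl L 2)⁻¹ * (fl L 5 * fl L 2))) := by
          rw [h, mul_one]
      _ = fl L 5 * fl L 2 := by simp [mul_assoc]
  have hy' : Commute (fl L 0 * fl L 2 * (fl L 0)⁻¹) (fl L 5) := by
    have e : fl L 5 = fl L 0 * fl L 5 ^ 3 * (fl L 0)⁻¹ := by rw [← F.x_t_x]; group
    rw [e]
    show _ * _ = _ * _
    calc fl L 0 * fl L 2 * (fl L 0)⁻¹ * (fl L 0 * fl L 5 ^ 3 * (fl L 0)⁻¹)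
        = fl L 0 * (fl L 2 * fl L 5 ^ 3) * (fl L 0)⁻¹ := by group
      _ = fl L 0 * (fl L 5 ^ 3 * fl L 2) * (fl L 0)⁻¹ := by rw [(hy.pow_right 3).eq]
      _ = _ := by group
  have hn' : n ∈ genW Lk KD.CK1G := pstab_zero_eq ▸ hn
  induction hn' using Subgroup.closure_induction with
  | mem v hv =>
    obtain ⟨w, hw, rfl⟩ := hv
    have hw' : w ∈ ([[2], [0, 2, 1]] : List (List Nat)) :=
      (by decide +kernel : ∀ w ∈ KD.CK1G, w ∈ ([[2], [0, 2, 1]] : List (List Nat))) w hw
    rw [F.ψ_ev ((by decide : ∀ w ∈ ([[2], [0, 2, 1]] : List (List Nat)), ∀ l ∈ w, l < 5) w hw')]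
    simp only [List.mem_cons, List.not_mem_nil, or_false] at hw'
    rcases hw' with rfl | rfl
    · simpa using hy
    · simpa [F.fl_one, mul_assoc] using hy'
  | one => rw [map_one]; exact Commute.one_left _
  | mul a b ha hb iha ihb =>
    rw [map_mul]; exact (iha (by rw [← mem_pstab, pstab_zero_eq]; exact ha)).mul_left
      (ihb (by rw [← mem_pstab, pstab_zero_eq]; exact hb))
  | inv a ha iha => rw [map_inv]; exact (iha (by rw [← mem_pstab, pstab_zero_eq]; exact ha)).inv_left

end CfsgLib.Coset.HN
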