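import Cfsg.Agent.HSGraph.RankThree
import Cfsg.Agent.Coset.HN.Frame
import Cfsg.Agent.Coset.HN.H100Data
import Cfsg.Prelude.Def_SporadicB
import Cfsg.Prelude.Def_Sporadic

/-!
The group on `x, y, z` acts on 100 points with kernel `⟨x²⟩`; its even part gives the Higman–Sims
group.
-/

set_option autoImplicit false
set_option maxRecDepth 100000
set_option Elab.async false

namespace CfsgLib.Coset.HN

open MulAction

theorem hperm100 : checkPerm ivK 100 5 7 3 H100.Tb = true := by decide +kernel

theorem hrels100 : checkRels 100 7 H100.Tb KD.rels = true := by decide +kernel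

theorem sig100_rels : ∀ w ∈ KD.rels, ev (sigList hperm100) w = 1 :=
  ev_sigList_eq_one hperm100 hrels100 (by decide +kernel)

theorem length_sig100 : (sigList hperm100).length = 5 := by simp [sigList]

/-- The action on 100 points. -/
noncomputable def σH : K0 →* Equiv.Perm (Fin 100) := numHom length_sig100 sig100_rels

theorem matches_σH : Matches Lk σH H100.Tb := by
  intro l hl i
  rw [σH, numHom_fl, fl_sigList, sig_symm_apply hperm100 (length_Lk ▸ hl)]

/-- The signs of the letters. -/
def εL : List ℤˣ := [1, 1, 1, 1, -1]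

theorem length_εL : εL.length = 5 := rfl

/-- The character of order two. -/
noncomputable def ε : K0 →* ℤˣ :=
  numHom (L := εL) length_εL (by decide +kernel : ∀ w ∈ KD.rels, ev εL w = 1)

/-- The even part. -/
noncomputable def Keven : Subgroup K0 := ε.ker

/-- An even number of `z`. -/
noncomputable def evenW : List Nat → Bool :=
  fun w => List.rec true (fun l _ ih => cond (Nat.beq l 4) (cond ih false true) ih) w

theorem ε_evenW : ∀ w : List Nat, (∀ l ∈ w, l < 5) →
    ε (ev Lk w) = cond (evenW w) 1 (-1)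
  | [], _ => by simp [evenW]
  | l :: w, h => by
    rw [ev_cons, map_mul, ε_evenW w fun x hx => h x (by simp [hx]), ε, numHom_fl]
    have hl : l < 5 := h l (by simp)
    show fl εL l * _ = cond (cond (Nat.beq l 4) (cond (evenW w) false true) (evenW w)) 1 (-1)
    interval_cases l <;> cases evenW w <;> decide +kernel

theorem ev_mem_Keven {w : List Nat} (hl : ∀ l ∈ w, l < 5) (h : evenW w = true) :
    ev Lk w ∈ Keven := by
  rw [Keven, MonoidHom.mem_ker, ε_evenW w hl, h, cond_true]

theorem x2_Keven : x2 ∈ Keven := by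
  rw [show x2 = ev Lk [0, 0] by simp [x2]]
  exact ev_mem_Keven (by decide) (by decide +kernel)

theorem σH_x2 : σH x2 = 1 := by
  rw [show x2 = ev Lk [0, 0] by simp [x2], σH, numHom_ev]
  exact ev_sigList_eq_one hperm100 (show checkRels 100 7 H100.Tb [[0, 0]] = true by decide +kernel)
    (by decide) _ (List.mem_singleton_self _)

theorem x2_ne : x2 ≠ 1 := fun h => σK_x2_ne (by rw [h, map_one])

/-! ### Chains of orbits -/

/-- A chain of orbits by allowed words is right. -/
noncomputable def chk100 (pr : List Nat → Bool) : List LevC → List Nat → Bool :=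
  fun ls => List.rec (motive := fun _ => List Nat → Bool) (fun _ => true)
    (fun V _ ih bs =>
      cond (cond (Nat.ble (Nat.add V.pt 1) 100)
        (allList (fun v => cond (low (up v)) (pr (up v)) false) V.gens) false)
      (cond (checkOrbit H100.Tb V.pt V.m V.dm (V.gens.map up) V.P V.Inv)
        (cond (checkFix H100.Tb bs (V.gens.map up)) (ih (bs ++ [V.pt])) false) false) false) ls

/-- The product of the orbit lengths. -/
def prodM (ls : List LevC) : Nat := (ls.map fun V => V.m).prod

theorem chk100_sound {pr : List Nat → Bool} {T : Subgroup K0}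
    (hT : ∀ w : List Nat, (∀ l ∈ w, l < 5) → pr w = true → ev Lk w ∈ T) (hx : x2 ∈ T) :
    ∀ (ls : List LevC) (base : List (Fin 100)), chk100 pr ls (base.map Fin.val) = true →
      prodM ls * 2 ≤ Nat.card (T ⊓ baseStab σH base : Subgroup K0) := by
  intro ls
  induction ls with
  | nil =>
    intro base _
    have hm : x2 ∈ T ⊓ baseStab σH base := by
      refine ⟨hx, (mem_foldl_inf base ⊤).mpr ⟨trivial, fun b _ => ?_⟩⟩
      rw [mem_pstab, σH_x2]; rfl
    haveI : Nontrivial (T ⊓ baseStab σH base : Subgroup K0) :=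
      ⟨⟨⟨x2, hm⟩, 1, fun h => x2_ne (congrArg Subtype.val h)⟩⟩
    have hc := Finite.one_lt_card (α := (T ⊓ baseStab σH base : Subgroup K0))
    rw [show prodM [] = 1 from rfl]
    omega
  | cons V t ih =>
    intro base h
    change cond (cond (Nat.ble (Nat.add V.pt 1) 100)
        (allList (fun v => cond (low (up v)) (pr (up v)) false) V.gens) false)
      (cond (checkOrbit H100.Tb V.pt V.m V.dm (V.gens.map up) V.P V.Inv)
        (cond (checkFix H100.Tb (base.map Fin.val) (V.gens.map up))
          (chk100 pr t (base.map Fin.val ++ [V.pt])) false) false) false = true at h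
    simp only [cond_false_eq_true] at h
    obtain ⟨⟨hpt, hlow⟩, horb, hfix, hrest⟩ := h
    have hp : V.pt < 100 := Nat.ble_eq.mp hpt
    have hg : ∀ v ∈ V.gens.map up, (∀ l ∈ v, l < 5) ∧ pr v = true := by
      intro v hv
      obtain ⟨e, he, rfl⟩ := List.mem_map.mp hv
      have := allList_iff.mp hlow e he
      rw [cond_false_eq_true] at this
      exact ⟨low_iff this.1, this.2⟩
    have hl : checkLetters Lk.length (V.gens.map up) = true := by
      rw [length_Lk]
      exact allList_iff.mpr fun v hv =>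
        allList_iff.mpr fun l hl => Nat.ble_eq.mpr ((hg v hv).1 l hl)
    have hrest' : chk100 pr t ((base ++ [(⟨V.pt, hp⟩ : Fin 100)]).map Fin.val) = true := by
      simpa using hrest
    have := orbit_step_in matches_σH T (base := base) (β := (⟨V.pt, hp⟩ : Fin 100)) (m := V.m)
      (dm := V.dm) (gens := V.gens.map up) (P := V.P) (Inv := V.Inv) horb hl hfix
      (fun v hv => hT v (hg v hv).1 (hg v hv).2) (ih _ hrest')
    simpa [prodM, mul_assoc] using this

theorem chain_full : chk100 (fun _ => true) H100.F [] = true := by decide +kernel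
theorem chain_even : chk100 evenW (H100.T ++ H100.B) [] = true := by decide +kernel
theorem chain_even' : chk100 evenW (H100.T ++ H100.C) [] = true := by decide +kernel
theorem chain_b : chk100 evenW H100.B.tail [0, 31] = true := by decide +kernel
theorem chain_c : chk100 evenW H100.C.tail [0, 1] = true := by decide +kernel

theorem ker_σH : σH.ker = Subgroup.zpowers x2 := by
  haveI := card_K0_le.1
  refine (Subgroup.eq_of_le_of_card_ge (Subgroup.zpowers_le.mpr σH_x2) ?_).symm
  have h2 : Nat.card (Subgroup.zpowers x2) = 2 := by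
    rw [Nat.card_zpowers]
    exact orderOf_eq_prime (by rw [pow_two]; exact x2_sq) x2_ne
  rw [h2]
  -- the chain leaves at most two elements fixing the base
  have h0 := orbit_step matches_σH (base := [(0 : Fin 100), 1, 2, 3]) (β := (7 : Fin 100))
    (m := 6) (dm := 3) (gens := (H100.F.getD 4 ⟨0, 0, 0, [], [], id, id⟩).gens.map up)
    (P := H100.F4P) (Inv := H100.F4Inv) (by decide +kernel) (by rw [length_Lk]; decide +kernel)
    (by decide +kernel) (card_ker_le [(0 : Fin 100), 1, 2, 3, 7])
  have h1 := orbit_step matches_σH (base := [(0 : Fin 100), 1, 2]) (β := (3 : Fin 100))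
    (m := 32) (dm := 5) (gens := (H100.F.getD 3 ⟨0, 0, 0, [], [], id, id⟩).gens.map up)
    (P := H100.F3P) (Inv := H100.F3Inv) (by decide +kernel) (by rw [length_Lk]; decide +kernel)
    (by decide +kernel) h0
  have h3 := orbit_step matches_σH (base := [(0 : Fin 100), 1]) (β := (2 : Fin 100))
    (m := 60) (dm := 6) (gens := (H100.F.getD 2 ⟨0, 0, 0, [], [], id, id⟩).gens.map up)
    (P := H100.F2P) (Inv := H100.F2Inv) (by decide +kernel) (by rw [length_Lk]; decide +kernel)
    (by decide +kernel) h1
  have h4 := orbit_step matches_σH (base := [(0 : Fin 100)]) (β := (1 : Fin 100))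
    (m := 77) (dm := 7) (gens := (H100.F.getD 1 ⟨0, 0, 0, [], [], id, id⟩).gens.map up)
    (P := H100.F1P) (Inv := H100.F1Inv) (by decide +kernel) (by rw [length_Lk]; decide +kernel)
    (by decide +kernel) h3
  have h5 := orbit_step matches_σH (base := ([] : List (Fin 100))) (β := (0 : Fin 100))
    (m := 100) (dm := 7) (gens := (H100.F.getD 0 ⟨0, 0, 0, [], [], id, id⟩).gens.map up)
    (P := H100.F0P) (Inv := H100.F0Inv) (by decide +kernel) (by rw [length_Lk]; decide +kernel)
    (by decide +kernel) h4
  have e : Nat.card (baseStab σH ([] : List (Fin 100))) = 177408000 := by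
    simp [baseStab, card_K0.1]
  rw [e] at h5
  omega

theorem ε_surjective : Function.Surjective ε := by
  intro u
  rcases Int.units_eq_one_or u with rfl | rfl
  · exact ⟨1, map_one _⟩
  · exact ⟨fl Lk 4, by rw [ε, numHom_fl]; rfl⟩

theorem index_Keven : Keven.index = 2 := by
  rw [Keven, Subgroup.index_ker, MonoidHom.range_eq_top.mpr ε_surjective, Subgroup.card_top,
    Nat.card_eq_fintype_card]
  rfl

theorem card_Keven : Nat.card Keven = 88704000 := by
  have := Keven.card_mul_index
  rw [index_Keven, card_K0.1] at this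
  omega

/-- The image of the even part. -/
noncomputable def HSim : Subgroup (Equiv.Perm (Fin 100)) := Keven.map σH

/-- The map onto it. -/
noncomputable def toHS : Keven →* HSim := σH.subgroupMap Keven

theorem toHS_surjective : Function.Surjective toHS := σH.subgroupMap_surjective Keven

theorem ker_toHS : toHS.ker = (Subgroup.zpowers x2).subgroupOf Keven := by
  ext v
  rw [MonoidHom.mem_ker, Subgroup.mem_subgroupOf, ← ker_σH, MonoidHom.mem_ker]
  exact ⟨fun h => congrArg Subtype.val h, fun h => Subtype.ext h⟩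

theorem card_ker_toHS : Nat.card toHS.ker = 2 := by
  rw [ker_toHS, Nat.card_congr (Subgroup.subgroupOfEquivOfLe
    (Subgroup.zpowers_le.mpr x2_Keven)).toEquiv, Nat.card_zpowers]
  exact orderOf_eq_prime (by rw [pow_two]; exact x2_sq) x2_ne

theorem card_HSim : Nat.card HSim = 44352000 := by
  have h := toHS.ker.card_mul_index
  rw [Subgroup.index_ker, MonoidHom.range_eq_top.mpr toHS_surjective, Subgroup.card_top,
    card_Keven, card_ker_toHS] at h
  omega

theorem orb_even_univ : orb σH Keven (0 : Fin 100) = Set.univ := by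
  have h := (matches_σH.orbit_le (β := (0 : Fin 100)) (m := 100) (dm := 7)
    (gens := (H100.T.getD 0 ⟨0, 0, 0, [], [], id, id⟩).gens.map up) (P := H100.T0P)
    (Inv := H100.T0Inv) (by decide +kernel) (by rw [length_Lk]; decide +kernel) (S := Keven)
    (fun w hw => by
      have key : ∀ w ∈ (H100.T.getD 0 ⟨0, 0, 0, [], [], id, id⟩).gens.map up,
          (∀ l ∈ w, l < 5) ∧ evenW w = true := by decide +kernel
      exact ev_mem_Keven (key w hw).1 (key w hw).2)).1
  exact Set.eq_of_subset_of_ncard_le (Set.subset_univ _) (by simpa using h) (Set.toFinite _)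

instance : IsPretransitive HSim (Fin 100) := by
  have key : ∀ p : Fin 100, ∃ g : HSim, g • (0 : Fin 100) = p := fun p => by
    obtain ⟨k, hk, e⟩ := (orb_even_univ ▸ Set.mem_univ p : p ∈ orb σH Keven (0 : Fin 100))
    exact ⟨⟨σH k, k, hk, rfl⟩, e⟩
  refine ⟨fun p q => ?_⟩
  obtain ⟨g, rfl⟩ := key p
  obtain ⟨h, rfl⟩ := key q
  exact ⟨h * g⁻¹, by rw [mul_smul, inv_smul_smul]⟩

theorem card_Keven_zero : Nat.card (Keven ⊓ pstab σH (0 : Fin 100) : Subgroup K0) = 887040 := by
  have h := card_orb_mul (ρ := σH) Keven (0 : Fin 100)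
  rw [orb_even_univ, Set.ncard_univ, Nat.card_fin, card_Keven] at h
  omega

theorem orbit_stab_eq (b : Fin 100) : orbit (stabilizer HSim (0 : Fin 100)) b =
    orb σH (Keven ⊓ pstab σH (0 : Fin 100)) b := by
  ext p
  constructor
  · rintro ⟨⟨⟨_, k, hk, rfl⟩, h0⟩, rfl⟩
    exact ⟨k, ⟨hk, h0⟩, rfl⟩
  · rintro ⟨k, ⟨hk, h0⟩, rfl⟩
    exact ⟨⟨⟨σH k, k, hk, rfl⟩, h0⟩, rfl⟩

theorem card_stab_HSim : Nat.card (stabilizer HSim (0 : Fin 100)) = 443520 := by
  have h := (stabilizer HSim (0 : Fin 100)).card_mul_index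
  rw [MulAction.index_stabilizer_of_transitive, Nat.card_fin, card_HSim] at h
  omega

theorem baseStab_pair (a b : Fin 100) :
    Keven ⊓ baseStab σH [a, b] = Keven ⊓ pstab σH a ⊓ pstab σH b := by
  simp [baseStab, inf_assoc]

theorem ncard_b : (orbit (stabilizer HSim (0 : Fin 100)) (31 : Fin 100)).ncard = 22 := by
  have h1 := chk100_sound (fun w => ev_mem_Keven) x2_Keven H100.B.tail [(0 : Fin 100), 31] chain_b
  have h2 := (matches_σH.orbit_le (β := (31 : Fin 100)) (m := 22) (dm := 5)
    (gens := (H100.B.getD 0 ⟨0, 0, 0, [], [], id, id⟩).gens.map up) (P := H100.B0P)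
    (Inv := H100.B0Inv) (by decide +kernel) (by rw [length_Lk]; decide +kernel)
    (S := Keven ⊓ pstab σH (0 : Fin 100))
    (fun w hw => by
      have key : ∀ w ∈ (H100.B.getD 0 ⟨0, 0, 0, [], [], id, id⟩).gens.map up,
          (∀ l ∈ w, l < 5) ∧ evenW w = true ∧ follow (tget H100.Tb) 0 w = 0 := by decide +kernel
      obtain ⟨k1, k2, k3⟩ := key w hw
      exact ⟨ev_mem_Keven k1 k2,
        (matches_σH.mem_pstab_iff _ fun l hl => length_Lk.symm ▸ k1 l hl).mpr k3⟩)).1
  have h3 := card_orb_mul (ρ := σH) (Keven ⊓ pstab σH (0 : Fin 100)) (31 : Fin 100)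
  have e : prodM H100.B.tail = 20160 := by decide +kernel
  rw [card_Keven_zero] at h3
  rw [baseStab_pair, e] at h1
  rw [orbit_stab_eq]
  nlinarith

theorem ncard_c : (orbit (stabilizer HSim (0 : Fin 100)) (1 : Fin 100)).ncard = 77 := by
  have h1 := chk100_sound (fun w => ev_mem_Keven) x2_Keven H100.C.tail [(0 : Fin 100), 1] chain_c
  have h2 := (matches_σH.orbit_le (β := (1 : Fin 100)) (m := 77) (dm := 7)
    (gens := (H100.C.getD 0 ⟨0, 0, 0, [], [], id, id⟩).gens.map up) (P := H100.C0P)
    (Inv := H100.C0Inv) (by decide +kernel) (by rw [length_Lk]; decide +kernel)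
    (S := Keven ⊓ pstab σH (0 : Fin 100))
    (fun w hw => by
      have key : ∀ w ∈ (H100.C.getD 0 ⟨0, 0, 0, [], [], id, id⟩).gens.map up,
          (∀ l ∈ w, l < 5) ∧ evenW w = true ∧ follow (tget H100.Tb) 0 w = 0 := by decide +kernel
      obtain ⟨k1, k2, k3⟩ := key w hw
      exact ⟨ev_mem_Keven k1 k2,
        (matches_σH.mem_pstab_iff _ fun l hl => length_Lk.symm ▸ k1 l hl).mpr k3⟩)).1
  have h3 := card_orb_mul (ρ := σH) (Keven ⊓ pstab σH (0 : Fin 100)) (1 : Fin 100)
  have e : prodM H100.C.tail = 5760 := by decide +kernel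
  rw [card_Keven_zero] at h3
  rw [baseStab_pair, e] at h1
  rw [orbit_stab_eq]
  nlinarith

/-- The image is the Higman–Sims group. -/
theorem HSim_equiv : Nonempty (HSim ≃* Cfsg.Spor.HS) := by
  obtain ⟨e⟩ := Cfsg.Agent.HSGraph.RankThree.nonempty_equiv (G := HSim) (a := (0 : Fin 100))
    (b := (31 : Fin 100)) (c := (1 : Fin 100)) (Fintype.card_fin 100) ncard_b ncard_c card_stab_HSim
  obtain ⟨f⟩ := Cfsg.Agent.HSGraph.Lat.nonempty_equiv_spor
  exact ⟨e.trans f.symm⟩

theorem simple_HSim : IsSimpleGroup HSim := by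
  obtain ⟨e⟩ := HSim_equiv
  obtain ⟨f⟩ := Cfsg.Agent.HSGraph.Lat.nonempty_equiv_spor
  haveI := (Cfsg.Agent.HSGraph.isHS_evenAut Cfsg.Agent.HSGraph.restBlocks_steiner
    Cfsg.Agent.HSGraph.card_rest).1
  exact (e.trans f).isSimpleGroup

/-- The centre of the image is trivial. -/
theorem center_HSim : Subgroup.center HSim = ⊥ := by
  haveI := simple_HSim
  rcases (Subgroup.center HSim).normal_of_characteristic.eq_bot_or_eq_top with h | h
  · exact h
  · exfalso
    letI : CommGroup HSim :=
      { (inferInstance : Group HSim) with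
        mul_comm := fun a b => (Subgroup.mem_center_iff.mp (h ▸ Subgroup.mem_top b) a) }
    have hp : (Nat.card HSim).Prime := IsSimpleGroup.prime_card
    rw [card_HSim] at hp
    norm_num at hp

theorem center_Keven : Subgroup.center Keven = toHS.ker := by
  refine le_antisymm (fun v hv => ?_) (fun v hv => ?_)
  · rw [MonoidHom.mem_ker, ← Subgroup.mem_bot, ← center_HSim, Subgroup.mem_center_iff]
    intro q
    obtain ⟨u, rfl⟩ := toHS_surjective q
    rw [← map_mul, ← map_mul, Subgroup.mem_center_iff.mp hv u]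
  · rw [ker_toHS, Subgroup.mem_subgroupOf, Subgroup.mem_zpowers_iff] at hv
    obtain ⟨n, hn⟩ := hv
    refine Subgroup.mem_center_iff.mpr fun u => Subtype.ext ?_
    show (u : K0) * v = v * u
    rw [← hn]
    exact ((show Commute (u : K0) x2 from x2_comm _).zpow_right n).eq

/-- The even part is a non-split double cover. -/
theorem cover_Keven : Cfsg.IsNonsplitDoubleCover Keven Cfsg.Spor.HS := by
  obtain ⟨e⟩ := HSim_equiv
  refine ⟨center_Keven ▸ card_ker_toHS, ⟨((QuotientGroup.quotientMulEquivOfEq center_Keven).trans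
    (QuotientGroup.quotientKerEquivOfSurjective toHS toHS_surjective)).trans e⟩, fun L hL => ?_⟩
  have hi : L.index = 2 := by rw [hL.index_eq_card, center_Keven, card_ker_toHS]
  have hx : fl Lk 0 ∈ Keven := by
    rw [show fl Lk 0 = ev Lk [0] by simp]
    exact ev_mem_Keven (by decide) (by decide +kernel)
  have h1 : (⟨x2, x2_Keven⟩ : Keven) ∈ L := by
    have := Subgroup.sq_mem_of_index_two hi (⟨fl Lk 0, hx⟩ : Keven)
    rwa [pow_two] at this
  have h2 : (⟨x2, x2_Keven⟩ : Keven) ∈ Subgroup.center Keven := by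
    rw [center_Keven, ker_toHS, Subgroup.mem_subgroupOf]
    exact Subgroup.mem_zpowers x2
  have := Subgroup.disjoint_def.mp hL.disjoint h2 h1
  exact x2_ne (congrArg Subtype.val this)

end CfsgLib.Coset.HN
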