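import Cfsg.Agent.Coset.HN.Group
import Cfsg.Agent.Coset.HN.HS

/-!
The subgroup on `x, y, z` of the presented group has a non-split double cover of the Higman–Sims
group of index two.
-/

set_option autoImplicit false
set_option maxRecDepth 100000
set_option Elab.async false

namespace CfsgLib.Coset.HN

theorem cover_congr {X : Type*} [Group X] (e : X ≃* Keven) :
    Cfsg.IsNonsplitDoubleCover X Cfsg.Spor.HS := by
  obtain ⟨hc, ⟨q⟩, hns⟩ := cover_Keven
  refine ⟨(Nat.card_congr (Subgroup.centerCongr e).toEquiv).trans hc, ⟨?_⟩, fun L hL => ?_⟩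
  · refine (QuotientGroup.congr (Subgroup.center X) (Subgroup.center Keven) e ?_).trans q
    ext v
    rw [Subgroup.mem_map]
    constructor
    · rintro ⟨u, hu, rfl⟩
      exact (Subgroup.centerCongr e ⟨u, hu⟩).2
    · intro hv
      exact ⟨e.symm v, ((Subgroup.centerCongr e).symm ⟨v, hv⟩).2, e.apply_symm_apply v⟩
  · have hi : L.index = 2 := by
      rw [hL.index_eq_card, Nat.card_congr (Subgroup.centerCongr e).toEquiv, hc]
    have hx : fl Lk 0 ∈ Keven := by
      rw [show fl Lk 0 = ev Lk [0] by simp]
      exact ev_mem_Keven (by decide) (by decide +kernel)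
    have h1 : e.symm ⟨x2, x2_Keven⟩ ∈ L := by
      have := Subgroup.sq_mem_of_index_two hi (e.symm (⟨fl Lk 0, hx⟩ : Keven))
      rwa [← map_pow, pow_two] at this
    have h2 : e.symm ⟨x2, x2_Keven⟩ ∈ Subgroup.center X := by
      refine ((Subgroup.centerCongr e).symm ⟨⟨x2, x2_Keven⟩, ?_⟩).2
      rw [center_Keven, ker_toHS, Subgroup.mem_subgroupOf]
      exact Subgroup.mem_zpowers x2
    have := congrArg e (Subgroup.disjoint_def.mp hL.disjoint h2 h1)
    rw [MulEquiv.apply_symm_apply, map_one] at this
    exact x2_ne (congrArg Subtype.val this)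

/-- The equivalence with the subgroup. -/
noncomputable def eHX : K0 ≃* HX := MonoidHom.ofInjective ψg_injective

theorem exists_cover_HX :
    ∃ K : Subgroup HX, K.Normal ∧ K.index = 2 ∧ Cfsg.IsNonsplitDoubleCover K Cfsg.Spor.HS := by
  haveI : Keven.Normal := ε.normal_ker
  refine ⟨Keven.map eHX.toMonoidHom, Subgroup.Normal.map inferInstance _ eHX.surjective, ?_, ?_⟩
  · exact (Subgroup.index_map_equiv Keven eHX).trans index_Keven
  · exact cover_congr (Keven.equivMapOfInjective eHX.toMonoidHom eHX.injective).symm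

end CfsgLib.Coset.HN
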