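import Cfsg.Agent.Coset.Prim

set_option autoImplicit false
set_option maxRecDepth 100000
set_option linter.unusedVariables false

namespace CfsgLib.Coset.HN.TZ

noncomputable def ELeaf (i : Nat) : Nat := (0x30000000000000300000000000003000000000000030000000000000300000000000003000000000000030000000000000300000000000003000000000000030000000000000300000000000003000000000000030000000000000300000000000003000000000000030000000000000300000000000003000000000000030000000000000300000000000003000000000000030000000000000300000000000003000000000000030000000000000300000000000003000000000000030000000000000300000000000003000000000000030000000000000300000000000003000000000000030000000000000300000000000003000000000000030000000000000300000000000003000000000000030000000000000300000000000003000000000000030000000000000300000000000003000000000000030000000000000300000000000003000000000000030000000000000300000000000003000000000000030000000000000300000000000003000000000000030000000000000300000000000003000000000000030000000000000300000000000003000000000000030000000000000300000000000000000001000001000000000000000200000100000003000000000000 : Nat)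
noncomputable def E (i : Nat) : Nat := Nat.shiftRight (ELeaf (Nat.shiftRight i 8)) (Nat.mul 56 (Nat.land i 255))

noncomputable def C (i : Nat) : Nat := (0x1000000000001000000000001000000000001000000000001000000000001000000000001000000000001000000000001000000000001000000000001000000000001000000000001000000000001000000000001000000000001000000000001000000000001000000000001000000000001000000000001000000000001000000000001000000000001000000000001000000000001000000000001000000000001000000000001000000000001000000000001000000000001000000000001000000000001000000000001000000000001000000000001000000000001000000000001000000000001000000000001000000000001000000000001000000000001000000000001000000000001000000000001000000000001000000000001000000000001000000000001000000000001000000000001000000000001000000000001000000000001000000000001000000000001000000000001000000000001000000000001000000000001000002000004000003000003000000000000000002 : Nat)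

noncomputable def TbLeaf (i : Nat) : Nat := (0x1000001000001000000000000 : Nat)
noncomputable def Tb (i : Nat) : Nat := Nat.shiftRight (TbLeaf (Nat.shiftRight i 7)) (Nat.mul 72 (Nat.land i 127))

noncomputable def RefLeaf (i : Nat) : Nat := (0x3000007000006000002000005000004 : Nat)
noncomputable def Ref (i : Nat) : Nat := Nat.shiftRight (RefLeaf (Nat.shiftRight i 7)) (Nat.mul 72 (Nat.land i 127))

noncomputable def Rep0Leaf (i : Nat) : Nat := (0x1000000 : Nat)
noncomputable def Rep0 (i : Nat) : Nat := Nat.shiftRight (Rep0Leaf (Nat.shiftRight i 8)) (Nat.mul 24 (Nat.land i 255))

noncomputable def Rep (i : Nat) : Nat := Nat.land (Rep0 i) 16777215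

noncomputable def ParLeaf (i : Nat) : Nat := (0x2000000000000000000 : Nat)
noncomputable def Par (i : Nat) : Nat := Nat.shiftRight (ParLeaf (Nat.shiftRight i 8)) (Nat.mul 48 (Nat.land i 255))

def R : CfsgLib.Coset.Tr (List Nat × Nat) := .node (.node (.leaf ([2, 0, 2, 0], 2052)) (.leaf ([255, 0], 3))) (.node (.leaf ([], 2560)) (.leaf ([2, 0, 2, 0], 2052)))

def subs : List (List Nat) := [[0]]

end CfsgLib.Coset.HN.TZ

def CfsgLib.Coset.HN.TZ.rels : List (List Nat) := [[0, 1], [1, 0], [2, 2], [0, 0, 0, 0], [2, 0, 2, 0]]
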