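import Cfsg.Agent.Coset.HN.Base
import Cfsg.Agent.Coset.HN.X4Data
import Cfsg.Agent.Coset.HN.CenData
import Cfsg.Agent.Coset.HN.DihData
import Cfsg.Agent.Coset.HN.CWData
import Cfsg.Agent.Coset.HN.CYData
import Cfsg.Agent.Coset.HN.C1Data
import Cfsg.Agent.Coset.HN.TDData
import Cfsg.Agent.Coset.HN.TZData

/-!
Derived relations in the group on `x, y, z`: `x` has order dividing 4 with central square, and the
commutator `[x, y⁻²xyxyxy⁻²]` is trivial.
-/

set_option autoImplicit false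
set_option maxRecDepth 100000
set_option Elab.async false

namespace CfsgLib.Coset.HN

/-- The word `y x y x y² x y⁻¹` of the relators. -/
def wW : List Nat := [2, 0, 2, 0, 2, 2, 0, 3]
/-- The commutator of `x` and `y⁻²xyxyxy⁻²`. -/
def cW : List Nat := [1, 2, 2, 1, 3, 1, 3, 1, 2, 2, 0, 3, 3, 0, 2, 0, 2, 0, 3, 3]
/-- The commutator of `cW` and `y`. -/
def cyW : List Nat := [2, 2, 1, 3, 1, 3, 1, 2, 2, 1, 3, 3, 0, 2, 0, 2, 0, 3, 3, 0, 3, 1, 2, 2, 1, 3, 1, 3, 1, 2, 2, 0, 3, 3, 0, 2, 0, 2, 0, 3, 3, 2]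
/-- The commutator of `cW` and `z`. -/
def czW : List Nat := [2, 2, 1, 3, 1, 3, 1, 2, 2, 1, 3, 3, 0, 2, 0, 2, 0, 3, 3, 0, 4, 1, 2, 2, 1, 3, 1, 3, 1, 2, 2, 0, 3, 3, 0, 2, 0, 2, 0, 3, 3, 4]
/-- `(xy³)¹²`. -/
def dihW : List Nat := [0, 2, 2, 2, 0, 2, 2, 2, 0, 2, 2, 2, 0, 2, 2, 2, 0, 2, 2, 2, 0, 2, 2, 2, 0, 2, 2, 2, 0, 2, 2, 2, 0, 2, 2, 2, 0, 2, 2, 2, 0, 2, 2, 2, 0, 2, 2, 2]
/-- The relations known so far. -/
def ws2 : List (List Nat) := [[0, 0, 0, 0], [1, 1, 3, 0, 0, 2]]

theorem nil_known : ∀ w ∈ ([] : List (List Nat)), ev Lk w = 1 := by simp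

theorem x_pow_four : ev Lk [0, 0, 0, 0] = 1 :=
  Subgroup.mem_bot.mp (ev_mem_of_slice (E := X4.E) (R := X4.R) (rels := X4.rels) (subs := X4.subs)
    (d := 1) (d' := 7) (N := 113) (nC := 2) (C := X4.C) (loops := X4.loops) nil_known
    (by decide +kernel) (by decide +kernel) (by decide +kernel) (by decide +kernel)
    (by decide +kernel) (by simp [X4.subs]) (by decide +kernel))

theorem ws1_known : ∀ w ∈ [([0, 0, 0, 0] : List Nat)], ev Lk w = 1 := by simp [x_pow_four, -ev_cons]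

theorem x_sq_comm_y : ev Lk [1, 1, 3, 0, 0, 2] = 1 :=
  Subgroup.mem_bot.mp (ev_mem_of_slice (E := Cen.E) (R := Cen.R) (rels := Cen.rels) (subs := Cen.subs)
    (d := 1) (d' := 3) (N := 8) (nC := 1) (C := Cen.C) (loops := Cen.loops) ws1_known
    (by decide +kernel) (by decide +kernel) (by decide +kernel) (by decide +kernel)
    (by decide +kernel) (by simp [Cen.subs]) (by decide +kernel))

theorem ws2_known : ∀ w ∈ ws2, ev Lk w = 1 := by
  simp [ws2, x_pow_four, x_sq_comm_y, -ev_cons]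

theorem dih_rel : ev Lk dihW = 1 :=
  Subgroup.mem_bot.mp (ev_mem_of_slice (E := Dih.E) (R := Dih.R) (rels := Dih.rels) (subs := Dih.subs)
    (d := 1) (d' := 8) (N := 253) (nC := 2) (C := Dih.C) (loops := Dih.loops) ws2_known
    (by decide +kernel) (by decide +kernel) (by decide +kernel) (by decide +kernel)
    (by decide +kernel) (by simp [Dih.subs]) (by decide +kernel))

theorem ws3_known : ∀ w ∈ ws2 ++ [dihW], ev Lk w = 1 := by
  simp [ws2, x_pow_four, x_sq_comm_y, dih_rel, -ev_cons]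

theorem c_mem_wx : ev Lk cW ∈ genW Lk [wW, [0]] :=
  (ev_mem_of_slice (E := CW.E) (R := CW.R) (rels := CW.rels) (subs := CW.subs)
    (d := 6) (d' := 11) (N := 1873) (nC := 38) (C := CW.C) (loops := CW.loops) ws3_known
    (by decide +kernel) (by decide +kernel) (by decide +kernel) (by decide +kernel)
    (by decide +kernel) (fun v hv => ev_mem_genW ((by decide +kernel : ∀ v ∈ CW.subs, v ∈ [wW, [0]]) v hv)) (by decide +kernel))

/-- The square of `x`. -/
noncomputable def x2 : K0 := fl Lk 0 * fl Lk 0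

theorem x2_sq : x2 * x2 = 1 := by
  simpa [x2, mul_assoc] using x_pow_four

theorem y_x2 : fl Lk 2 * x2 = x2 * fl Lk 2 := by
  have h := x_sq_comm_y
  simp only [ev_cons, ev_nil, mul_one] at h
  rw [show fl Lk 1 = (fl Lk 0)⁻¹ from inv_Lk 0, show fl Lk 3 = (fl Lk 2)⁻¹ from inv_Lk 2] at h
  have h' : x2⁻¹ * ((fl Lk 2)⁻¹ * (x2 * fl Lk 2)) = 1 := by
    simpa [x2, mul_assoc, mul_inv_rev] using h
  rw [inv_mul_eq_one] at h'
  conv_lhs => rw [h']
  rw [mul_inv_cancel_left]

theorem z_sq : fl Lk 4 * fl Lk 4 = 1 := by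
  simpa using ev_numGens (k := 5) (rels := KD.rels) [4, 4] (by decide +kernel)

theorem z_x2 : fl Lk 4 * x2 = x2 * fl Lk 4 := by
  have h := ev_numGens (k := 5) (rels := KD.rels) [4, 0, 4, 0] (by decide +kernel)
  simp only [ev_cons, ev_nil, mul_one] at h
  have h1 : fl Lk 4 * fl Lk 0 * fl Lk 4 = (fl Lk 0)⁻¹ :=
    eq_inv_of_mul_eq_one_left (by simpa [mul_assoc] using h)
  have e : fl Lk 4 * x2 * fl Lk 4 = x2⁻¹ := by
    calc fl Lk 4 * x2 * fl Lk 4
        = (fl Lk 4 * fl Lk 0 * fl Lk 4) * (fl Lk 4 * fl Lk 0 * fl Lk 4) := by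
          simp only [x2, mul_assoc]
          rw [← mul_assoc (fl Lk 4) (fl Lk 4), z_sq, one_mul]
      _ = x2⁻¹ := by rw [h1, x2, mul_inv_rev]
  rw [inv_eq_of_mul_eq_one_right x2_sq] at e
  calc fl Lk 4 * x2 = fl Lk 4 * x2 * fl Lk 4 * fl Lk 4 := by rw [mul_assoc _ (fl Lk 4), z_sq, mul_one]
    _ = x2 * fl Lk 4 := by rw [e]

theorem x2_comm (g : K0) : g * x2 = x2 * g := by
  have hg : g ∈ Subgroup.closure {y | y ∈ Lk} := closure_numGens ▸ Subgroup.mem_top g
  have key : ∀ l, l < 5 → Commute (fl Lk l) x2 := by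
    have c0 : Commute (fl Lk 0) x2 := (Commute.refl _).mul_right (Commute.refl _)
    intro l hl
    interval_cases l
    · exact c0
    · rw [show fl Lk 1 = (fl Lk 0)⁻¹ from inv_Lk 0]; exact c0.inv_left
    · exact y_x2
    · rw [show fl Lk 3 = (fl Lk 2)⁻¹ from inv_Lk 2]; exact (show Commute _ _ from y_x2).inv_left
    · exact z_x2
  suffices Commute g x2 from this
  induction hg using Subgroup.closure_induction with
  | mem v hv =>
    obtain ⟨l, hl, rfl⟩ := List.getElem_of_mem hv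
    have := key l (length_Lk ▸ hl)
    rwa [fl, List.getD_eq_getElem _ _ hl] at this
  | one => exact Commute.one_left _
  | mul a b _ _ ha hb => exact ha.mul_left hb
  | inv a _ ha => exact ha.inv_left

theorem x2_normal : (Subgroup.zpowers x2).Normal :=
  ⟨fun n hn g => by
    obtain ⟨k, rfl⟩ := Subgroup.mem_zpowers_iff.mp hn
    rw [((show Commute g x2 from x2_comm g).zpow_right k).eq, mul_inv_cancel_right]
    exact hn⟩

theorem σK_x2_ne : σK x2 ≠ 1 := by
  intro h
  have h1 := matches_σK.follow_eq [0, 0] ⟨0, by norm_num⟩ (by rw [length_Lk]; decide)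
  rw [show ev Lk [0, 0] = x2 by simp [x2], h] at h1
  exact (by decide +kernel : ¬ 0 = follow (tget KD.Tb) 0 [0, 0]) (by simpa using h1)

theorem c_comm_z : ev Lk czW = 1 := by
  haveI := x2_normal
  set q := QuotientGroup.mk' (Subgroup.zpowers x2) with hq
  have hx2 : q x2 = 1 := (QuotientGroup.eq_one_iff _).mpr (Subgroup.mem_zpowers _)
  have hz : q (fl Lk 4) * q (fl Lk 4) = 1 := by rw [← map_mul, z_sq, map_one]
  have hS : ∀ g ∈ genW Lk [wW, [0]], Commute (q (fl Lk 4)) (q g) := by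
    intro g hg
    induction hg using Subgroup.closure_induction with
    | mem v hv =>
      obtain ⟨u, hu, rfl⟩ := hv
      rcases List.mem_cons.mp hu with rfl | hu
      · have h : fl Lk 4 * (ev Lk [2, 1, 3, 3, 1, 3, 1, 3] * (fl Lk 4 * (ev Lk [2, 0, 2, 0, 2, 2, 0, 3] * ev Lk [1, 1]))) = 1 := by
          have h := ev_numGens (k := 5) (rels := KD.rels) ([4] ++ [2, 1, 3, 3, 1, 3, 1, 3] ++ [4] ++ [2, 0, 2, 0, 2, 2, 0, 3] ++ [1, 1])
            (by decide +kernel)
          simp only [ev_append, mul_assoc] at h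
          simpa [ev, mul_assoc] using h
        have e1 : ev Lk [2, 1, 3, 3, 1, 3, 1, 3] = (ev Lk wW)⁻¹ :=
          (inv_eq_of_mul_eq_one_right (by
            have := invW_ev wW
            simpa [wW, invW, ivK] using this)).symm
        have e2 : q (ev Lk [1, 1]) = 1 := by
          rw [show ev Lk [1, 1] = x2⁻¹ by
            simp [x2, show fl Lk 1 = (fl Lk 0)⁻¹ from inv_Lk 0], map_inv, hx2, inv_one]
        have h' := congrArg q h
        simp only [map_mul, e1, map_inv, e2, map_one, mul_one,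
          show ev Lk [2, 0, 2, 0, 2, 2, 0, 3] = ev Lk wW from rfl] at h'
        have : q (fl Lk 4) * (q (ev Lk wW))⁻¹ * q (fl Lk 4) * q (ev Lk wW) = 1 := by
          simpa [mul_assoc] using h'
        have h3 : q (fl Lk 4) * (q (ev Lk wW))⁻¹ * q (fl Lk 4) = (q (ev Lk wW))⁻¹ :=
          eq_inv_of_mul_eq_one_left this
        have h4 : Commute (q (fl Lk 4)) (q (ev Lk wW))⁻¹ := by
          show _ * _ = _ * _
          calc q (fl Lk 4) * (q (ev Lk wW))⁻¹
              = q (fl Lk 4) * (q (ev Lk wW))⁻¹ * q (fl Lk 4) * q (fl Lk 4) := by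
                rw [mul_assoc _ (q (fl Lk 4)), hz, mul_one]
            _ = (q (ev Lk wW))⁻¹ * q (fl Lk 4) := by rw [h3]
        exact Commute.inv_right_iff.mp h4
      · rw [List.mem_singleton.mp hu]
        have h := ev_numGens (k := 5) (rels := KD.rels) [4, 0, 4, 0] (by decide +kernel)
        have h' := congrArg q h
        simp only [ev_cons, ev_nil, mul_one, map_mul, map_one] at h'
        have hx : q (fl Lk 0) * q (fl Lk 0) = 1 := by rw [← map_mul, ← x2, hx2]
        have h3 : q (fl Lk 4) * q (fl Lk 0) * q (fl Lk 4) = q (fl Lk 0) := by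
          rw [eq_inv_of_mul_eq_one_left (show q (fl Lk 4) * q (fl Lk 0) * q (fl Lk 4) * q (fl Lk 0) = 1
            by simpa [mul_assoc] using h')]
          exact inv_eq_of_mul_eq_one_right hx
        show Commute _ (q (ev Lk [0]))
        simp only [ev_cons, ev_nil, mul_one]
        show _ * _ = _ * _
        calc q (fl Lk 4) * q (fl Lk 0)
            = q (fl Lk 4) * q (fl Lk 0) * q (fl Lk 4) * q (fl Lk 4) := by
              rw [mul_assoc _ (q (fl Lk 4)), hz, mul_one]
          _ = q (fl Lk 0) * q (fl Lk 4) := by rw [h3]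
    | one => simp
    | mul a b _ _ ha hb => rw [map_mul]; exact ha.mul_right hb
    | inv a _ ha => rw [map_inv]; exact ha.inv_right
  have hcz : ev Lk czW = (ev Lk cW)⁻¹ * fl Lk 4 * ev Lk cW * fl Lk 4 := by
    rw [show czW = invW cW ++ [4] ++ cW ++ [4] by decide +kernel]
    simp only [ev_append, ev_cons, ev_nil, mul_one, ev_invW]
  have hq1 : q (ev Lk czW) = 1 := by
    rw [hcz]
    simp only [map_mul, map_inv]
    rw [mul_assoc _ (q (fl Lk 4)), (hS _ c_mem_wx).eq, ← mul_assoc, inv_mul_cancel, one_mul, hz]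
  obtain ⟨k, hk⟩ := Subgroup.mem_zpowers_iff.mp ((QuotientGroup.eq_one_iff _).mp hq1)
  have hi : σK (ev Lk czW) = 1 := σK_one (by decide +kernel) (by decide +kernel)
  have h2 : x2 ^ (2 : ℤ) = 1 := by rw [zpow_two, x2_sq]
  rcases Int.even_or_odd' k with ⟨j, rfl | rfl⟩
  · rw [zpow_mul, h2, one_zpow] at hk; exact hk.symm
  · rw [zpow_add, zpow_mul, h2, one_zpow, one_mul, zpow_one] at hk
    exact absurd (hk ▸ hi) σK_x2_ne

end CfsgLib.Coset.HN
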