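import Cfsg.Agent.Coset.HN.LowTau

/-!
The action on the points satisfies the relators.
-/

set_option autoImplicit false
set_option maxRecDepth 100000
set_option Elab.async false

namespace CfsgLib.Coset.HN

/-- The point of an index and an element. -/
noncomputable def opN (i : Nat) (a : K0) : Om := opnt ⟨i % 9, Nat.mod_lt _ (by norm_num)⟩ a

theorem opN_eq {i : Nat} (h : i < 9) (a : K0) : opN i a = opnt ⟨i, h⟩ a := by
  unfold opN
  congr 1
  exact Fin.ext (Nat.mod_eq_of_lt h)

theorem opN_congr {i : Nat} (h : i < 9) {a b : K0} (hm : a * b⁻¹ ∈ Sg i) : opN i a = opN i b := by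
  rw [opN_eq h, opN_eq h]
  exact opnt_eq hm

theorem tr_inv_opN (i : Nat) (a k : K0) : (tr k)⁻¹ (opN i a) = opN i (a * k) := tr_inv_opnt _ a k

theorem xRt_eq (r : Fin 101) : xRt r = opN (LD.RS r).i (ev Lk (up (LD.RS r).a)) :=
  (opN_eq (rootFacts r.2).hi _).symm

theorem yRt_eq (r : Fin 101) : yRt r = opN (LD.RS r).j (ev Lk (up (LD.RS r).b)) :=
  (opN_eq (rootFacts r.2).hj _).symm

/-! ### Walks -/

/-- Right multiplication by a letter. -/
noncomputable def actL (l : Nat) (p : Om) : Om := if l < 5 then (tr (fl Lk l))⁻¹ p else tmap p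

/-- Right multiplication by a word. -/
noncomputable def actW (U : List Nat) (p : Om) : Om := U.foldl (fun p l => actL l p) p

@[simp] theorem actW_nil (p : Om) : actW [] p = p := rfl

theorem actW_cons (l : Nat) (U : List Nat) (p : Om) : actW (l :: U) p = actW U (actL l p) := rfl

theorem actW_append (U V : List Nat) (p : Om) : actW (U ++ V) p = actW V (actW U p) :=
  List.foldl_append

theorem actL_five (p : Om) : actL 5 p = tmap p := if_neg (by norm_num)

theorem actW_low : ∀ (U : List Nat), (∀ l ∈ U, l < 5) → ∀ p, actW U p = (tr (ev Lk U))⁻¹ p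
  | [], _, p => by simp
  | l :: U, h, p => by
    rw [actW_cons, actW_low U (fun x hx => h x (by simp [hx])), actL, if_pos (h l (by simp)),
      ev_cons, map_mul, mul_inv_rev, Equiv.Perm.mul_apply]

theorem step_sound {i : Nat} {k : List Nat} {c : StepC} (hi : i < 9) (hk : ∀ l ∈ k, l < 5)
    (h : stepOK KD.Tb baseK LD.CS LD.RS 101 i k c = true) :
    (LD.RS c.r).j < 9 ∧ (∀ l ∈ up c.k, l < 5) ∧
      tmap (opN i (ev Lk k)) = opN (LD.RS c.r).j (ev Lk (up c.k)) := by
  unfold stepOK at h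
  simp only [cond_false_eq_true] at h
  obtain ⟨hr, hri, hlow, h⟩ := h
  have hr' : c.r < 101 := Nat.ble_eq.mp hr
  have hri' : (LD.RS c.r).i = i := Nat.eq_of_beq_eq_true hri
  have RF := rootFacts hr'
  have hkl := low_iff hlow
  refine ⟨RF.hj, hkl, ?_⟩
  have hx := xRt_eq ⟨c.r, hr'⟩
  have hy := yRt_eq ⟨c.r, hr'⟩
  simp only [hri'] at hx
  simp only at hy
  cases h0 : Nat.beq i 0
  · simp only [h0, cond_false, cond_false_eq_true] at h
    obtain ⟨hw, hfix, heq⟩ := h
    have h1 : 1 ≤ i := Nat.pos_of_ne_zero (Nat.ne_of_beq_eq_false h0)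
    obtain ⟨hul, hum⟩ := witOK_mem h1 hi hw
    have ln : ∀ l ∈ invWd inv7 (up (LD.RS c.r).a) ++ invWd inv7 (witWord (SC i) c.u) ++ k, l < 5 :=
      low_append (low_append (invWd_low RF.la) (invWd_low hul)) hk
    set n := ev Lk (invWd inv7 (up (LD.RS c.r).a) ++ invWd inv7 (witWord (SC i) c.u) ++ k) with hn
    have hnp : n ∈ pstab σK (0 : Fin 1408) := by
      rw [mem_pstab, hn, matches_σK.fix_iff (fun l hl => length_Lk.symm ▸ ln l hl)]
      have := Nat.eq_of_beq_eq_true hfix
      rwa [followF_eq] at this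
    have hb : ev Lk (up c.k) = ev Lk (up (LD.RS c.r).b) * n := by
      rw [ev_eq_of_eqK hkl (low_append RF.lb ln) heq, ev_append]
    have hs : opN i (ev Lk k) = opN i (ev Lk (up (LD.RS c.r).a) * n) := by
      refine opN_congr hi ?_
      rw [hn, ev_append, ev_append, ev_invWd_Lk RF.la, ev_invWd_Lk hul]
      simpa [mul_assoc, mul_inv_rev] using hum
    rw [hs, ← tr_inv_opN, ← hx, ← map_inv, tmap_spec ⟨c.r, hr'⟩ (inv_mem hnp), map_inv, hy,
      tr_inv_opN, hb]
  · simp only [h0, cond_true] at h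
    have hi0 : i = 0 := Nat.eq_of_beq_eq_true h0
    have hs : opN i (ev Lk k) = opN i (ev Lk (up (LD.RS c.r).a)) := by
      refine opN_congr hi ?_
      rw [hi0, Sg_zero]; trivial
    have := tmap_spec ⟨c.r, hr'⟩ (one_mem (pstab σK (0 : Fin 1408)))
    rw [map_one, Equiv.Perm.one_apply, Equiv.Perm.one_apply] at this
    rw [hs, ← hx, this, hy, ev_eq_of_eqK hkl RF.lb h]

theorem runT_sound : ∀ (U : List Nat) (cs : List StepC) (i : Nat) (k : List Nat)
    (K : Nat → List Nat → Bool), i < 9 → (∀ l ∈ k, l < 5) →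
    runT KD.Tb baseK LD.CS LD.RS 101 U cs i k K = true →
    ∃ j k', j < 9 ∧ (∀ l ∈ k', l < 5) ∧ K j k' = true ∧
      actW U (opN i (ev Lk k)) = opN j (ev Lk k') := by
  intro U
  induction U with
  | nil =>
    intro cs i k K hi hk h
    cases cs with
    | nil => exact ⟨i, k, hi, hk, h, rfl⟩
    | cons c t => exact absurd h Bool.false_ne_true
  | cons l U ih =>
    intro cs i k K hi hk h
    change cond (Nat.ble (Nat.add l 1) 5) (runT KD.Tb baseK LD.CS LD.RS 101 U cs i (k ++ [l]) K)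
      (cond (Nat.beq l 5)
        (List.rec false (fun c t _ => cond (stepOK KD.Tb baseK LD.CS LD.RS 101 i k c)
          (runT KD.Tb baseK LD.CS LD.RS 101 U t (LD.RS c.r).j (up c.k) K) false) cs) false) = true at h
    cases h5 : Nat.ble (Nat.add l 1) 5
    · rw [h5, cond_false, cond_false_eq_true] at h
      obtain ⟨hl, h⟩ := h
      obtain rfl : l = 5 := Nat.eq_of_beq_eq_true hl
      cases cs with
      | nil => exact absurd h Bool.false_ne_true
      | cons c t =>
        change cond (stepOK KD.Tb baseK LD.CS LD.RS 101 i k c)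
          (runT KD.Tb baseK LD.CS LD.RS 101 U t (LD.RS c.r).j (up c.k) K) false = true at h
        rw [cond_false_eq_true] at h
        obtain ⟨hj, hkl, hstep⟩ := step_sound hi hk h.1
        obtain ⟨j, k', h1, h2, h3, h4⟩ := ih t _ _ K hj hkl h.2
        exact ⟨j, k', h1, h2, h3, by rw [actW_cons, actL_five, hstep, h4]⟩
    · rw [h5, cond_true] at h
      have hl : l < 5 := Nat.ble_eq.mp h5
      obtain ⟨j, k', h1, h2, h3, h4⟩ :=
        ih cs i (k ++ [l]) K hi (low_append hk (by simpa using hl)) h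
      refine ⟨j, k', h1, h2, h3, ?_⟩
      rw [actW_cons, actL, if_pos hl, tr_inv_opN, ← h4]
      simp [ev_append]

theorem walk_sound {U : List Nat} {C : WalkC} {i j : Nat} {k k1 : List Nat} (hi : i < 9)
    (hj : j < 9) (hk : ∀ l ∈ k, l < 5) (hk1 : ∀ l ∈ k1, l < 5)
    (h : walkOK KD.Tb baseK LD.CS LD.RS 101 U C i k j k1 = true) :
    actW U (opN i (ev Lk k)) = opN j (ev Lk k1) := by
  obtain ⟨a, ka, ha, hka, hK, e⟩ := runT_sound U C.cs i k _ hi hk h
  rw [cond_false_eq_true] at hK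
  obtain rfl : a = j := Nat.eq_of_beq_eq_true hK.1
  rw [e]
  refine opN_congr hj ?_
  have := inSg_mem hj (low_append hka (invWd_low hk1)) hK.2
  rwa [ev_append, ev_invWd_Lk hk1] at this

theorem walk_root {r : Fin 101} {U : List Nat} {C : WalkC}
    (h : walkOK KD.Tb baseK LD.CS LD.RS 101 U C (LD.RS r).i (up (LD.RS r).a) (LD.RS r).i
      (up (LD.RS r).a) = true) : actW U (xRt r) = xRt r := by
  rw [xRt_eq]
  exact walk_sound (rootFacts r.2).hi (rootFacts r.2).hi (rootFacts r.2).la (rootFacts r.2).la h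

/-! ### The order of `t` -/

theorem root_t5 (r : Fin 101) : actW [5, 5, 5, 5, 5] (xRt r) = xRt r := by
  have h := rootA_all r r.2
  unfold checkRootA at h
  simp only [cond_false_eq_true] at h
  exact walk_root h.2.2.2.1

theorem tmap_five (p : Om) : tmap (tmap (tmap (tmap (tmap p)))) = p := by
  obtain ⟨r, k, hk, rfl⟩ := cover_roots p
  rw [tmap_tr hk, tmap_tr hk, tmap_tr hk, tmap_tr hk, tmap_tr hk]
  have := root_t5 r
  simp only [actW_cons, actL_five, actW_nil] at this
  rw [this]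

/-- The image of `t`. -/
noncomputable def τ : Equiv.Perm Om where
  toFun p := tmap (tmap (tmap (tmap p)))
  invFun := tmap
  left_inv p := tmap_five p
  right_inv p := tmap_five p

theorem τ_inv_apply (p : Om) : τ⁻¹ p = tmap p := rfl

/-- The seven permutations. -/
noncomputable def LO : List (Equiv.Perm Om) := Lk.map tr ++ [τ, τ⁻¹]

theorem length_LO : LO.length = 7 := by simp [LO, length_Lk]

theorem fl_LO_low {l : Nat} (hl : l < 5) : fl LO l = tr (fl Lk l) := by
  simp [fl, LO, List.getD_eq_getElem?_getD, List.getElem?_append_left, length_Lk, hl]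

theorem fl_LO_five : fl LO 5 = τ := by
  simp [fl, LO, List.getD_eq_getElem?_getD, List.getElem?_append_right, length_Lk]

theorem fl_LO_six : fl LO 6 = τ⁻¹ := by
  simp [fl, LO, List.getD_eq_getElem?_getD, List.getElem?_append_right, length_Lk]

theorem inv_ev_LO : ∀ U : List Nat, (∀ l ∈ U, l ≤ 5) → ∀ p, (ev LO U)⁻¹ p = actW U p
  | [], _, p => by simp
  | l :: U, h, p => by
    rw [ev_cons, mul_inv_rev, Equiv.Perm.mul_apply, inv_ev_LO U (fun x hx => h x (by simp [hx])),
      actW_cons]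
    congr 1
    rcases (h l (by simp)).lt_or_eq with hl | rfl
    · rw [fl_LO_low hl, actL, if_pos hl]
    · rw [fl_LO_five, τ_inv_apply, actL_five]

theorem ev_LO_eq_one {U : List Nat} (hU : ∀ l ∈ U, l ≤ 5) (h : ∀ p, actW U p = p) :
    ev LO U = 1 := by
  rw [← inv_inj, inv_one]
  exact Equiv.ext fun p => by rw [inv_ev_LO U hU, h, Equiv.Perm.one_apply]

theorem ev_LO_low : ∀ U : List Nat, (∀ l ∈ U, l < 5) → ev LO U = tr (ev Lk U)
  | [], _ => by simp
  | l :: U, h => by
    rw [ev_cons, ev_cons, map_mul, fl_LO_low (h l (by simp)),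
      ev_LO_low U fun x hx => h x (by simp [hx])]

/-! ### Conjugation of the point stabiliser -/

theorem conj_pstab {e : K0} (h : ∀ w ∈ KD.CK1G, e * ev Lk w * e⁻¹ ∈ pstab σK (0 : Fin 1408))
    {k : K0} (hk : k ∈ pstab σK (0 : Fin 1408)) : e * k * e⁻¹ ∈ pstab σK (0 : Fin 1408) := by
  rw [pstab_zero_eq] at hk
  have key : genW Lk KD.CK1G ≤ (pstab σK (0 : Fin 1408)).comap (MulAut.conj e).toMonoidHom :=
    (Subgroup.closure_le _).mpr (by rintro _ ⟨w, hw, rfl⟩; exact h w hw)
  exact key hk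

theorem x_conj_pstab {k : K0} (hk : k ∈ pstab σK (0 : Fin 1408)) :
    fl Lk 0 * k * (fl Lk 0)⁻¹ ∈ pstab σK (0 : Fin 1408) := by
  refine conj_pstab (fun w hw => ?_) hk
  have key : ∀ w ∈ KD.CK1G, (∀ l ∈ [0] ++ w ++ [1], l < 5) ∧
      follow (tget KD.Tb) 0 ([0] ++ w ++ [1]) = 0 := by decide +kernel
  have e : fl Lk 0 * ev Lk w * (fl Lk 0)⁻¹ = ev Lk ([0] ++ w ++ [1]) := by
    rw [← inv_Lk 0]
    simp [ev_append, ivK, mul_assoc]
  rw [e, mem_pstab, matches_σK.fix_iff (fun l hl => length_Lk.symm ▸ (key w hw).1 l hl)]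
  exact (key w hw).2

theorem xr_fix (p : Om) : actW [1, 5, 0, 5, 5] p = p := by
  have e : ∀ p, actW [1, 5, 0, 5, 5] p =
      tmap (tmap ((tr (fl Lk 0))⁻¹ (tmap (tr (fl Lk 0) p)))) := fun p => by
    simp only [actW_cons, actW_nil, actL_five]
    rw [actL, if_pos (by norm_num), actL, if_pos (by norm_num), ← map_inv _ (fl Lk 1), ← inv_Lk 1]
    rfl
  obtain ⟨r, k, hk, rfl⟩ := cover_roots p
  have hx := x_conj_pstab hk
  have e2 : tr (fl Lk 0) (tr k (xRt r)) =
      tr (fl Lk 0 * k * (fl Lk 0)⁻¹) (tr (fl Lk 0) (xRt r)) := by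
    simp [← Equiv.Perm.mul_apply, ← map_mul, mul_assoc]
  rw [e, e2, tmap_tr hx]
  have e3 : ∀ q, (tr (fl Lk 0))⁻¹ (tr (fl Lk 0 * k * (fl Lk 0)⁻¹) q) =
      tr k ((tr (fl Lk 0))⁻¹ q) := fun q => by
    rw [← map_inv, ← Equiv.Perm.mul_apply, ← Equiv.Perm.mul_apply, ← map_mul, ← map_mul]
    simp [mul_assoc]
  rw [e3, tmap_tr hk, tmap_tr hk, ← e]
  have h := rootA_all r r.2
  unfold checkRootA at h
  simp only [cond_false_eq_true] at h
  rw [walk_root h.2.2.2.2]

/-! ### The conjugates of `z` -/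

/-- The conjugates of `z` under the point stabiliser. -/
noncomputable def ζ (c : Nat) : K0 := ev Lk (up (LD.ZL c))

/-- The generators used for the conjugates. -/
def cgW : List (List Nat) := [[2], [0, 2, 1], [3], [0, 3, 1]]

/-- The listed class is closed under conjugation by the generators. -/
noncomputable def checkZ : Bool :=
  cond (eqK KD.Tb baseK (up (LD.ZL 0)) [4])
  (allBelow 6 50 fun c => cond (low (up (LD.ZL c)))
    (allList (fun g => cond (Nat.ble (Nat.add (field (LD.ZR c) g) 1) 50)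
      (eqK KD.Tb baseK (cgW.getD g [] ++ up (LD.ZL c))
        (up (LD.ZL (field (LD.ZR c) g)) ++ cgW.getD g [])) false) [0, 1, 2, 3]) false) false

theorem z_ok : checkZ = true := by decide +kernel

theorem zl_low {c : Nat} (hc : c < 50) : ∀ l ∈ up (LD.ZL c), l < 5 := by
  have h := z_ok
  unfold checkZ at h
  simp only [cond_false_eq_true] at h
  have h1 := of_allBelow h.2 c hc
  simp only [cond_false_eq_true] at h1
  exact low_iff h1.1

theorem ζ_zero : ζ 0 = fl Lk 4 := by
  have h := z_ok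
  unfold checkZ at h
  simp only [cond_false_eq_true] at h
  rw [ζ, ev_eq_of_eqK (zl_low (by norm_num)) (by simp) h.1]
  simp

theorem ζ_conj_gen {c g : Nat} (hc : c < 50) (hg : g < 4) :
    ∃ c' < 50, ev Lk (cgW.getD g []) * ζ c * (ev Lk (cgW.getD g []))⁻¹ = ζ c' := by
  have h := z_ok
  unfold checkZ at h
  simp only [cond_false_eq_true] at h
  have h1 := of_allBelow h.2 c hc
  simp only [cond_false_eq_true] at h1
  have h2 := allList_iff.mp h1.2 g (by interval_cases g <;> simp)
  simp only [cond_false_eq_true] at h2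
  have hlt : field (LD.ZR c) g < 50 := Nat.ble_eq.mp h2.1
  refine ⟨_, hlt, ?_⟩
  have hcg : ∀ l ∈ cgW.getD g [], l < 5 := by interval_cases g <;> decide
  have he := ev_eq_of_eqK (low_append hcg (zl_low hc)) (low_append (zl_low hlt) hcg) h2.2
  rw [ev_append, ev_append] at he
  rw [ζ, ζ, he, mul_inv_cancel_right]

theorem ζ_conj {k : K0} (hk : k ∈ pstab σK (0 : Fin 1408)) {c : Nat} (hc : c < 50) :
    ∃ c' < 50, k⁻¹ * ζ c * k = ζ c' := by
  suffices H : ∀ c < 50, (∃ c' < 50, k * ζ c * k⁻¹ = ζ c') ∧ ∃ c' < 50, k⁻¹ * ζ c * k = ζ c' from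
    (H c hc).2
  rw [pstab_zero_eq] at hk
  induction hk using Subgroup.closure_induction with
  | mem v hv =>
    obtain ⟨w, hw, rfl⟩ := hv
    obtain ⟨g, hg, e1, e2⟩ : ∃ g < 2, w = cgW.getD g [] ∧
        invWd inv7 w = cgW.getD (g + 2) [] :=
      (by decide +kernel : ∀ w ∈ KD.CK1G, ∃ g < 2, w = cgW.getD g [] ∧
        invWd inv7 w = cgW.getD (g + 2) []) w hw
    have hl : ∀ l ∈ w, l < 5 := by rw [e1]; interval_cases g <;> decide
    intro c hc
    refine ⟨e1 ▸ ζ_conj_gen hc (by omega), ?_⟩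
    obtain ⟨c', hc', e⟩ := ζ_conj_gen hc (show g + 2 < 4 by omega)
    rw [← e2, ev_invWd_Lk hl, inv_inv] at e
    exact ⟨c', hc', e⟩
  | one => exact fun c hc => ⟨⟨c, hc, by simp⟩, c, hc, by simp⟩
  | mul a b _ _ iha ihb =>
    intro c hc
    constructor
    · obtain ⟨c1, h1, e1⟩ := (ihb c hc).1
      obtain ⟨c2, h2, e2⟩ := (iha c1 h1).1
      exact ⟨c2, h2, by rw [← e2, ← e1]; simp [mul_assoc, mul_inv_rev]⟩
    · obtain ⟨c1, h1, e1⟩ := (iha c hc).2
      obtain ⟨c2, h2, e2⟩ := (ihb c1 h1).2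
      exact ⟨c2, h2, by rw [← e2, ← e1]; simp [mul_assoc, mul_inv_rev]⟩
  | inv a _ iha =>
    intro c hc
    obtain ⟨⟨c1, h1, e1⟩, c2, h2, e2⟩ := iha c hc
    exact ⟨⟨c2, h2, by rw [inv_inv]; exact e2⟩, c1, h1, by rw [inv_inv]; exact e1⟩

/-- The word `(w t)³`. -/
noncomputable def ztW (c : Nat) : List Nat :=
  up (LD.ZL c) ++ 5 :: (up (LD.ZL c) ++ 5 :: (up (LD.ZL c) ++ [5]))

theorem actW_ztW {c : Nat} (hc : c < 50) (p : Om) : actW (ztW c) p =
    tmap ((tr (ζ c))⁻¹ (tmap ((tr (ζ c))⁻¹ (tmap ((tr (ζ c))⁻¹ p))))) := by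
  simp only [ztW, actW_append, actW_cons, actW_nil, actL_five, actW_low _ (zl_low hc), ζ]

theorem actW_ztW_tr {c c' : Nat} (hc : c < 50) (hc' : c' < 50) {k : K0}
    (hk : k ∈ pstab σK (0 : Fin 1408)) (he : k⁻¹ * ζ c * k = ζ c') (p : Om) :
    actW (ztW c) (tr k p) = tr k (actW (ztW c') p) := by
  have e : ∀ q, (tr (ζ c))⁻¹ (tr k q) = tr k ((tr (ζ c'))⁻¹ q) := fun q => by
    rw [← he, ← map_inv, ← map_inv, ← Equiv.Perm.mul_apply, ← Equiv.Perm.mul_apply, ← map_mul,
      ← map_mul]
    simp [mul_assoc, mul_inv_rev]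
  rw [actW_ztW hc, actW_ztW hc', e, tmap_tr hk, e, tmap_tr hk, e, tmap_tr hk]

theorem root_zt (r : Fin 101) : ∀ c < 50, actW (ztW c) (xRt r) = xRt r := by
  have h := rootZ_all r r.2
  unfold checkRootZ at h
  simp only [cond_false_eq_true] at h
  obtain ⟨hlen, hfor, hwalk⟩ := h
  intro c hc
  obtain ⟨d, hd⟩ : ∃ d, field ((LD.RS r).zp c) 2 = d := ⟨_, rfl⟩
  induction d using Nat.strong_induction_on generalizing c with
  | _ d ih =>
    have hp := of_allBelow hfor c hc
    cases h0 : Nat.beq (field ((LD.RS r).zp c) 1) 0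
    · simp only [h0, cond_false, cond_false_eq_true] at hp
      obtain ⟨hq, hg, hdep, heq⟩ := hp
      have hq' : field ((LD.RS r).zp c) 0 < 50 := Nat.ble_eq.mp hq
      have hpar := ih _ (hd ▸ Nat.ble_eq.mp hdep) _ hq' rfl
      have hne : field ((LD.RS r).zp c) 1 ≠ 0 := Nat.ne_of_beq_eq_false h0
      have hlt : Nat.sub (field ((LD.RS r).zp c) 1) 1 < (LD.RS r).T.length := by
        have := Nat.ble_eq.mp hg
        simp only [Nat.sub_eq]; omega
      set w := up ((LD.RS r).T.getD (Nat.sub (field ((LD.RS r).zp c) 1) 1) 0) with hw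
      have hwm : w ∈ (LD.RS r).T.map up := by
        rw [hw, List.getD_eq_getElem _ _ hlt]
        exact List.mem_map.mpr ⟨_, List.getElem_mem hlt, rfl⟩
      have hwl := (rootFacts r.2).tl w hwm
      have he := ev_eq_of_eqK (zl_low hc)
        (low_append (low_append (invWd_low hwl) (zl_low hq')) hwl) heq
      rw [ev_append, ev_append, ev_invWd_Lk hwl] at he
      have hT : tr (ev Lk w) (xRt r) = xRt r :=
        tr_fix (i := ⟨_, (rootFacts r.2).hi⟩) (rootFacts r.2).tx _ (ev_mem_genW hwm)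
      have := actW_ztW_tr hq' hc ((rootFacts r.2).tfix w hwm) he.symm (xRt r)
      rw [hT, hpar] at this
      exact (tr (ev Lk w)).injective (this.symm.trans hT.symm)
    · simp only [h0, cond_true, cond_false_eq_true] at hp
      obtain ⟨hq, hzr⟩ := hp
      have hq' : field ((LD.RS r).zp c) 0 < (LD.RS r).zr.length := Nat.ble_eq.mp hq
      have h1 := allList_iff.mp hwalk _ (List.mem_range.mpr hq')
      simp only [cond_false_eq_true] at h1
      rw [Nat.eq_of_beq_eq_true hzr] at h1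
      exact walk_root h1.2

theorem zt_fix (p : Om) : actW (ztW 0) p = p := by
  obtain ⟨r, k, hk, rfl⟩ := cover_roots p
  obtain ⟨c, hc, he⟩ := ζ_conj hk (show 0 < 50 by norm_num)
  rw [actW_ztW_tr (by norm_num) hc hk he, root_zt r c hc]

/-! ### The relators -/

theorem frame_LO : Frame LO where
  len := length_LO
  rel := by
    intro w hw
    rcases List.mem_append.mp hw with hw | hw
    · have hl := (by decide +kernel : ∀ w ∈ KD.rels, ∀ l ∈ w, l < 5) w hw
      rw [ev_LO_low w hl, ev_numGens w hw, map_one]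
    · simp only [List.mem_cons, List.not_mem_nil, or_false] at hw
      rcases hw with rfl | rfl | rfl | rfl | rfl | rfl
      · refine ev_LO_eq_one (by decide) fun p => ?_
        simp only [actW_cons, actW_nil, actL_five, tmap_five]
      · exact ev_LO_eq_one (by decide) xr_fix
      · have hy : fl Lk 2 ∈ pstab σK (0 : Fin 1408) := by
          rw [show fl Lk 2 = ev Lk [2] by simp, mem_pstab,
            matches_σK.fix_iff (by rw [length_Lk]; decide)]
          decide +kernel
        have h3 : fl LO 3 = (tr (fl Lk 2))⁻¹ := by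
          rw [fl_LO_low (by norm_num), ← map_inv, ← inv_Lk 2]; rfl
        simp only [ev_cons, ev_nil, mul_one, fl_LO_five, fl_LO_six, h3,
          fl_LO_low (show 2 < 5 by norm_num)]
        refine Equiv.ext fun p => ?_
        rw [Equiv.Perm.mul_apply, Equiv.Perm.mul_apply, Equiv.Perm.mul_apply, τ_inv_apply,
          Equiv.Perm.one_apply]
        have e : τ (tr (fl Lk 2) p) = tr (fl Lk 2) (τ p) := by
          show tmap (tmap (tmap (tmap _))) = tr _ (tmap (tmap (tmap (tmap p))))
          rw [tmap_tr hy, tmap_tr hy, tmap_tr hy, tmap_tr hy]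
        rw [e, ← Equiv.Perm.mul_apply, inv_mul_cancel, Equiv.Perm.one_apply]
        exact tmap_five p
      · refine ev_LO_eq_one (by decide) fun p => ?_
        have := zt_fix p
        rw [actW_ztW (by norm_num), ζ_zero] at this
        simp only [actW_cons, actW_nil, actL_five]
        simpa only [actL, if_pos (show 4 < 5 by norm_num)] using this
      · simp only [ev_cons, ev_nil, mul_one, fl_LO_five, fl_LO_six, mul_inv_cancel]
      · simp only [ev_cons, ev_nil, mul_one, fl_LO_five, fl_LO_six, inv_mul_cancel]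

end CfsgLib.Coset.HN
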