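import Cfsg.Prelude.Def_Spor_HN
import Cfsg.Agent.Coset.HN.LowAct

/-!
The presented group: its order, and the index of the subgroup on `x, y, z`.
-/

set_option autoImplicit false
set_option maxRecDepth 100000
set_option Elab.async false

namespace CfsgLib.Coset.HN

open Cfsg.Spor in
/-- The values of the four generators. -/
def gv {Γ : Type*} [Group Γ] (L : List Γ) : Cfsg.Spor.HN.Gen → Γ
  | .x => fl L 0
  | .y => fl L 2
  | .z => fl L 4
  | .t => fl L 5

/-- The relators as words. -/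
def relW : List (List Nat) :=
  KD.rels.take 10 ++ [[5, 5, 5, 5, 5], [1, 5, 0, 5, 5], [6, 3, 5, 2], [4, 5, 4, 5, 4, 5]]

theorem lift_rels {Γ : Type*} [Group Γ] (L : List Γ) (h1 : fl L 1 = (fl L 0)⁻¹)
    (h3 : fl L 3 = (fl L 2)⁻¹) (h4 : (fl L 4)⁻¹ = fl L 4) (h6 : fl L 6 = (fl L 5)⁻¹) :
    ∀ i < 14, FreeGroup.lift (gv L) (Cfsg.Spor.HN.extra.getD i 1) = ev L (relW.getD i []) := by
  intro i hi
  interval_cases i
  all_goals
    simp only [Cfsg.Spor.HN.extra, relW, KD.rels, List.take_succ_cons, List.take_zero,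
      List.cons_append, List.nil_append, List.getD_cons_zero, List.getD_cons_succ, map_mul, map_inv,
      map_pow, FreeGroup.lift_apply_of, gv, ev_cons, ev_nil, h1, h3, h6, pow_succ, pow_zero,
      one_mul, mul_one, mul_inv_rev, inv_inv, h4, mul_assoc]

theorem Frame.inv_four {Γ : Type*} [Group Γ] {L : List Γ} (F : Frame L) :
    (fl L 4)⁻¹ = fl L 4 :=
  (F.inv7_fl 4).symm

theorem length_extra : Cfsg.Spor.HN.extra.length = 14 := rfl

theorem relW_mem : ∀ i < 14, relW.getD i [] ∈ relsG := by decide +kernel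

/-- The map from the presented group to a group satisfying the relators. -/
noncomputable def Frame.hom {Γ : Type*} [Group Γ] {L : List Γ} (F : Frame L) :
    Cfsg.Spor.HN →* Γ :=
  PresentedGroup.toGroup (f := gv L) (by
    rintro r (⟨a, ha, -⟩ | hr)
    · simp [Cfsg.Spor.HN.edges, Cfsg.Spor.coxNodes] at ha
    · obtain ⟨i, hi, rfl⟩ := List.getElem_of_mem hr
      rw [← List.getD_eq_getElem _ 1 hi,
        lift_rels L F.fl_one F.fl_three F.inv_four F.fl_six i (length_extra ▸ hi)]
      exact F.rel _ (relW_mem i (length_extra ▸ hi)))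

theorem Frame.hom_of {Γ : Type*} [Group Γ] {L : List Γ} (F : Frame L) (a : Cfsg.Spor.HN.Gen) :
    F.hom (PresentedGroup.of a) = gv L a := PresentedGroup.toGroup.of _

/-- The generators and their inverses in the presented group. -/
noncomputable def Lg : List Cfsg.Spor.HN :=
  [PresentedGroup.of .x, (PresentedGroup.of .x)⁻¹, PresentedGroup.of .y, (PresentedGroup.of .y)⁻¹,
    PresentedGroup.of .z, PresentedGroup.of .t, (PresentedGroup.of .t)⁻¹]

theorem gv_Lg : gv Lg = PresentedGroup.of := by funext a; cases a <;> rfl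

theorem lift_extra (i : Nat) (hi : i < 14) :
    FreeGroup.lift (gv Lg) (Cfsg.Spor.HN.extra.getD i 1) = 1 := by
  have h : PresentedGroup.mk (Cfsg.Spor.coxRelators Cfsg.Spor.HN.edges ∪
      {r | r ∈ Cfsg.Spor.HN.extra}) (Cfsg.Spor.HN.extra.getD i 1) = 1 :=
    PresentedGroup.one_of_mem (Or.inr (by
      rw [List.getD_eq_getElem _ _ (length_extra.symm ▸ hi)]
      exact List.getElem_mem _))
  rw [← h, gv_Lg]
  congr 1
  exact FreeGroup.ext_hom _ _ fun a => by rw [FreeGroup.lift_apply_of]; rfl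

theorem fl_Lg_four_sq : fl Lg 4 * fl Lg 4 = 1 := by
  have h := lift_extra 6 (by norm_num)
  simpa [Cfsg.Spor.HN.extra, gv, pow_succ] using h

theorem frame_Lg : Frame Lg where
  len := rfl
  rel := by
    intro w hw
    rcases (by decide +kernel : ∀ w ∈ relsG, (∃ i < 14, w = relW.getD i []) ∨
      w ∈ [[0, 1], [1, 0], [2, 3], [3, 2], [4, 4], [5, 6], [6, 5]]) w hw with ⟨i, hi, rfl⟩ | hw
    · rw [← lift_rels Lg rfl rfl (inv_eq_of_mul_eq_one_right fl_Lg_four_sq) rfl i hi,
        lift_extra i hi]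
    · simp only [List.mem_cons, List.not_mem_nil, or_false] at hw
      rcases hw with rfl | rfl | rfl | rfl | rfl | rfl | rfl
      all_goals
        simp only [ev_cons, ev_nil, mul_one]
        first
          | exact fl_Lg_four_sq
          | exact mul_inv_cancel _
          | exact inv_mul_cancel _

theorem closure_Lg : Subgroup.closure {v | v ∈ Lg} = (⊤ : Subgroup Cfsg.Spor.HN) := by
  rw [eq_top_iff, ← PresentedGroup.closure_range_of]
  refine Subgroup.closure_mono ?_
  rintro _ ⟨a, rfl⟩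
  cases a <;> simp [Lg]

theorem card_HN_le : Finite Cfsg.Spor.HN ∧ Nat.card Cfsg.Spor.HN ≤ 273030912000000 :=
  frame_Lg.card_le closure_Lg

/-- The action on the points. -/
noncomputable def φ : Cfsg.Spor.HN →* Equiv.Perm Om := frame_LO.hom

theorem φ_fl (l : Nat) : φ (fl Lg l) = fl LO l := by
  rcases lt_or_ge l 7 with hl | hl
  · interval_cases l
    · exact frame_LO.hom_of .x
    · show φ (PresentedGroup.of _)⁻¹ = _
      rw [map_inv, frame_LO.fl_one]
      exact congrArg _ (frame_LO.hom_of .x)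
    · exact frame_LO.hom_of .y
    · show φ (PresentedGroup.of _)⁻¹ = _
      rw [map_inv, frame_LO.fl_three]
      exact congrArg _ (frame_LO.hom_of .y)
    · exact frame_LO.hom_of .z
    · exact frame_LO.hom_of .t
    · show φ (PresentedGroup.of _)⁻¹ = _
      rw [map_inv, frame_LO.fl_six]
      exact congrArg _ (frame_LO.hom_of .t)
  · rw [fl_of_le _ (by rw [frame_Lg.len]; exact hl), fl_of_le _ (by rw [length_LO]; exact hl), map_one]

theorem φ_ev : ∀ w : List Nat, φ (ev Lg w) = ev LO w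
  | [] => by simp
  | l :: w => by rw [ev_cons, ev_cons, map_mul, φ_fl, φ_ev w]

/-- The map from the group on `x, y, z`. -/
noncomputable def ψg : K0 →* Cfsg.Spor.HN := frame_Lg.ψ

theorem ψg_ev {w : List Nat} (hw : ∀ l ∈ w, l < 5) : ψg (ev Lk w) = ev Lg w := frame_Lg.ψ_ev hw

theorem φ_ψg (k : K0) : φ (ψg k) = tr k := by
  suffices φ.comp ψg = tr from DFunLike.congr_fun this k
  refine MonoidHom.eq_of_eqOn_dense closure_numGens ?_
  intro v hv
  obtain ⟨l, hl, rfl⟩ := List.getElem_of_mem hv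
  rw [length_Lk] at hl
  rw [← List.getD_eq_getElem Lk 1 (by rw [length_Lk]; exact hl), show Lk.getD l 1 = fl Lk l from rfl,
    show fl Lk l = ev Lk [l] by simp, MonoidHom.comp_apply, ψg_ev (by simpa using hl), φ_ev,
    ev_LO_low _ (by simpa using hl)]

/-- The base point. -/
noncomputable def p0 : Om := opN 0 1

theorem φ_ψg_p0 (k : K0) : φ (ψg k) p0 = p0 := by
  rw [φ_ψg, p0, show tr k = (tr k⁻¹)⁻¹ by rw [map_inv, inv_inv], tr_inv_opN]
  exact opN_congr (by norm_num) (by rw [Sg_zero]; trivial)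

/-- The walks to the representatives are right. -/
theorem defs_ok : ∀ j < 9, walkOK KD.Tb baseK LD.CS LD.RS 101 (rWd j)
    (LD.defs.getD j ⟨[], ⟨0, 0⟩⟩) 0 [] j [] = true := by decide +kernel

theorem rWd_letters : ∀ j < 9, ∀ l ∈ rWd j, l ≤ 5 := by decide +kernel

theorem φ_transitive (p : Om) : ∃ g, φ g p0 = p := by
  obtain ⟨a, ha⟩ := opnt_surj p
  refine ⟨(ψg a)⁻¹ * (ev Lg (rWd p.1))⁻¹, ?_⟩
  rw [map_mul, map_inv, map_inv, φ_ψg, φ_ev, Equiv.Perm.mul_apply,
    inv_ev_LO _ (rWd_letters _ p.1.2), p0]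
  have h := walk_sound (i := 0) (j := p.1) (k := []) (k1 := []) (by norm_num) p.1.2 (by simp)
    (by simp) (defs_ok _ p.1.2)
  rw [ev_nil] at h
  rw [h, tr_inv_opN, one_mul, opN_eq p.1.2]
  exact ha

/-- The stabiliser of the base point. -/
noncomputable def stab0 : Subgroup Cfsg.Spor.HN :=
  (MulAction.stabilizer (Equiv.Perm Om) p0).comap φ

theorem index_stab0 : stab0.index = 1539000 := by
  letI : MulAction Cfsg.Spor.HN Om := MulAction.compHom Om φ
  haveI : MulAction.IsPretransitive Cfsg.Spor.HN Om := by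
    refine ⟨fun p q => ?_⟩
    obtain ⟨g, hg⟩ := φ_transitive p
    obtain ⟨h, hh⟩ := φ_transitive q
    exact ⟨h * g⁻¹, by
      show φ (h * g⁻¹) p = q
      rw [map_mul, map_inv, Equiv.Perm.mul_apply, ← hg, Equiv.Perm.inv_def,
        Equiv.symm_apply_apply, hh]⟩
  have e : MulAction.stabilizer Cfsg.Spor.HN p0 = stab0 := rfl
  rw [← e, MulAction.index_stabilizer_of_transitive, card_Om]

theorem exists_fix_Sg1 : ∀ w ∈ alphC CD.SL (SC 1), ev Lk w ∈ pstab σK (0 : Fin 1408) := by
  intro w hw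
  have key : ∀ w ∈ alphC CD.SL (SC 1), (∀ l ∈ w, l < 5) ∧ follow (tget KD.Tb) 0 w = 0 := by
    decide +kernel
  rw [mem_pstab, matches_σK.fix_iff (fun l hl => length_Lk.symm ▸ (key w hw).1 l hl)]
  exact (key w hw).2

theorem opnt_eq_iff {i : Fin 9} {a b : K0} : opnt i a = opnt i b ↔ a * b⁻¹ ∈ Sg i.1 := by
  refine ⟨fun h => ?_, opnt_eq⟩
  have := QuotientGroup.eq.mp (eq_of_heq (Sigma.mk.inj h).2)
  rwa [inv_inv] at this

theorem tr_injective : Function.Injective tr := by
  refine (injective_iff_map_eq_one _).mpr fun k hk => ?_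
  have hS : Sg 1 ≤ pstab σK (0 : Fin 1408) := by
    rw [Sg_eq_listed le_rfl (by norm_num)]
    refine (Subgroup.closure_le _).mpr ?_
    rintro _ ⟨w, hw, rfl⟩
    exact exists_fix_Sg1 w hw
  have horb := (matches_σK.orbit_le (β := (0 : Fin 1408)) (m := 1408) (dm := 11) (gens := KD.CK0G)
    (P := KD.CK0P) (Inv := KD.CK0Inv) (by decide +kernel) (by rw [length_Lk]; decide +kernel)
    (S := ⊤) fun _ _ => trivial).1
  have huniv : orb σK ⊤ (0 : Fin 1408) = Set.univ :=
    Set.eq_of_subset_of_ncard_le (Set.subset_univ _) (by simpa using horb) (Set.toFinite _)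
  apply card_K0.2
  rw [map_one]
  refine Equiv.ext fun b => ?_
  obtain ⟨g, -, rfl⟩ := (huniv ▸ Set.mem_univ b : b ∈ orb σK ⊤ (0 : Fin 1408))
  have h : (tr k)⁻¹ (opN 1 g⁻¹) = opN 1 g⁻¹ := by rw [hk, inv_one, Equiv.Perm.one_apply]
  rw [tr_inv_opN, opN_eq (by norm_num), opN_eq (by norm_num), opnt_eq_iff, inv_inv] at h
  have h' : σK (g⁻¹ * k * g) 0 = 0 := mem_pstab.mp (hS h)
  rw [map_mul, map_mul, map_inv, Equiv.Perm.mul_apply, Equiv.Perm.mul_apply, Equiv.Perm.inv_def,
    Equiv.symm_apply_eq] at h'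
  rw [h', Equiv.Perm.one_apply]

theorem ψg_injective : Function.Injective ψg := fun a b h =>
  tr_injective (by rw [← φ_ψg, ← φ_ψg, h])

/-- The subgroup on `x, y, z`. -/
noncomputable def HX : Subgroup Cfsg.Spor.HN := ψg.range

theorem card_HX : Nat.card HX = 177408000 :=
  (Nat.card_congr (MonoidHom.ofInjective ψg_injective).toEquiv).symm.trans card_K0.1

theorem HX_le : HX ≤ stab0 := by
  rintro _ ⟨k, rfl⟩
  exact φ_ψg_p0 k

theorem card_HN : Nat.card Cfsg.Spor.HN = 273030912000000 := by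
  haveI := card_HN_le.1
  refine le_antisymm card_HN_le.2 ?_
  rw [← stab0.card_mul_index, index_stab0]
  calc 273030912000000 = 177408000 * 1539000 := by norm_num
    _ ≤ _ := Nat.mul_le_mul_right _ (card_HX ▸ Subgroup.card_le_of_le HX_le)

theorem stab0_eq : stab0 = HX := by
  haveI := card_HN_le.1
  refine (Subgroup.eq_of_le_of_card_ge HX_le ?_).symm
  have h := stab0.card_mul_index
  rw [index_stab0, card_HN] at h
  rw [card_HX]
  omega

theorem index_HX : HX.index = 1539000 := stab0_eq ▸ index_stab0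

theorem HX_eq_closure : HX = Subgroup.closure
    ({PresentedGroup.of .x, PresentedGroup.of .y, PresentedGroup.of .z} : Set Cfsg.Spor.HN) := by
  set T := Subgroup.closure
    ({PresentedGroup.of .x, PresentedGroup.of .y, PresentedGroup.of .z} : Set Cfsg.Spor.HN)
  refine le_antisymm ?_ ((Subgroup.closure_le _).mpr ?_)
  · have key : ∀ l < 5, fl Lg l ∈ T := by
      intro l hl
      have hx : (PresentedGroup.of .x : Cfsg.Spor.HN) ∈ T := Subgroup.subset_closure (by simp)
      have hy : (PresentedGroup.of .y : Cfsg.Spor.HN) ∈ T := Subgroup.subset_closure (by simp)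
      have hz : (PresentedGroup.of .z : Cfsg.Spor.HN) ∈ T := Subgroup.subset_closure (by simp)
      interval_cases l
      exacts [hx, inv_mem hx, hy, inv_mem hy, hz]
    rw [HX, MonoidHom.range_eq_map, ← closure_numGens, MonoidHom.map_closure, Subgroup.closure_le]
    rintro _ ⟨v, hv, rfl⟩
    obtain ⟨l, hl, rfl⟩ := List.getElem_of_mem hv
    rw [length_Lk] at hl
    rw [← List.getD_eq_getElem Lk 1 (by rw [length_Lk]; exact hl), SetLike.mem_coe,
      show Lk.getD l 1 = ev Lk [l] by simp [fl], ψg_ev (by simpa using hl)]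
    simpa using key l hl
  · rintro v (rfl | rfl | rfl)
    · exact ⟨ev Lk [0], by rw [ψg_ev (by decide)]; simp [fl, Lg]⟩
    · exact ⟨ev Lk [2], by rw [ψg_ev (by decide)]; simp [fl, Lg]⟩
    · exact ⟨ev Lk [4], by rw [ψg_ev (by decide)]; simp [fl, Lg]⟩

theorem map_eq_HX : (Subgroup.closure ({Cfsg.Spor.HN.x, Cfsg.Spor.HN.y, Cfsg.Spor.HN.z} :
    Set (FreeGroup Cfsg.Spor.HN.Gen))).map (PresentedGroup.mk
      (Cfsg.Spor.coxRelators Cfsg.Spor.HN.edges ∪ {r | r ∈ Cfsg.Spor.HN.extra})) = HX := by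
  rw [MonoidHom.map_closure, HX_eq_closure, Set.image_insert_eq, Set.image_insert_eq,
    Set.image_singleton]
  rfl

end CfsgLib.Coset.HN
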