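import Cfsg.Agent.Coset.HN.Derived
import Cfsg.Agent.Coset.HN.TKData
import Cfsg.Agent.Coset.HN.TNData

/-!
The group on `x, y, z` has order 177408000 and acts faithfully on 1408 points.
-/

set_option autoImplicit false
set_option maxRecDepth 100000
set_option Elab.async false

namespace CfsgLib.Coset.HN

theorem matches_id : Matches (sigList hperm) (MonoidHom.id (Equiv.Perm (Fin 1408))) KD.Tb := by
  intro l hl i
  rw [MonoidHom.id_apply, fl_sigList, sig_symm_apply hperm (length_sigList ▸ hl)]

/-- A lower bound for the image of a subgroup from an orbit. -/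
theorem card_map_ge {ws : List (List Nat)} {β : Fin 1408} {m dm : Nat} {P Inv : Nat → Nat}
    (hc : checkOrbit KD.Tb β m dm ws P Inv = true) (hl : checkLetters 5 ws = true) :
    m ≤ Nat.card ((genW Lk ws).map σK) := by
  have h := (matches_σK.orbit_le hc (length_Lk.symm ▸ hl) (S := genW Lk ws)
    fun w hw => ev_mem_genW hw).1
  refine h.trans ?_
  let f : (genW Lk ws).map σK → Fin 1408 := fun g => g.1 β
  have hsub : orb σK (genW Lk ws) β ⊆ Set.range f := by
    rintro _ ⟨g, hg, rfl⟩
    exact ⟨⟨σK g, g, hg, rfl⟩, rfl⟩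
  exact (Set.ncard_le_ncard hsub (Set.finite_range f)).trans (Finite.card_range_le f)

/-- The inverse of a letter of `a, a⁻¹, b`. -/
def iv3 : Nat → Nat
  | 0 => 1
  | 1 => 0
  | l => l

/-- The bound for a subgroup generated by `x` and an involution. -/
theorem card_pair_le (b : List Nat) (hb : ev Lk b * ev Lk b = 1) {E : Nat → Nat}
    {R : Tr (List Nat × Nat)} {rels subs : List (List Nat)} {d d' N nC n dn dk : Nat}
    {C Rep Ref Tb : Nat → Nat} (hR : checkRules rels subs R = true)
    (hd : checkDefs E 3 d' N = true) (hc : checkChunks E iv3 R 3 d N nC C = true)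
    (ht : checkTable E iv3 (N + chunk * nC) n 3 dn dk Rep Ref Tb = true) (hn : 0 < n)
    (hrel : ∀ w ∈ rels, ev [fl Lk 0, fl Lk 1, ev Lk b] w = 1) (hsubs : subs = [[0]]) :
    Finite (genW Lk [[0], b]) ∧ Nat.card (genW Lk [[0], b]) ≤ n * 4 := by
  set L : List K0 := [fl Lk 0, fl Lk 1, ev Lk b] with hL
  have hiv : ∀ l, fl L (iv3 l) = (fl L l)⁻¹ := by
    intro l
    match l with
    | 0 => simpa [hL, fl, iv3, ivK] using inv_Lk 0
    | 1 => simpa [hL, fl, iv3, ivK] using inv_Lk 1
    | 2 => simpa [hL, fl, iv3] using (inv_eq_of_mul_eq_one_right hb).symm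
    | n + 3 => simp [iv3, fl_of_le L (show L.length ≤ n + 3 by simp [hL])]
  have hT : TableOK L (Subgroup.zpowers (fl Lk 0)) E iv3 n Rep Tb :=
    tableOK_of_check (dn := dn) (dk := dk) (d := d) (d' := d') hiv hR hd hc ht hrel
      (by subst hsubs; simp [hL, fl])
  have hfin : IsOfFinOrder (fl Lk 0) := isOfFinOrder_iff_pow_eq_one.mpr ⟨4, by norm_num, by
    simpa [pow_succ, mul_assoc] using x_pow_four⟩
  have h4 : Nat.card (Subgroup.zpowers (fl Lk 0)) ≤ 4 := by
    rw [Nat.card_zpowers]
    exact orderOf_le_of_pow_eq_one (by norm_num) (by simpa [pow_succ, mul_assoc] using x_pow_four)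
  haveI : Finite (Subgroup.zpowers (fl Lk 0)) := Nat.finite_of_card_ne_zero (by
    rw [Nat.card_zpowers]; exact hfin.orderOf_pos.ne')
  have hle : Subgroup.zpowers (fl Lk 0) ≤ Subgroup.closure {v | v ∈ L} :=
    Subgroup.zpowers_le.mpr (Subgroup.subset_closure (by simp [hL]))
  have e : Subgroup.closure {v | v ∈ L} = genW Lk [[0], b] := by
    have h0 : fl Lk 0 ∈ genW Lk [[0], b] := by
      simpa using ev_mem_genW (L := Lk) (w := [0]) (ws := [[0], b]) (by simp)
    refine le_antisymm ((Subgroup.closure_le _).mpr ?_) ((Subgroup.closure_le _).mpr ?_)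
    · intro v hv
      simp only [hL, Set.mem_ofPred_eq, List.mem_cons, List.not_mem_nil, or_false] at hv
      rcases hv with rfl | rfl | rfl
      · exact h0
      · rw [SetLike.mem_coe, show fl Lk 1 = (fl Lk 0)⁻¹ from inv_Lk 0]; exact inv_mem h0
      · exact ev_mem_genW (by simp)
    · rintro _ ⟨v, hv, rfl⟩
      simp only [Set.mem_ofPred_eq, List.mem_cons, List.not_mem_nil, or_false] at hv
      rcases hv with rfl | rfl
      · simpa using Subgroup.subset_closure (k := {v | v ∈ L}) (show fl Lk 0 ∈ _ by simp [hL])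
      · exact Subgroup.subset_closure (by simp [hL])
  obtain ⟨hf, hcard⟩ := hT.finite_card_le hn hle inferInstance h4
  exact e ▸ ⟨hf, hcard⟩

theorem y3_sq : ev Lk [2, 2, 2] * ev Lk [2, 2, 2] = 1 := by
  rw [← ev_append]
  exact ev_numGens _ (by decide +kernel)

theorem ev_three (b : List Nat) : ∀ w : List Nat,
    ev [fl Lk 0, fl Lk 1, ev Lk b] w = ev Lk (w.flatMap fun l => [[0], [1], b].getD l [])
  | [] => rfl
  | l :: w => by
    rw [ev_cons, ev_three b w, List.flatMap_cons, ev_append]
    congr 1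
    match l with
    | 0 => simp [fl]
    | 1 => simp [fl]
    | 2 => simp [fl]
    | n + 3 => simp [fl]

theorem card_xy3 : Finite (genW Lk [[0], [2, 2, 2]]) ∧ Nat.card (genW Lk [[0], [2, 2, 2]]) ≤ 12 * 4 :=
  card_pair_le [2, 2, 2] y3_sq (E := TD.E) (R := TD.R) (rels := TD.rels) (subs := TD.subs)
    (d := 1) (d' := 4) (N := 12) (nC := 1) (n := 12) (dn := 4) (dk := 2)
    (C := TD.C) (Rep := TD.Rep) (Ref := TD.Ref) (Tb := TD.Tb)
    (by decide +kernel) (by decide +kernel) (by decide +kernel) (by decide +kernel) (by norm_num)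
    (fun w hw => by
      rw [ev_three]
      refine known_append (ws := ws2 ++ [dihW] ++ [[0, 1], [1, 0], [0, 0, 2, 2, 2, 0, 0, 2, 2, 2]])
        (rels := TD.rels.map fun w => w.flatMap fun l => [[0], [1], [2, 2, 2]].getD l [])
        ?_ (by decide +kernel) _ (List.mem_map.mpr ⟨w, hw, rfl⟩)
      intro v hv
      rcases List.mem_append.mp hv with hv | hv
      · exact ws3_known v hv
      · simp only [List.mem_cons, List.not_mem_nil, or_false] at hv
        rcases hv with rfl | rfl | rfl
        · exact ev_numGens _ (by decide +kernel)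
        · exact ev_numGens _ (by decide +kernel)
        · rw [show ([0, 0, 2, 2, 2, 0, 0, 2, 2, 2] : List Nat) = [0, 0] ++ [2, 2, 2] ++ [0, 0] ++ [2, 2, 2] from rfl]
          simp only [ev_append, show ev Lk [0, 0] = x2 by simp [x2]]
          rw [mul_assoc (x2 * _), ← x2_comm, mul_assoc, ← mul_assoc x2, ← x2_comm,
            mul_assoc (ev Lk [2, 2, 2]) x2 x2, x2_sq, mul_one, y3_sq])
    rfl

theorem card_xz : Finite (genW Lk [[0], [4]]) ∧ Nat.card (genW Lk [[0], [4]]) ≤ 2 * 4 :=
  card_pair_le [4] (by simpa using z_sq) (E := TZ.E) (R := TZ.R) (rels := TZ.rels) (subs := TZ.subs)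
    (d := 1) (d' := 1) (N := 2) (nC := 1) (n := 2) (dn := 1) (dk := 2)
    (C := TZ.C) (Rep := TZ.Rep) (Ref := TZ.Ref) (Tb := TZ.Tb)
    (by decide +kernel) (by decide +kernel) (by decide +kernel) (by decide +kernel) (by norm_num)
    (fun w hw => by
      rw [ev_three]
      exact known_append (ws := ws2)
        (rels := TZ.rels.map fun w => w.flatMap fun l => [[0], [1], [4]].getD l [])
        ws2_known (by decide +kernel) _ (List.mem_map.mpr ⟨w, hw, rfl⟩))
    rfl

theorem image_xy3 : 12 * 4 ≤ Nat.card ((genW Lk [[0], [2, 2, 2]]).map σK) :=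
  card_map_ge (β := (16 : Fin 1408)) (m := 48) (dm := 6) (P := KD.CD0P) (Inv := KD.CD0Inv)
    (by decide +kernel) (by decide +kernel)

theorem image_xz : 2 * 4 ≤ Nat.card ((genW Lk [[0], [4]]).map σK) :=
  card_map_ge (β := (0 : Fin 1408)) (m := 8) (dm := 3) (P := KD.CZ0P) (Inv := KD.CZ0Inv)
    (by decide +kernel) (by decide +kernel)

theorem c_comm_y : ev Lk cyW = 1 :=
  eq_one_of_image σK _ card_xy3.1 card_xy3.2 image_xy3
    (ev_mem_of_slice (E := CY.E) (R := CY.R) (rels := CY.rels) (subs := CY.subs)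
    (d := 8) (d' := 14) (N := 13051) (nC := 195) (C := CY.C) (loops := CY.loops) ws3_known
    (by decide +kernel) (by decide +kernel) (by decide +kernel) (by decide +kernel)
    (by decide +kernel) (fun v hv => ev_mem_genW ((by decide +kernel : ∀ v ∈ CY.subs, v ∈ [[0], [2, 2, 2]]) v hv)) (by decide +kernel))
    (σK_one (by decide +kernel) (by decide +kernel))

theorem ws4_known : ∀ w ∈ ws2 ++ [czW, cyW], ev Lk w = 1 := by
  simp [ws2, x_pow_four, x_sq_comm_y, c_comm_z, c_comm_y, -ev_cons]

/-- The commutator is trivial. -/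
theorem c_eq_one : ev Lk cW = 1 :=
  eq_one_of_image σK _ card_xz.1 card_xz.2 image_xz
    (ev_mem_of_slice (E := C1.E) (R := C1.R) (rels := C1.rels) (subs := C1.subs)
    (d := 7) (d' := 14) (N := 13840) (nC := 88) (C := C1.C) (loops := C1.loops) ws4_known
    (by decide +kernel) (by decide +kernel) (by decide +kernel) (by decide +kernel)
    (by decide +kernel) (fun v hv => ev_mem_genW ((by decide +kernel : ∀ v ∈ C1.subs, v ∈ [[0], [4]]) v hv)) (by decide +kernel))
    (σK_one (by decide +kernel) (by decide +kernel))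

theorem ws5_known : ∀ w ∈ ws2 ++ [dihW, cW], ev Lk w = 1 := by
  simp [ws2, x_pow_four, x_sq_comm_y, dih_rel, c_eq_one, -ev_cons]

/-- The first four letters. -/
noncomputable abbrev L4 : List K0 := lv Lk [0, 1, 2, 3]

theorem table_N : TableOK L4 (genW Lk [[0], [2, 2, 2]]) TN.E ivK 10500 TN.Rep TN.Tb :=
  tableOK_of_check (L := L4) (H := genW Lk [[0], [2, 2, 2]]) (E := TN.E) (iv := ivK) (R := TN.R) (rels := TN.rels)
    (subs := TN.subs) (d := 8) (d' := 14) (N := 10705) (nC := 170) (n := 10500) (dn := 14) (dk := 2)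
    (C := TN.C) (Rep := TN.Rep) (Ref := TN.Ref) (Tb := TN.Tb) (fun l => by
      rw [fl_lv, fl_lv]
      match l with
      | 0 => exact inv_Lk 0
      | 1 => exact inv_Lk 1
      | 2 => exact inv_Lk 2
      | 3 => exact inv_Lk 3
      | n + 4 => simp [ivK, fl_of_le, length_Lk]) (by decide +kernel)
    (by decide +kernel) (by decide +kernel) (by decide +kernel) (fun w hw => by
      rw [ev_lv]
      refine known_append ws5_known (rels := TN.rels.map fun w => w.map fun l => [0, 1, 2, 3].getD l 5)
        (by decide +kernel) _ ?_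
      rw [length_Lk]
      exact List.mem_map.mpr ⟨w, hw, rfl⟩) (fun w hw => by
      rw [ev_lv, length_Lk]
      exact ev_mem_genW ((by decide +kernel :
        ∀ w ∈ TN.subs, (w.map fun l => [0, 1, 2, 3].getD l 5) ∈ [[0], [2, 2, 2]]) w hw))

theorem closure_L4 : Subgroup.closure {v | v ∈ L4} = genW Lk [[0], [1], [2], [3]] := by
  rw [show ([[0], [1], [2], [3]] : List (List Nat)) = [0, 1, 2, 3].map (fun l => [l]) from rfl,
    genW_singletons]
  rfl

theorem card_xy : Finite (genW Lk [[0], [1], [2], [3]]) ∧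
    Nat.card (genW Lk [[0], [1], [2], [3]]) ≤ 504000 := by
  have h0 : genW Lk [[0], [2, 2, 2]] ≤ Subgroup.closure {v | v ∈ L4} := by
    rw [closure_L4, genW, Subgroup.closure_le]
    rintro _ ⟨v, hv, rfl⟩
    have key : ∀ l ∈ v, l ∈ [0, 1, 2, 3] := (by decide +kernel :
      ∀ v ∈ ([[0], [2, 2, 2]] : List (List Nat)), ∀ l ∈ v, l ∈ [0, 1, 2, 3]) v hv
    rw [SetLike.mem_coe, show ([[0], [1], [2], [3]] : List (List Nat)) = [0, 1, 2, 3].map (fun l => [l]) from rfl,
      genW_singletons]
    exact ev_mem_genBy _ key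
  obtain ⟨hf, hc⟩ := table_N.finite_card_le (by norm_num) h0 card_xy3.1 card_xy3.2
  exact closure_L4 ▸ ⟨hf, hc.trans (by norm_num)⟩

theorem table_K : TableOK Lk (genW Lk [[0], [1], [2], [3]]) TK.E ivK 352 TK.Rep TK.Tb := by
  have h5 := length_Lk
  refine tableOK_of_check (L := Lk) (H := genW Lk [[0], [1], [2], [3]]) (E := TK.E) (iv := ivK) (R := TK.R) (rels := TK.rels)
    (subs := TK.subs) (d := 8) (d' := 13) (N := 5928) (nC := 221) (n := 352) (dn := 9) (dk := 3)
    (C := TK.C) (Rep := TK.Rep) (Ref := TK.Ref) (Tb := TK.Tb) inv_Lk (by decide +kernel)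
    (by decide +kernel) (by decide +kernel) (by decide +kernel) (known_append ws5_known (by decide +kernel)) (fun w hw => ev_mem_genW ((by decide +kernel : ∀ w ∈ TK.subs, w ∈ [[0], [1], [2], [3]]) w hw))

theorem card_K0_le : Finite K0 ∧ Nat.card K0 ≤ 177408000 := by
  obtain ⟨h1, h2⟩ := table_K.finite_card_le (by norm_num)
    (by rw [closure_numGens]; exact le_top) card_xy.1 card_xy.2
  rw [closure_numGens] at h1 h2
  rw [Subgroup.card_top] at h2
  exact ⟨Finite.of_equiv _ Subgroup.topEquiv.toEquiv, h2.trans (by norm_num)⟩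

instance : Finite K0 := card_K0_le.1

theorem card_image_ge : 177408000 ≤ Nat.card σK.range := by
  rw [σK, range_numHom]
  set T : Subgroup (Equiv.Perm (Fin 1408)) := Subgroup.closure {v | v ∈ sigList hperm}
  have hT : ∀ ws : List (List Nat), checkLetters 5 ws = true →
      ∀ w ∈ ws, ev (sigList hperm) w ∈ T := by
    intro ws hl w hw
    induction w generalizing ws with
    | nil => exact one_mem _
    | cons l v ih =>
      rw [ev_cons]
      exact mul_mem (mem_closure_fl _) (ih [v] (by
        have := letters_lt hl _ hw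
        simp only [checkLetters, allList_iff, List.mem_singleton, forall_eq]
        intro x hx; exact Nat.ble_eq.mpr (this x (by simp [hx]))) (by simp))
  have hl3 : checkLetters (sigList hperm).length KD.CK3G = true := by rw [length_sigList]; decide +kernel
  have hl2 : checkLetters (sigList hperm).length KD.CK2G = true := by rw [length_sigList]; decide +kernel
  have hl1 : checkLetters (sigList hperm).length KD.CK1G = true := by rw [length_sigList]; decide +kernel
  have hl0 : checkLetters (sigList hperm).length KD.CK0G = true := by rw [length_sigList]; decide +kernel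
  have h3 := orbit_step_in matches_id T (base := [(0 : Fin 1408), 196, 16]) (β := (7 : Fin 1408))
    (m := 2) (dm := 1) (gens := KD.CK3G) (P := KD.CK3P) (Inv := KD.CK3Inv)
    (by decide +kernel) hl3 (by decide +kernel) (hT _ (length_sigList ▸ hl3))
    (show 1 ≤ Nat.card (T ⊓ baseStab (MonoidHom.id _) [(0 : Fin 1408), 196, 16, 7] :
      Subgroup (Equiv.Perm (Fin 1408))) from Nat.card_pos)
  have h2 := orbit_step_in matches_id T (base := [(0 : Fin 1408), 196]) (β := (16 : Fin 1408))
    (m := 125) (dm := 7) (gens := KD.CK2G) (P := KD.CK2P) (Inv := KD.CK2Inv)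
    (by decide +kernel) hl2 (by decide +kernel) (hT _ (length_sigList ▸ hl2)) h3
  have h1 := orbit_step_in matches_id T (base := [(0 : Fin 1408)]) (β := (196 : Fin 1408))
    (m := 504) (dm := 9) (gens := KD.CK1G) (P := KD.CK1P) (Inv := KD.CK1Inv)
    (by decide +kernel) hl1 (by decide +kernel) (hT _ (length_sigList ▸ hl1)) h2
  have h0 := orbit_step_in matches_id T (base := ([] : List (Fin 1408))) (β := (0 : Fin 1408))
    (m := 1408) (dm := 11) (gens := KD.CK0G) (P := KD.CK0P) (Inv := KD.CK0Inv)
    (by decide +kernel) hl0 (by decide +kernel) (hT _ (length_sigList ▸ hl0)) h1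
  simpa [baseStab] using h0

/-- The group on `x, y, z` has order 177408000 and is faithful on the 1408 points. -/
theorem card_K0 : Nat.card K0 = 177408000 ∧ Function.Injective σK := by
  have hle := card_K0_le.2
  have h2 := Nat.card_le_card_of_surjective _ σK.rangeRestrict_surjective
  have h3 := card_image_ge
  refine ⟨le_antisymm hle (h3.trans h2), fun a b hab => ?_⟩
  have hb := σK.rangeRestrict_surjective.bijective_of_nat_card_le (hle.trans h3)
  exact hb.1 (Subtype.ext hab)

end CfsgLib.Coset.HN
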