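import Cfsg.Agent.Coset.HN.CertDefs
import Cfsg.Agent.Coset.Orbit

/-!
Checker for the action on the union of the nine coset spaces: exact stabilisers, one edge for each
orbit of the point stabiliser, and walks verifying the relators.
-/

set_option autoImplicit false

namespace CfsgLib.Coset.HN

/-- A listed subgroup: a small subgroup and a transversal. -/
structure SgC where
  /-- the number of representatives -/
  m : Nat
  /-- logarithmic bound -/
  dm : Nat
  /-- the size of the small subgroup -/
  r : Nat
  /-- logarithmic bound -/
  dr : Nat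
  /-- the representatives -/
  U : Nat → Nat
  /-- their origin -/
  Up : Nat → Nat
  /-- the small subgroup -/
  F : Nat → Nat
  /-- their origin -/
  Fp : Nat → Nat
  /-- generators of the small subgroup -/
  H : List Nat
  /-- their expressions -/
  HV : List (List Nat)
  /-- products in the small subgroup -/
  FR : Nat → Nat
  /-- products of representatives and generators -/
  UR : Nat → Nat
  /-- the generators -/
  idx : List Nat

/-- A membership witness. -/
structure Wit where
  /-- position in the small subgroup -/
  x : Nat
  /-- position in the transversal -/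
  y : Nat

/-- One step by `t`. -/
structure StepC where
  /-- the root -/
  r : Nat
  /-- the stabiliser factor -/
  u : Wit
  /-- the element reached -/
  k : Nat

/-- A closed walk. -/
structure WalkC where
  /-- the steps -/
  cs : List StepC
  /-- the final stabiliser factor -/
  e : Wit

/-- A level of a chain. -/
structure LevC where
  /-- the point -/
  pt : Nat
  /-- the orbit size -/
  m : Nat
  /-- logarithmic bound -/
  dm : Nat
  /-- the generators -/
  gens : List Nat
  /-- their expressions -/
  V : List (List Nat)
  /-- the points -/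
  P : Nat → Nat
  /-- positions -/
  Inv : Nat → Nat

/-- An orbit of the point stabiliser. -/
structure RootC where
  /-- the index -/
  i : Nat
  /-- the element -/
  a : Nat
  /-- the index of the image -/
  j : Nat
  /-- the element of the image -/
  b : Nat
  /-- generators of the stabiliser -/
  T : List Nat
  /-- witnesses that they fix both -/
  tw : List (Wit × Wit)
  /-- the order of the stabiliser -/
  want : Nat
  /-- the chain -/
  lev : List LevC
  /-- the walk of `t⁵` -/
  t5 : WalkC
  /-- the walk of `x⁻¹txt²` -/
  xr : WalkC
  /-- the forest on the conjugates of `z` -/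
  zp : Nat → Nat
  /-- its roots -/
  zr : List Nat
  /-- the walks of `(zt)³` -/
  zt : List WalkC

variable (Tb : Nat → Nat) (base : List Nat) (SL : List (Nat × Nat))

/-- The element of a witness. -/
noncomputable def witWord (C : SgC) (w : Wit) : List Nat := up (C.F w.x) ++ up (C.U w.y)

/-- The stabiliser alphabet. -/
noncomputable def alphC (C : SgC) : List (List Nat) :=
  C.idx.map (fun g => up (SL.getD g (0, 0)).2) ++
    C.idx.map (fun g => invWd inv7 (up (SL.getD g (0, 0)).2))

/-- The listed subgroup is the one generated by the alphabet. -/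
noncomputable def checkSg (C : SgC) : Bool :=
  cond (cond (Nat.ble 1 C.m) (Nat.ble 1 C.r) false)
  (cond (cond (wordEq (up (C.U 0)) []) (wordEq (up (C.F 0)) []) false)
  (cond (allList low (alphC SL C))
  (cond (allList (fun h => cond (low (up (C.H.getD h 0)))
      (cond (allList (fun l => Nat.ble (Nat.add l 1) (alphC SL C).length) (C.HV.getD h []))
        (eqK Tb base (up (C.H.getD h 0))
          ((C.HV.getD h []).flatMap fun l => (alphC SL C).getD l [])) false) false)
    (List.range C.H.length))
  (cond (allBelow C.dm C.m fun j => cond (low (up (C.U j)))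
      (cond (cond (Nat.beq j 0) true
        (cond (Nat.ble (Nat.add (field (C.Up j) 0) 1) j)
          (cond (Nat.ble (Nat.add (field (C.Up j) 1) 1) C.idx.length)
            (eqK Tb base (up (C.U j)) (up (C.U (field (C.Up j) 0)) ++
              up (SL.getD (C.idx.getD (field (C.Up j) 1) 0) (0, 0)).2)) false) false))
        (allList (fun g =>
          cond (Nat.ble (Nat.add (field (C.UR j) (Nat.mul 2 g)) 1) C.r)
            (cond (Nat.ble (Nat.add (field (C.UR j) (Nat.add (Nat.mul 2 g) 1)) 1) C.m)
              (eqK Tb base (up (C.U j) ++ up (SL.getD (C.idx.getD g 0) (0, 0)).2)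
                (witWord C ⟨field (C.UR j) (Nat.mul 2 g), field (C.UR j) (Nat.add (Nat.mul 2 g) 1)⟩))
              false) false) (List.range C.idx.length)) false) false)
    (allBelow C.dr C.r fun x => cond (low (up (C.F x)))
      (cond (cond (Nat.beq x 0) true
        (cond (Nat.ble (Nat.add (field (C.Fp x) 0) 1) x)
          (cond (Nat.ble (Nat.add (field (C.Fp x) 1) 1) C.H.length)
            (eqK Tb base (up (C.F x)) (up (C.F (field (C.Fp x) 0)) ++
              up (C.H.getD (field (C.Fp x) 1) 0))) false) false))
        (allList (fun h =>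
          cond (Nat.ble (Nat.add (field (C.FR x) h) 1) C.r)
            (eqK Tb base (up (C.F x) ++ up (C.H.getD h 0)) (up (C.F (field (C.FR x) h)))) false)
          (List.range C.H.length)) false) false) false) false) false) false) false

variable (CS : List SgC)

/-- The witness is in range. -/
noncomputable def witOK (i : Nat) (w : Wit) : Bool :=
  cond (Nat.ble (Nat.add w.x 1) (CS.getD (Nat.sub i 1) ⟨1, 0, 1, 0, id, id, id, id, [], [], id, id, []⟩).r)
    (Nat.ble (Nat.add w.y 1) (CS.getD (Nat.sub i 1) ⟨1, 0, 1, 0, id, id, id, id, [], [], id, id, []⟩).m)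
    false

/-- The word is the element of the witness. -/
noncomputable def inSg (i : Nat) (v : List Nat) (w : Wit) : Bool :=
  cond (Nat.beq i 0) true
    (cond (witOK CS i w)
      (eqK Tb base v (witWord (CS.getD (Nat.sub i 1) ⟨1, 0, 1, 0, id, id, id, id, [], [], id, id, []⟩) w))
      false)

variable (RS : Nat → RootC) (nR : Nat)

/-- A step is right. -/
noncomputable def stepOK (i : Nat) (k : List Nat) (c : StepC) : Bool :=
  cond (Nat.ble (Nat.add c.r 1) nR) (cond (Nat.beq (RS c.r).i i) (cond (low (up c.k))
    (cond (Nat.beq i 0)
      (eqK Tb base (up c.k) (up (RS c.r).b))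
      (cond (witOK CS i c.u)
        (cond (Nat.beq (followF (tget Tb) 0 (invWd inv7 (up (RS c.r).a) ++ invWd inv7
            (witWord (CS.getD (Nat.sub i 1) ⟨1, 0, 1, 0, id, id, id, id, [], [], id, id, []⟩) c.u) ++ k)) 0)
          (eqK Tb base (up c.k) (up (RS c.r).b ++ (invWd inv7 (up (RS c.r).a) ++ invWd inv7
            (witWord (CS.getD (Nat.sub i 1) ⟨1, 0, 1, 0, id, id, id, id, [], [], id, id, []⟩) c.u) ++ k)))
          false) false)) false) false) false

/-- Follow a word over `x, x⁻¹, y, y⁻¹, z, t`. -/
noncomputable def runT : List Nat → List StepC → Nat → List Nat → (Nat → List Nat → Bool) → Bool :=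
  fun U => List.rec (motive := fun _ => List StepC → Nat → List Nat → (Nat → List Nat → Bool) → Bool)
    (fun cs i k K => List.rec (K i k) (fun _ _ _ => false) cs)
    (fun l _ ih cs i k K =>
      cond (Nat.ble (Nat.add l 1) 5) (ih cs i (k ++ [l]) K)
        (cond (Nat.beq l 5)
          (List.rec false (fun c t _ => cond (stepOK Tb base CS RS nR i k c)
            (ih t (RS c.r).j (up c.k) K) false) cs) false)) U

/-- A walk returns to the target. -/
noncomputable def walkOK (U : List Nat) (C : WalkC) (i : Nat) (k : List Nat) (j : Nat)
    (k1 : List Nat) : Bool :=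
  runT Tb base CS RS nR U C.cs i k fun a ka =>
    cond (Nat.beq a j) (inSg Tb base CS j (ka ++ invWd inv7 k1) C.e) false

/-- The data of one orbit are right. -/
noncomputable def checkRootA (R : RootC) : Bool :=
  cond (cond (Nat.ble R.i 8) (Nat.ble R.j 8) false)
  (cond (cond (low (up R.a)) (low (up R.b)) false)
  (cond (allList (fun q => cond (cond (low (up (R.T.getD q 0)))
        (Nat.beq (followF (tget Tb) 0 (up (R.T.getD q 0))) 0) false)
      (cond (inSg Tb base CS R.i (up R.a ++ up (R.T.getD q 0) ++ invWd inv7 (up R.a))
          (R.tw.getD q (⟨0, 0⟩, ⟨0, 0⟩)).1)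
        (inSg Tb base CS R.j (up R.b ++ up (R.T.getD q 0) ++ invWd inv7 (up R.b))
          (R.tw.getD q (⟨0, 0⟩, ⟨0, 0⟩)).2) false) false)
    (List.range R.T.length))
  (cond (walkOK Tb base CS RS nR [5, 5, 5, 5, 5] R.t5 R.i (up R.a) R.i (up R.a))
    (walkOK Tb base CS RS nR [1, 5, 0, 5, 5] R.xr R.i (up R.a) R.i (up R.a)) false) false) false) false

/-- The expressions of the generators of a level. -/
noncomputable def tAlph (R : RootC) : List (List Nat) :=
  R.T.map up ++ R.T.map (fun e => invWd inv7 (up e))

/-- One level of a chain is right. -/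
noncomputable def checkLevC (R : RootC) (bs : List Nat) (V : LevC) : Bool :=
  cond (cond (Nat.ble (Nat.add V.pt 1) 1408) (allList (fun v => low (up v)) V.gens) false)
  (cond (checkOrbit Tb V.pt V.m V.dm (V.gens.map up) V.P V.Inv)
  (cond (checkFix Tb bs (V.gens.map up))
    (allList (fun q => cond (allList (fun l => Nat.ble (Nat.add l 1) (tAlph R).length) (V.V.getD q []))
        (eqK Tb base (up (V.gens.getD q 0)) ((V.V.getD q []).flatMap fun l => (tAlph R).getD l [])) false)
      (List.range V.gens.length)) false) false) false

/-- The chain is right and gives the order. -/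
noncomputable def checkChainC (R : RootC) : List LevC → List Nat → Nat → Bool :=
  fun ls => List.rec (motive := fun _ => List Nat → Nat → Bool)
    (fun _ w => Nat.beq w 1)
    (fun V _ ih bs w => cond (checkLevC Tb base R bs V)
      (cond (Nat.beq (Nat.mul (Nat.div w V.m) V.m) w) (ih (bs ++ [V.pt]) (Nat.div w V.m)) false) false) ls

variable (ZL : Nat → Nat)

/-- The forest on the conjugates of `z` and the walks at its roots. -/
noncomputable def checkRootZ (R : RootC) : Bool :=
  cond (Nat.beq R.zr.length R.zt.length)
  (cond (allBelow 6 50 fun c =>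
      cond (Nat.beq (field (R.zp c) 1) 0)
        (cond (Nat.ble (Nat.add (field (R.zp c) 0) 1) R.zr.length)
          (Nat.beq (R.zr.getD (field (R.zp c) 0) 0) c) false)
        (cond (Nat.ble (Nat.add (field (R.zp c) 0) 1) 50)
          (cond (Nat.ble (field (R.zp c) 1) R.T.length)
            (cond (Nat.ble (Nat.add (field (R.zp (field (R.zp c) 0)) 2) 1) (field (R.zp c) 2))
              (eqK Tb base (up (ZL c)) (invWd inv7 (up (R.T.getD (Nat.sub (field (R.zp c) 1) 1) 0)) ++
                up (ZL (field (R.zp c) 0)) ++ up (R.T.getD (Nat.sub (field (R.zp c) 1) 1) 0))) false)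
            false) false))
    (allList (fun q => cond (Nat.ble (Nat.add (R.zr.getD q 0) 1) 50)
        (walkOK Tb base CS RS nR
          (up (ZL (R.zr.getD q 0)) ++ 5 :: (up (ZL (R.zr.getD q 0)) ++ 5 :: (up (ZL (R.zr.getD q 0)) ++ [5])))
          (R.zt.getD q ⟨[], ⟨0, 0⟩⟩) R.i (up R.a) R.i (up R.a)) false)
      (List.range R.zr.length)) false) false

/-- Every point is reached from a root by stabiliser elements. -/
noncomputable def checkForest (i n dn : Nat) (Par : Nat → Nat) : Bool :=
  allBelow dn n fun p =>
    cond (Nat.beq (field (Par p) 1) 0)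
      (cond (Nat.ble (Nat.add (field (Par p) 0) 1) nR)
        (cond (Nat.beq (RS (field (Par p) 0)).i i)
          (Nat.beq (followF (tget Tb) 0 (invWd inv7 (up (RS (field (Par p) 0)).a))) p) false) false)
      (cond (Nat.ble (Nat.add (field (Par p) 0) 1) n)
        (cond (Nat.ble (field (Par p) 1) SL.length)
          (cond (Nat.beq (SL.getD (Nat.sub (field (Par p) 1) 1) (0, 0)).1 i)
            (cond (Nat.ble (Nat.add (field (Par (field (Par p) 0)) 2) 1) (field (Par p) 2))
              (Nat.beq (followF (tget Tb) (field (Par p) 0)
                (up (SL.getD (Nat.sub (field (Par p) 1) 1) (0, 0)).2)) p) false) false) false) false)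

end CfsgLib.Coset.HN
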