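import Cfsg.Agent.Coset.HN.LowData
import Cfsg.Agent.Coset.HN.CertData
import Cfsg.Agent.Coset.HN.KData

set_option autoImplicit false
set_option maxRecDepth 100000
set_option Elab.async false

namespace CfsgLib.Coset.HN

theorem sg_ok1 : checkSg KD.Tb [0, 196, 16, 7] CD.SL LD.S1 = true := by decide +kernel

theorem sg_ok2 : checkSg KD.Tb [0, 196, 16, 7] CD.SL LD.S2 = true := by decide +kernel

theorem sg_ok3 : checkSg KD.Tb [0, 196, 16, 7] CD.SL LD.S3 = true := by decide +kernel

theorem sg_ok4 : checkSg KD.Tb [0, 196, 16, 7] CD.SL LD.S4 = true := by decide +kernel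

theorem sg_ok5 : checkSg KD.Tb [0, 196, 16, 7] CD.SL LD.S5 = true := by decide +kernel

theorem sg_ok6 : checkSg KD.Tb [0, 196, 16, 7] CD.SL LD.S6 = true := by decide +kernel

theorem sg_ok7 : checkSg KD.Tb [0, 196, 16, 7] CD.SL LD.S7 = true := by decide +kernel

end CfsgLib.Coset.HN
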