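import Cfsg.Agent.Coset.HN.LowData
import Cfsg.Agent.Coset.HN.CertData
import Cfsg.Agent.Coset.HN.KData

set_option autoImplicit false
set_option maxRecDepth 100000
set_option Elab.async false

namespace CfsgLib.Coset.HN

theorem sg_ok8 : checkSg KD.Tb [0, 196, 16, 7] CD.SL LD.S8 = true := by decide +kernel

end CfsgLib.Coset.HN
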