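import Cfsg.Agent.Coset.HN.LowSg
import Cfsg.Agent.Coset.HN.SgCheckA
import Cfsg.Agent.Coset.HN.SgCheckB

/-!
The stabilisers of the representatives have exactly the expected orders; the union of the coset
spaces and the translations on it.
-/

set_option autoImplicit false
set_option maxRecDepth 100000
set_option Elab.async false

namespace CfsgLib.Coset.HN

/-- The listed subgroup of a representative. -/
noncomputable abbrev SC (i : Nat) : SgC :=
  LD.CS.getD (Nat.sub i 1) ⟨1, 0, 1, 0, id, id, id, id, [], [], id, id, []⟩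

/-- The orders of the stabilisers. -/
def orders : List Nat := [177408000, 126000, 5040, 80640, 1440, 500, 240, 640, 30720]

theorem checkSg_SC : ∀ i, 1 ≤ i → i < 9 → checkSg KD.Tb baseK CD.SL (SC i) = true := by
  intro i h1 h9
  interval_cases i
  exacts [sg_ok1, sg_ok2, sg_ok3, sg_ok4, sg_ok5, sg_ok6, sg_ok7, sg_ok8]

theorem idx_right : ∀ i < 9, 1 ≤ i → ∀ g ∈ (SC i).idx, g < CD.SL.length ∧ (sE g).1 = i := by
  intro i h9 h1
  interval_cases i
  all_goals decide +kernel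

theorem idx_all : ∀ g < CD.SL.length, 1 ≤ (sE g).1 → g ∈ (SC (sE g).1).idx := by decide +kernel

theorem Sg_eq_listed {i : Nat} (h1 : 1 ≤ i) (h9 : i < 9) : Sg i = genW Lk (alphC CD.SL (SC i)) := by
  rw [genW_alphC (checkSg_SC i h1 h9), Sg]
  congr 1
  ext v
  constructor
  · rintro ⟨g, hg, rfl, rfl⟩
    exact ⟨g, idx_all g hg h1, rfl⟩
  · rintro ⟨g, hg, rfl⟩
    exact ⟨g, (idx_right i h9 h1 g hg).1, (idx_right i h9 h1 g hg).2, rfl⟩

theorem Sg_zero : Sg 0 = ⊤ := by
  have key : ∀ w ∈ ([[0], [2], [4]] : List (List Nat)), ∃ g < CD.SL.length,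
      (sE g).1 = 0 ∧ low (up (sE g).2) = true ∧ eqK KD.Tb baseK w (up (sE g).2) = true := by
    decide +kernel
  have hm : ∀ w ∈ ([[0], [2], [4]] : List (List Nat)), ev Lk w ∈ Sg 0 := by
    intro w hw
    obtain ⟨g, hg, hi, hl, he⟩ := key w hw
    rw [ev_eq_of_eqK ((by decide : ∀ w ∈ ([[0], [2], [4]] : List (List Nat)), ∀ l ∈ w, l < 5) w hw)
      (low_iff hl) he]
    exact Subgroup.subset_closure ⟨g, hg, hi, rfl⟩
  rw [eq_top_iff, ← closure_numGens, Subgroup.closure_le]
  intro v hv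
  obtain ⟨l, hl, rfl⟩ := List.getElem_of_mem hv
  rw [← List.getD_eq_getElem Lk 1 hl, SetLike.mem_coe, show Lk.getD l 1 = fl Lk l from rfl]
  have hl5 : l < 5 := length_Lk ▸ hl
  have h0 := hm [0] (by simp); have h2 := hm [2] (by simp); have h4 := hm [4] (by simp)
  simp only [ev_cons, ev_nil, mul_one] at h0 h2 h4
  interval_cases l
  · exact h0
  · rw [show fl Lk 1 = (fl Lk 0)⁻¹ from inv_Lk 0]; exact inv_mem h0
  · exact h2
  · rw [show fl Lk 3 = (fl Lk 2)⁻¹ from inv_Lk 2]; exact inv_mem h2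
  · exact h4

theorem card_Sg_ge : ∀ i < 9, orders.getD i 0 ≤ Nat.card (Sg i) := by
  intro i hi
  interval_cases i
  · rw [Sg_zero, Subgroup.card_top, card_K0.1]; rfl
  exacts [card_Sg1, card_Sg2, card_Sg3, card_Sg4, card_Sg5, card_Sg6, card_Sg7, card_Sg8]

theorem card_Sg_le : ∀ i < 9, Nat.card (Sg i) ≤ orders.getD i 0 := by
  intro i hi
  rcases Nat.eq_zero_or_pos i with rfl | h0
  · rw [Sg_zero, Subgroup.card_top, card_K0.1]; rfl
  · rw [Sg_eq_listed h0 hi]
    refine (card_listed_le (checkSg_SC i h0 hi)).trans ?_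
    interval_cases i
    all_goals decide +kernel

theorem index_Sg : ∀ i < 9, (Sg i).index = sizes.getD i 0 := by
  intro i hi
  have h := (Sg i).card_mul_index
  rw [card_K0.1, le_antisymm (card_Sg_le i hi) (card_Sg_ge i hi)] at h
  have h2 : orders.getD i 0 * sizes.getD i 0 = 177408000 :=
    (by decide +kernel : ∀ i < 9, orders.getD i 0 * sizes.getD i 0 = 177408000) i hi
  exact Nat.eq_of_mul_eq_mul_left (Nat.pos_of_ne_zero fun h0 => by rw [h0, zero_mul] at h2; omega)
    (h.trans h2.symm)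

/-- The points: cosets of the stabilisers, one space for each representative. -/
abbrev Om : Type := Σ i : Fin 9, K0 ⧸ Sg i.1

theorem card_Om : Nat.card Om = 1539000 := by
  rw [Nat.card_sigma]
  calc ∑ i : Fin 9, Nat.card (K0 ⧸ Sg i.1) = ∑ i : Fin 9, sizes.getD i.1 0 :=
        Finset.sum_congr rfl fun i _ => index_Sg i.1 i.2
    _ = 1539000 := by decide +kernel

instance : Finite Om := Nat.finite_of_card_ne_zero (by rw [card_Om]; norm_num)

/-- Left translation. -/
noncomputable def tr : K0 →* Equiv.Perm Om where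
  toFun k := Equiv.sigmaCongrRight fun _ => MulAction.toPerm k
  map_one' := by
    refine Equiv.ext fun p => ?_
    obtain ⟨i, q⟩ := p
    exact congrArg (Sigma.mk i) (one_smul K0 q)
  map_mul' a b := by
    refine Equiv.ext fun p => ?_
    obtain ⟨i, q⟩ := p
    exact congrArg (Sigma.mk i) (mul_smul a b q)

/-- The point of an element. -/
noncomputable def opnt (i : Fin 9) (a : K0) : Om := ⟨i, QuotientGroup.mk a⁻¹⟩

theorem tr_inv_opnt (i : Fin 9) (a k : K0) : (tr k)⁻¹ (opnt i a) = opnt i (a * k) := by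
  rw [← map_inv, opnt, opnt]
  show (Sigma.mk i (k⁻¹ • (QuotientGroup.mk a⁻¹ : K0 ⧸ Sg i.1)) : Om) = _
  rw [MulAction.Quotient.smul_mk, mul_inv_rev]
  rfl

theorem opnt_eq {i : Fin 9} {a b : K0} (h : a * b⁻¹ ∈ Sg i.1) : opnt i a = opnt i b := by
  unfold opnt
  congr 1
  refine QuotientGroup.eq.mpr ?_
  rwa [inv_inv]

theorem opnt_surj (p : Om) : ∃ a, opnt p.1 a = p := by
  obtain ⟨i, q⟩ := p
  induction q using QuotientGroup.induction_on with
  | _ g => exact ⟨g⁻¹, by rw [opnt, inv_inv]⟩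

theorem witOK_mem {i : Nat} (h1 : 1 ≤ i) (h9 : i < 9) {w : Wit} (h : witOK LD.CS i w = true) :
    (∀ l ∈ witWord (SC i) w, l < 5) ∧ ev Lk (witWord (SC i) w) ∈ Sg i := by
  unfold witOK at h
  rw [cond_false_eq_true] at h
  have hc := checkSg_SC i h1 h9
  have hx : w.x < (SC i).r := Nat.ble_eq.mp h.1
  have hy : w.y < (SC i).m := Nat.ble_eq.mp h.2
  refine ⟨low_append (f_data hc _ hx).1 (u_data hc _ hy).1, ?_⟩
  rw [Sg_eq_listed h1 h9, mem_listed_iff hc]
  exact ⟨_, hx, _, hy, (ev_append _ _ _).symm⟩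

theorem inSg_mem {i : Nat} (h9 : i < 9) {v : List Nat} {w : Wit} (hv : ∀ l ∈ v, l < 5)
    (h : inSg KD.Tb baseK LD.CS i v w = true) : ev Lk v ∈ Sg i := by
  unfold inSg at h
  cases h0 : Nat.beq i 0
  · rw [h0, cond_false, cond_false_eq_true] at h
    have h1 : 1 ≤ i := Nat.pos_of_ne_zero (Nat.ne_of_beq_eq_false h0)
    obtain ⟨hl, hm⟩ := witOK_mem h1 h9 h.1
    rw [ev_eq_of_eqK hv hl h.2]
    exact hm
  · rw [Nat.eq_of_beq_eq_true h0, Sg_zero]; trivial

end CfsgLib.Coset.HN
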