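import Cfsg.Agent.Coset.HN.Upper
import Cfsg.Agent.Coset.HN.LowData

/-!
The listed subgroups are the subgroups generated by the stabiliser elements of the representatives.
-/

set_option autoImplicit false
set_option maxRecDepth 100000
set_option Elab.async false

namespace CfsgLib.Coset.HN

variable {C : SgC}

/-- The elements of the small subgroup. -/
noncomputable def fEl (C : SgC) (x : Nat) : K0 := ev Lk (up (C.F x))

/-- The representatives. -/
noncomputable def uEl (C : SgC) (j : Nat) : K0 := ev Lk (up (C.U j))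

theorem checkSg_parts (h : checkSg KD.Tb baseK CD.SL C = true) :
    (1 ≤ C.m ∧ 1 ≤ C.r) ∧ (up (C.U 0) = [] ∧ up (C.F 0) = []) ∧
    (∀ w ∈ alphC CD.SL C, ∀ l ∈ w, l < 5) := by
  unfold checkSg at h
  simp only [cond_false_eq_true] at h
  obtain ⟨⟨h1, h2⟩, ⟨h3, h4⟩, h5, -⟩ := h
  exact ⟨⟨Nat.ble_eq.mp h1, Nat.ble_eq.mp h2⟩, ⟨eq_of_wordEq h3, eq_of_wordEq h4⟩,
    fun w hw => low_iff (allList_iff.mp h5 w hw)⟩

theorem low_append {u v : List Nat} (hu : ∀ l ∈ u, l < 5) (hv : ∀ l ∈ v, l < 5) :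
    ∀ l ∈ u ++ v, l < 5 := fun l hl => (List.mem_append.mp hl).elim (hu l) (hv l)

theorem ev_flatMap_mem {g : List (List Nat)} {T : Subgroup K0} (hg : ∀ w ∈ g, ev Lk w ∈ T) :
    ∀ v : List Nat, ev Lk (v.flatMap fun i => g.getD i []) ∈ T := ev_expK_mem hg

theorem h_data (h : checkSg KD.Tb baseK CD.SL C = true) :
    ∀ q < C.H.length, (∀ l ∈ up (C.H.getD q 0), l < 5) ∧
      ev Lk (up (C.H.getD q 0)) ∈ genW Lk (alphC CD.SL C) := by
  have hal := (checkSg_parts h).2.2
  unfold checkSg at h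
  simp only [cond_false_eq_true] at h
  obtain ⟨-, -, -, hH, -⟩ := h
  intro q hq
  have h1 := allList_iff.mp hH q (List.mem_range.mpr hq)
  simp only [cond_false_eq_true] at h1
  obtain ⟨hl, -, he⟩ := h1
  refine ⟨low_iff hl, ?_⟩
  rw [ev_eq_of_eqK (low_iff hl) (expK_low hal _) he]
  exact ev_flatMap_mem (fun w hw => ev_mem_genW hw) _

theorem f_data (h : checkSg KD.Tb baseK CD.SL C = true) :
    ∀ x < C.r, (∀ l ∈ up (C.F x), l < 5) ∧
      (x ≠ 0 → ∃ p < x, ∃ q < C.H.length, fEl C x = fEl C p * ev Lk (up (C.H.getD q 0))) ∧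
      ∀ q < C.H.length, ∃ y < C.r, fEl C x * ev Lk (up (C.H.getD q 0)) = fEl C y := by
  have hq' := h_data h
  unfold checkSg at h
  simp only [cond_false_eq_true] at h
  obtain ⟨-, -, -, -, -, hF⟩ := h
  have hlow : ∀ x < C.r, ∀ l ∈ up (C.F x), l < 5 := fun x hx => by
    have h1 := of_allBelow hF x hx
    simp only [cond_false_eq_true] at h1
    exact low_iff h1.1
  intro x hx
  have h1 := of_allBelow hF x hx
  simp only [cond_false_eq_true] at h1
  obtain ⟨-, hp, hc⟩ := h1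
  refine ⟨hlow x hx, fun h0 => ?_, fun q hq => ?_⟩
  · have hb : Nat.beq x 0 = false := by
      cases hh : Nat.beq x 0
      · rfl
      · exact absurd (Nat.eq_of_beq_eq_true hh) h0
    rw [hb, cond_false] at hp
    simp only [cond_false_eq_true] at hp
    obtain ⟨h2, h3, h4⟩ := hp
    have hpx : field (C.Fp x) 0 < x := Nat.ble_eq.mp h2
    have hqq : field (C.Fp x) 1 < C.H.length := Nat.ble_eq.mp h3
    refine ⟨_, hpx, _, hqq, ?_⟩
    rw [fEl, ev_eq_of_eqK (hlow x hx) (low_append (hlow _ (hpx.trans hx)) (hq' _ hqq).1) h4, ev_append]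
    rfl
  · have h2 := allList_iff.mp hc q (List.mem_range.mpr hq)
    simp only [cond_false_eq_true] at h2
    have hy : field (C.FR x) q < C.r := Nat.ble_eq.mp h2.1
    refine ⟨_, hy, ?_⟩
    rw [fEl, ← ev_append, ev_eq_of_eqK (low_append (hlow x hx) (hq' q hq).1) (hlow _ hy) h2.2]
    rfl

theorem f_mem (h : checkSg KD.Tb baseK CD.SL C = true) :
    ∀ x < C.r, fEl C x ∈ genW Lk (alphC CD.SL C) := by
  intro x
  induction x using Nat.strong_induction_on with
  | _ x ih =>
    intro hx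
    rcases Nat.eq_zero_or_pos x with rfl | h0
    · rw [fEl, (checkSg_parts h).2.1.2, ev_nil]; exact one_mem _
    · obtain ⟨p, hp, q, hq, e⟩ := (f_data h x hx).2.1 h0.ne'
      rw [e]
      exact mul_mem (ih p hp (hp.trans hx)) (h_data h q hq).2

theorem f_mul (h : checkSg KD.Tb baseK CD.SL C = true) :
    ∀ y < C.r, ∀ x < C.r, ∃ z < C.r, fEl C x * fEl C y = fEl C z := by
  intro y
  induction y using Nat.strong_induction_on with
  | _ y ih =>
    intro hy x hx
    rcases Nat.eq_zero_or_pos y with rfl | h0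
    · exact ⟨x, hx, by rw [fEl, fEl, (checkSg_parts h).2.1.2, ev_nil, mul_one]⟩
    · obtain ⟨p, hp, q, hq, e⟩ := (f_data h y hy).2.1 h0.ne'
      obtain ⟨z, hz, e'⟩ := ih p hp (hp.trans hy) x hx
      obtain ⟨w, hw, e''⟩ := (f_data h z hz).2.2 q hq
      exact ⟨w, hw, by rw [e, ← mul_assoc, e', e'']⟩

theorem idx_mem (g : Nat) (hg : g < C.idx.length) :
    up (CD.SL.getD (C.idx.getD g 0) (0, 0)).2 ∈ alphC CD.SL C := by
  rw [List.getD_eq_getElem _ _ hg]
  exact List.mem_append_left _ (List.mem_map.mpr ⟨_, List.getElem_mem hg, rfl⟩)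

theorem u_data (h : checkSg KD.Tb baseK CD.SL C = true) :
    ∀ j < C.m, (∀ l ∈ up (C.U j), l < 5) ∧
      (j ≠ 0 → ∃ p < j, ∃ g < C.idx.length,
        uEl C j = uEl C p * ev Lk (up (CD.SL.getD (C.idx.getD g 0) (0, 0)).2)) ∧
      ∀ g < C.idx.length, ∃ x < C.r, ∃ i < C.m,
        uEl C j * ev Lk (up (CD.SL.getD (C.idx.getD g 0) (0, 0)).2) = fEl C x * uEl C i := by
  have hal := (checkSg_parts h).2.2
  have hf := f_data h
  unfold checkSg at h
  simp only [cond_false_eq_true] at h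
  obtain ⟨-, -, -, -, hU, -⟩ := h
  have hlow : ∀ j < C.m, ∀ l ∈ up (C.U j), l < 5 := fun j hj => by
    have h1 := of_allBelow hU j hj
    simp only [cond_false_eq_true] at h1
    exact low_iff h1.1
  intro j hj
  have h1 := of_allBelow hU j hj
  simp only [cond_false_eq_true] at h1
  obtain ⟨-, hp, hc⟩ := h1
  refine ⟨hlow j hj, fun h0 => ?_, fun g hg => ?_⟩
  · have hb : Nat.beq j 0 = false := by
      cases hh : Nat.beq j 0
      · rfl
      · exact absurd (Nat.eq_of_beq_eq_true hh) h0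
    rw [hb, cond_false] at hp
    simp only [cond_false_eq_true] at hp
    obtain ⟨h2, h3, h4⟩ := hp
    have hpj : field (C.Up j) 0 < j := Nat.ble_eq.mp h2
    have hgg : field (C.Up j) 1 < C.idx.length := Nat.ble_eq.mp h3
    refine ⟨_, hpj, _, hgg, ?_⟩
    rw [uEl, ev_eq_of_eqK (hlow j hj)
      (low_append (hlow _ (hpj.trans hj)) (hal _ (idx_mem _ hgg))) h4, ev_append]
    rfl
  · have h2 := allList_iff.mp hc g (List.mem_range.mpr hg)
    simp only [cond_false_eq_true] at h2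
    have hx : field (C.UR j) (Nat.mul 2 g) < C.r := Nat.ble_eq.mp h2.1
    have hi : field (C.UR j) (Nat.add (Nat.mul 2 g) 1) < C.m := Nat.ble_eq.mp h2.2.1
    refine ⟨_, hx, _, hi, ?_⟩
    have he := ev_eq_of_eqK (low_append (hlow j hj) (hal _ (idx_mem g hg)))
      (low_append ((hf _ hx).1) (hlow _ hi)) h2.2.2
    rw [uEl, ← ev_append, he]
    exact ev_append _ _ _

theorem u_mem (h : checkSg KD.Tb baseK CD.SL C = true) :
    ∀ j < C.m, uEl C j ∈ genW Lk (alphC CD.SL C) := by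
  intro j
  induction j using Nat.strong_induction_on with
  | _ j ih =>
    intro hj
    rcases Nat.eq_zero_or_pos j with rfl | h0
    · rw [uEl, (checkSg_parts h).2.1.1, ev_nil]; exact one_mem _
    · obtain ⟨p, hp, g, hg, e⟩ := (u_data h j hj).2.1 h0.ne'
      rw [e]
      exact mul_mem (ih p hp (hp.trans hj)) (ev_mem_genW (idx_mem g hg))

theorem genW_alphC (h : checkSg KD.Tb baseK CD.SL C = true) :
    genW Lk (alphC CD.SL C) =
      Subgroup.closure {v | ∃ g ∈ C.idx, ev Lk (up (CD.SL.getD g (0, 0)).2) = v} := by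
  have hal := (checkSg_parts h).2.2
  refine le_antisymm ((Subgroup.closure_le _).mpr ?_) ((Subgroup.closure_le _).mpr ?_)
  · rintro _ ⟨w, hw, rfl⟩
    rcases List.mem_append.mp hw with hw | hw <;> obtain ⟨g, hg, rfl⟩ := List.mem_map.mp hw
    · exact Subgroup.subset_closure ⟨g, hg, rfl⟩
    · rw [SetLike.mem_coe,
        ev_invWd_Lk (hal _ (List.mem_append_left _ (List.mem_map.mpr ⟨g, hg, rfl⟩)))]
      exact inv_mem (Subgroup.subset_closure ⟨g, hg, rfl⟩)
  · rintro _ ⟨g, hg, rfl⟩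
    exact ev_mem_genW (List.mem_append_left _ (List.mem_map.mpr ⟨g, hg, rfl⟩))

/-- The listed elements form the subgroup. -/
theorem mem_listed_iff (h : checkSg KD.Tb baseK CD.SL C = true) (v : K0) :
    v ∈ genW Lk (alphC CD.SL C) ↔ ∃ x < C.r, ∃ j < C.m, fEl C x * uEl C j = v := by
  refine ⟨fun hv => ?_, ?_⟩
  · let P : Set K0 := {v | ∃ x < C.r, ∃ j < C.m, fEl C x * uEl C j = v}
    have hone : (1 : K0) ∈ P := by
      obtain ⟨⟨hm, hr⟩, ⟨hu, hf⟩, -⟩ := checkSg_parts h
      exact ⟨0, hr, 0, hm, by simp [fEl, uEl, hu, hf]⟩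
    have hstep : ∀ a ∈ P, ∀ g ∈ C.idx, a * ev Lk (up (CD.SL.getD g (0, 0)).2) ∈ P := by
      rintro _ ⟨x, hx, j, hj, rfl⟩ g hg
      obtain ⟨q, hq, rfl⟩ := List.getElem_of_mem hg
      obtain ⟨x', hx', i, hi, e⟩ := (u_data h j hj).2.2 q hq
      obtain ⟨z, hz, e'⟩ := f_mul h x' hx' x hx
      refine ⟨z, hz, i, hi, ?_⟩
      rw [List.getD_eq_getElem C.idx 0 hq] at e
      rw [← e', mul_assoc, mul_assoc, e]
    rw [genW_alphC h] at hv
    induction hv using Subgroup.closure_induction_right with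
    | one => exact hone
    | mul_right a _ b hb ih =>
      obtain ⟨g, hg, rfl⟩ := hb
      exact hstep a ih g hg
    | mul_inv_cancel a _ b hb ih =>
      obtain ⟨g, hg, rfl⟩ := hb
      set b := ev Lk (up (CD.SL.getD g (0, 0)).2)
      have him : (fun y => y * b) '' P = P :=
        Set.eq_of_subset_of_ncard_le (by rintro _ ⟨y, hy, rfl⟩; exact hstep y hy g hg)
          (by rw [Set.ncard_image_of_injective _ (mul_left_injective b)]) (Set.toFinite P)
      have hy : a ∈ (fun y => y * b) '' P := by rw [him]; exact ih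
      obtain ⟨y, hy, rfl⟩ := hy
      simp only [mul_inv_cancel_right]
      exact hy
  · rintro ⟨x, hx, j, hj, rfl⟩
    exact mul_mem (f_mem h x hx) (u_mem h j hj)

theorem card_listed_le (h : checkSg KD.Tb baseK CD.SL C = true) :
    Nat.card (genW Lk (alphC CD.SL C)) ≤ C.r * C.m := by
  let f : Fin C.r × Fin C.m → genW Lk (alphC CD.SL C) := fun p =>
    ⟨fEl C p.1 * uEl C p.2, (mem_listed_iff h _).mpr ⟨p.1, p.1.2, p.2, p.2.2, rfl⟩⟩
  have hf : Function.Surjective f := fun v => by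
    obtain ⟨x, hx, j, hj, e⟩ := (mem_listed_iff h v.1).mp v.2
    exact ⟨(⟨x, hx⟩, ⟨j, hj⟩), Subtype.ext e⟩
  simpa using Nat.card_le_card_of_surjective f hf

end CfsgLib.Coset.HN
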