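import Cfsg.Agent.Coset.HN.SgCheckA
import Cfsg.Agent.Coset.HN.LowData
import Cfsg.Agent.Coset.HN.CertData
import Cfsg.Agent.Coset.HN.KData

set_option autoImplicit false
set_option maxRecDepth 100000
set_option Elab.async false

namespace CfsgLib.Coset.HN

theorem rootA0 : checkRootA KD.Tb [0, 196, 16, 7] LD.CS LD.RS 101 (LD.RS 0) = true := by decide +kernel
theorem chain0 : checkChainC KD.Tb [0, 196, 16, 7] (LD.RS 0) (LD.RS 0).lev [] (LD.RS 0).want = true := by decide +kernel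
theorem rootZ0 : checkRootZ KD.Tb [0, 196, 16, 7] LD.CS LD.RS 101 LD.ZL (LD.RS 0) = true := by decide +kernel

theorem rootA1 : checkRootA KD.Tb [0, 196, 16, 7] LD.CS LD.RS 101 (LD.RS 1) = true := by decide +kernel
theorem chain1 : checkChainC KD.Tb [0, 196, 16, 7] (LD.RS 1) (LD.RS 1).lev [] (LD.RS 1).want = true := by decide +kernel
theorem rootZ1 : checkRootZ KD.Tb [0, 196, 16, 7] LD.CS LD.RS 101 LD.ZL (LD.RS 1) = true := by decide +kernel

theorem rootA2 : checkRootA KD.Tb [0, 196, 16, 7] LD.CS LD.RS 101 (LD.RS 2) = true := by decide +kernel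
theorem chain2 : checkChainC KD.Tb [0, 196, 16, 7] (LD.RS 2) (LD.RS 2).lev [] (LD.RS 2).want = true := by decide +kernel
theorem rootZ2 : checkRootZ KD.Tb [0, 196, 16, 7] LD.CS LD.RS 101 LD.ZL (LD.RS 2) = true := by decide +kernel

theorem rootA3 : checkRootA KD.Tb [0, 196, 16, 7] LD.CS LD.RS 101 (LD.RS 3) = true := by decide +kernel
theorem chain3 : checkChainC KD.Tb [0, 196, 16, 7] (LD.RS 3) (LD.RS 3).lev [] (LD.RS 3).want = true := by decide +kernel
theorem rootZ3 : checkRootZ KD.Tb [0, 196, 16, 7] LD.CS LD.RS 101 LD.ZL (LD.RS 3) = true := by decide +kernel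

theorem rootA4 : checkRootA KD.Tb [0, 196, 16, 7] LD.CS LD.RS 101 (LD.RS 4) = true := by decide +kernel
theorem chain4 : checkChainC KD.Tb [0, 196, 16, 7] (LD.RS 4) (LD.RS 4).lev [] (LD.RS 4).want = true := by decide +kernel
theorem rootZ4 : checkRootZ KD.Tb [0, 196, 16, 7] LD.CS LD.RS 101 LD.ZL (LD.RS 4) = true := by decide +kernel

theorem rootA5 : checkRootA KD.Tb [0, 196, 16, 7] LD.CS LD.RS 101 (LD.RS 5) = true := by decide +kernel
theorem chain5 : checkChainC KD.Tb [0, 196, 16, 7] (LD.RS 5) (LD.RS 5).lev [] (LD.RS 5).want = true := by decide +kernel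
theorem rootZ5 : checkRootZ KD.Tb [0, 196, 16, 7] LD.CS LD.RS 101 LD.ZL (LD.RS 5) = true := by decide +kernel

theorem rootA6 : checkRootA KD.Tb [0, 196, 16, 7] LD.CS LD.RS 101 (LD.RS 6) = true := by decide +kernel
theorem chain6 : checkChainC KD.Tb [0, 196, 16, 7] (LD.RS 6) (LD.RS 6).lev [] (LD.RS 6).want = true := by decide +kernel
theorem rootZ6 : checkRootZ KD.Tb [0, 196, 16, 7] LD.CS LD.RS 101 LD.ZL (LD.RS 6) = true := by decide +kernel

theorem rootA7 : checkRootA KD.Tb [0, 196, 16, 7] LD.CS LD.RS 101 (LD.RS 7) = true := by decide +kernel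
theorem chain7 : checkChainC KD.Tb [0, 196, 16, 7] (LD.RS 7) (LD.RS 7).lev [] (LD.RS 7).want = true := by decide +kernel
theorem rootZ7 : checkRootZ KD.Tb [0, 196, 16, 7] LD.CS LD.RS 101 LD.ZL (LD.RS 7) = true := by decide +kernel

theorem rootA8 : checkRootA KD.Tb [0, 196, 16, 7] LD.CS LD.RS 101 (LD.RS 8) = true := by decide +kernel
theorem chain8 : checkChainC KD.Tb [0, 196, 16, 7] (LD.RS 8) (LD.RS 8).lev [] (LD.RS 8).want = true := by decide +kernel
theorem rootZ8 : checkRootZ KD.Tb [0, 196, 16, 7] LD.CS LD.RS 101 LD.ZL (LD.RS 8) = true := by decide +kernel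

theorem rootA9 : checkRootA KD.Tb [0, 196, 16, 7] LD.CS LD.RS 101 (LD.RS 9) = true := by decide +kernel
theorem chain9 : checkChainC KD.Tb [0, 196, 16, 7] (LD.RS 9) (LD.RS 9).lev [] (LD.RS 9).want = true := by decide +kernel
theorem rootZ9 : checkRootZ KD.Tb [0, 196, 16, 7] LD.CS LD.RS 101 LD.ZL (LD.RS 9) = true := by decide +kernel

theorem rootA10 : checkRootA KD.Tb [0, 196, 16, 7] LD.CS LD.RS 101 (LD.RS 10) = true := by decide +kernel
theorem chain10 : checkChainC KD.Tb [0, 196, 16, 7] (LD.RS 10) (LD.RS 10).lev [] (LD.RS 10).want = true := by decide +kernel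
theorem rootZ10 : checkRootZ KD.Tb [0, 196, 16, 7] LD.CS LD.RS 101 LD.ZL (LD.RS 10) = true := by decide +kernel

theorem rootA11 : checkRootA KD.Tb [0, 196, 16, 7] LD.CS LD.RS 101 (LD.RS 11) = true := by decide +kernel
theorem chain11 : checkChainC KD.Tb [0, 196, 16, 7] (LD.RS 11) (LD.RS 11).lev [] (LD.RS 11).want = true := by decide +kernel
theorem rootZ11 : checkRootZ KD.Tb [0, 196, 16, 7] LD.CS LD.RS 101 LD.ZL (LD.RS 11) = true := by decide +kernel

theorem rootA12 : checkRootA KD.Tb [0, 196, 16, 7] LD.CS LD.RS 101 (LD.RS 12) = true := by decide +kernel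
theorem chain12 : checkChainC KD.Tb [0, 196, 16, 7] (LD.RS 12) (LD.RS 12).lev [] (LD.RS 12).want = true := by decide +kernel
theorem rootZ12 : checkRootZ KD.Tb [0, 196, 16, 7] LD.CS LD.RS 101 LD.ZL (LD.RS 12) = true := by decide +kernel

end CfsgLib.Coset.HN
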