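import Cfsg.Agent.Coset.HN.RootCheck0
import Cfsg.Agent.Coset.HN.LowData
import Cfsg.Agent.Coset.HN.CertData
import Cfsg.Agent.Coset.HN.KData

set_option autoImplicit false
set_option maxRecDepth 100000
set_option Elab.async false

namespace CfsgLib.Coset.HN

theorem rootA13 : checkRootA KD.Tb [0, 196, 16, 7] LD.CS LD.RS 101 (LD.RS 13) = true := by decide +kernel
theorem chain13 : checkChainC KD.Tb [0, 196, 16, 7] (LD.RS 13) (LD.RS 13).lev [] (LD.RS 13).want = true := by decide +kernel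
theorem rootZ13 : checkRootZ KD.Tb [0, 196, 16, 7] LD.CS LD.RS 101 LD.ZL (LD.RS 13) = true := by decide +kernel

theorem rootA14 : checkRootA KD.Tb [0, 196, 16, 7] LD.CS LD.RS 101 (LD.RS 14) = true := by decide +kernel
theorem chain14 : checkChainC KD.Tb [0, 196, 16, 7] (LD.RS 14) (LD.RS 14).lev [] (LD.RS 14).want = true := by decide +kernel
theorem rootZ14 : checkRootZ KD.Tb [0, 196, 16, 7] LD.CS LD.RS 101 LD.ZL (LD.RS 14) = true := by decide +kernel

theorem rootA15 : checkRootA KD.Tb [0, 196, 16, 7] LD.CS LD.RS 101 (LD.RS 15) = true := by decide +kernel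
theorem chain15 : checkChainC KD.Tb [0, 196, 16, 7] (LD.RS 15) (LD.RS 15).lev [] (LD.RS 15).want = true := by decide +kernel
theorem rootZ15 : checkRootZ KD.Tb [0, 196, 16, 7] LD.CS LD.RS 101 LD.ZL (LD.RS 15) = true := by decide +kernel

theorem rootA16 : checkRootA KD.Tb [0, 196, 16, 7] LD.CS LD.RS 101 (LD.RS 16) = true := by decide +kernel
theorem chain16 : checkChainC KD.Tb [0, 196, 16, 7] (LD.RS 16) (LD.RS 16).lev [] (LD.RS 16).want = true := by decide +kernel
theorem rootZ16 : checkRootZ KD.Tb [0, 196, 16, 7] LD.CS LD.RS 101 LD.ZL (LD.RS 16) = true := by decide +kernel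

theorem rootA17 : checkRootA KD.Tb [0, 196, 16, 7] LD.CS LD.RS 101 (LD.RS 17) = true := by decide +kernel
theorem chain17 : checkChainC KD.Tb [0, 196, 16, 7] (LD.RS 17) (LD.RS 17).lev [] (LD.RS 17).want = true := by decide +kernel
theorem rootZ17 : checkRootZ KD.Tb [0, 196, 16, 7] LD.CS LD.RS 101 LD.ZL (LD.RS 17) = true := by decide +kernel

theorem rootA18 : checkRootA KD.Tb [0, 196, 16, 7] LD.CS LD.RS 101 (LD.RS 18) = true := by decide +kernel
theorem chain18 : checkChainC KD.Tb [0, 196, 16, 7] (LD.RS 18) (LD.RS 18).lev [] (LD.RS 18).want = true := by decide +kernel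
theorem rootZ18 : checkRootZ KD.Tb [0, 196, 16, 7] LD.CS LD.RS 101 LD.ZL (LD.RS 18) = true := by decide +kernel

theorem rootA19 : checkRootA KD.Tb [0, 196, 16, 7] LD.CS LD.RS 101 (LD.RS 19) = true := by decide +kernel
theorem chain19 : checkChainC KD.Tb [0, 196, 16, 7] (LD.RS 19) (LD.RS 19).lev [] (LD.RS 19).want = true := by decide +kernel
theorem rootZ19 : checkRootZ KD.Tb [0, 196, 16, 7] LD.CS LD.RS 101 LD.ZL (LD.RS 19) = true := by decide +kernel

theorem rootA20 : checkRootA KD.Tb [0, 196, 16, 7] LD.CS LD.RS 101 (LD.RS 20) = true := by decide +kernel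
theorem chain20 : checkChainC KD.Tb [0, 196, 16, 7] (LD.RS 20) (LD.RS 20).lev [] (LD.RS 20).want = true := by decide +kernel
theorem rootZ20 : checkRootZ KD.Tb [0, 196, 16, 7] LD.CS LD.RS 101 LD.ZL (LD.RS 20) = true := by decide +kernel

theorem rootA21 : checkRootA KD.Tb [0, 196, 16, 7] LD.CS LD.RS 101 (LD.RS 21) = true := by decide +kernel
theorem chain21 : checkChainC KD.Tb [0, 196, 16, 7] (LD.RS 21) (LD.RS 21).lev [] (LD.RS 21).want = true := by decide +kernel
theorem rootZ21 : checkRootZ KD.Tb [0, 196, 16, 7] LD.CS LD.RS 101 LD.ZL (LD.RS 21) = true := by decide +kernel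

theorem rootA22 : checkRootA KD.Tb [0, 196, 16, 7] LD.CS LD.RS 101 (LD.RS 22) = true := by decide +kernel
theorem chain22 : checkChainC KD.Tb [0, 196, 16, 7] (LD.RS 22) (LD.RS 22).lev [] (LD.RS 22).want = true := by decide +kernel
theorem rootZ22 : checkRootZ KD.Tb [0, 196, 16, 7] LD.CS LD.RS 101 LD.ZL (LD.RS 22) = true := by decide +kernel

theorem rootA23 : checkRootA KD.Tb [0, 196, 16, 7] LD.CS LD.RS 101 (LD.RS 23) = true := by decide +kernel
theorem chain23 : checkChainC KD.Tb [0, 196, 16, 7] (LD.RS 23) (LD.RS 23).lev [] (LD.RS 23).want = true := by decide +kernel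
theorem rootZ23 : checkRootZ KD.Tb [0, 196, 16, 7] LD.CS LD.RS 101 LD.ZL (LD.RS 23) = true := by decide +kernel

theorem rootA24 : checkRootA KD.Tb [0, 196, 16, 7] LD.CS LD.RS 101 (LD.RS 24) = true := by decide +kernel
theorem chain24 : checkChainC KD.Tb [0, 196, 16, 7] (LD.RS 24) (LD.RS 24).lev [] (LD.RS 24).want = true := by decide +kernel
theorem rootZ24 : checkRootZ KD.Tb [0, 196, 16, 7] LD.CS LD.RS 101 LD.ZL (LD.RS 24) = true := by decide +kernel

theorem rootA25 : checkRootA KD.Tb [0, 196, 16, 7] LD.CS LD.RS 101 (LD.RS 25) = true := by decide +kernel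
theorem chain25 : checkChainC KD.Tb [0, 196, 16, 7] (LD.RS 25) (LD.RS 25).lev [] (LD.RS 25).want = true := by decide +kernel
theorem rootZ25 : checkRootZ KD.Tb [0, 196, 16, 7] LD.CS LD.RS 101 LD.ZL (LD.RS 25) = true := by decide +kernel

end CfsgLib.Coset.HN
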