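import Cfsg.Agent.Coset.HN.RootCheck1
import Cfsg.Agent.Coset.HN.LowData
import Cfsg.Agent.Coset.HN.CertData
import Cfsg.Agent.Coset.HN.KData

set_option autoImplicit false
set_option maxRecDepth 100000
set_option Elab.async false

namespace CfsgLib.Coset.HN

theorem rootA26 : checkRootA KD.Tb [0, 196, 16, 7] LD.CS LD.RS 101 (LD.RS 26) = true := by decide +kernel
theorem chain26 : checkChainC KD.Tb [0, 196, 16, 7] (LD.RS 26) (LD.RS 26).lev [] (LD.RS 26).want = true := by decide +kernel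
theorem rootZ26 : checkRootZ KD.Tb [0, 196, 16, 7] LD.CS LD.RS 101 LD.ZL (LD.RS 26) = true := by decide +kernel

theorem rootA27 : checkRootA KD.Tb [0, 196, 16, 7] LD.CS LD.RS 101 (LD.RS 27) = true := by decide +kernel
theorem chain27 : checkChainC KD.Tb [0, 196, 16, 7] (LD.RS 27) (LD.RS 27).lev [] (LD.RS 27).want = true := by decide +kernel
theorem rootZ27 : checkRootZ KD.Tb [0, 196, 16, 7] LD.CS LD.RS 101 LD.ZL (LD.RS 27) = true := by decide +kernel

theorem rootA28 : checkRootA KD.Tb [0, 196, 16, 7] LD.CS LD.RS 101 (LD.RS 28) = true := by decide +kernel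
theorem chain28 : checkChainC KD.Tb [0, 196, 16, 7] (LD.RS 28) (LD.RS 28).lev [] (LD.RS 28).want = true := by decide +kernel
theorem rootZ28 : checkRootZ KD.Tb [0, 196, 16, 7] LD.CS LD.RS 101 LD.ZL (LD.RS 28) = true := by decide +kernel

theorem rootA29 : checkRootA KD.Tb [0, 196, 16, 7] LD.CS LD.RS 101 (LD.RS 29) = true := by decide +kernel
theorem chain29 : checkChainC KD.Tb [0, 196, 16, 7] (LD.RS 29) (LD.RS 29).lev [] (LD.RS 29).want = true := by decide +kernel
theorem rootZ29 : checkRootZ KD.Tb [0, 196, 16, 7] LD.CS LD.RS 101 LD.ZL (LD.RS 29) = true := by decide +kernel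

theorem rootA30 : checkRootA KD.Tb [0, 196, 16, 7] LD.CS LD.RS 101 (LD.RS 30) = true := by decide +kernel
theorem chain30 : checkChainC KD.Tb [0, 196, 16, 7] (LD.RS 30) (LD.RS 30).lev [] (LD.RS 30).want = true := by decide +kernel
theorem rootZ30 : checkRootZ KD.Tb [0, 196, 16, 7] LD.CS LD.RS 101 LD.ZL (LD.RS 30) = true := by decide +kernel

theorem rootA31 : checkRootA KD.Tb [0, 196, 16, 7] LD.CS LD.RS 101 (LD.RS 31) = true := by decide +kernel
theorem chain31 : checkChainC KD.Tb [0, 196, 16, 7] (LD.RS 31) (LD.RS 31).lev [] (LD.RS 31).want = true := by decide +kernel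
theorem rootZ31 : checkRootZ KD.Tb [0, 196, 16, 7] LD.CS LD.RS 101 LD.ZL (LD.RS 31) = true := by decide +kernel

theorem rootA32 : checkRootA KD.Tb [0, 196, 16, 7] LD.CS LD.RS 101 (LD.RS 32) = true := by decide +kernel
theorem chain32 : checkChainC KD.Tb [0, 196, 16, 7] (LD.RS 32) (LD.RS 32).lev [] (LD.RS 32).want = true := by decide +kernel
theorem rootZ32 : checkRootZ KD.Tb [0, 196, 16, 7] LD.CS LD.RS 101 LD.ZL (LD.RS 32) = true := by decide +kernel

theorem rootA33 : checkRootA KD.Tb [0, 196, 16, 7] LD.CS LD.RS 101 (LD.RS 33) = true := by decide +kernel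
theorem chain33 : checkChainC KD.Tb [0, 196, 16, 7] (LD.RS 33) (LD.RS 33).lev [] (LD.RS 33).want = true := by decide +kernel
theorem rootZ33 : checkRootZ KD.Tb [0, 196, 16, 7] LD.CS LD.RS 101 LD.ZL (LD.RS 33) = true := by decide +kernel

theorem rootA34 : checkRootA KD.Tb [0, 196, 16, 7] LD.CS LD.RS 101 (LD.RS 34) = true := by decide +kernel
theorem chain34 : checkChainC KD.Tb [0, 196, 16, 7] (LD.RS 34) (LD.RS 34).lev [] (LD.RS 34).want = true := by decide +kernel
theorem rootZ34 : checkRootZ KD.Tb [0, 196, 16, 7] LD.CS LD.RS 101 LD.ZL (LD.RS 34) = true := by decide +kernel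

theorem rootA35 : checkRootA KD.Tb [0, 196, 16, 7] LD.CS LD.RS 101 (LD.RS 35) = true := by decide +kernel
theorem chain35 : checkChainC KD.Tb [0, 196, 16, 7] (LD.RS 35) (LD.RS 35).lev [] (LD.RS 35).want = true := by decide +kernel
theorem rootZ35 : checkRootZ KD.Tb [0, 196, 16, 7] LD.CS LD.RS 101 LD.ZL (LD.RS 35) = true := by decide +kernel

theorem rootA36 : checkRootA KD.Tb [0, 196, 16, 7] LD.CS LD.RS 101 (LD.RS 36) = true := by decide +kernel
theorem chain36 : checkChainC KD.Tb [0, 196, 16, 7] (LD.RS 36) (LD.RS 36).lev [] (LD.RS 36).want = true := by decide +kernel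
theorem rootZ36 : checkRootZ KD.Tb [0, 196, 16, 7] LD.CS LD.RS 101 LD.ZL (LD.RS 36) = true := by decide +kernel

theorem rootA37 : checkRootA KD.Tb [0, 196, 16, 7] LD.CS LD.RS 101 (LD.RS 37) = true := by decide +kernel
theorem chain37 : checkChainC KD.Tb [0, 196, 16, 7] (LD.RS 37) (LD.RS 37).lev [] (LD.RS 37).want = true := by decide +kernel
theorem rootZ37 : checkRootZ KD.Tb [0, 196, 16, 7] LD.CS LD.RS 101 LD.ZL (LD.RS 37) = true := by decide +kernel

theorem rootA38 : checkRootA KD.Tb [0, 196, 16, 7] LD.CS LD.RS 101 (LD.RS 38) = true := by decide +kernel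
theorem chain38 : checkChainC KD.Tb [0, 196, 16, 7] (LD.RS 38) (LD.RS 38).lev [] (LD.RS 38).want = true := by decide +kernel
theorem rootZ38 : checkRootZ KD.Tb [0, 196, 16, 7] LD.CS LD.RS 101 LD.ZL (LD.RS 38) = true := by decide +kernel

end CfsgLib.Coset.HN
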