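import Cfsg.Agent.Coset.HN.RootCheck2
import Cfsg.Agent.Coset.HN.LowData
import Cfsg.Agent.Coset.HN.CertData
import Cfsg.Agent.Coset.HN.KData

set_option autoImplicit false
set_option maxRecDepth 100000
set_option Elab.async false

namespace CfsgLib.Coset.HN

theorem rootA39 : checkRootA KD.Tb [0, 196, 16, 7] LD.CS LD.RS 101 (LD.RS 39) = true := by decide +kernel
theorem chain39 : checkChainC KD.Tb [0, 196, 16, 7] (LD.RS 39) (LD.RS 39).lev [] (LD.RS 39).want = true := by decide +kernel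
theorem rootZ39 : checkRootZ KD.Tb [0, 196, 16, 7] LD.CS LD.RS 101 LD.ZL (LD.RS 39) = true := by decide +kernel

theorem rootA40 : checkRootA KD.Tb [0, 196, 16, 7] LD.CS LD.RS 101 (LD.RS 40) = true := by decide +kernel
theorem chain40 : checkChainC KD.Tb [0, 196, 16, 7] (LD.RS 40) (LD.RS 40).lev [] (LD.RS 40).want = true := by decide +kernel
theorem rootZ40 : checkRootZ KD.Tb [0, 196, 16, 7] LD.CS LD.RS 101 LD.ZL (LD.RS 40) = true := by decide +kernel

theorem rootA41 : checkRootA KD.Tb [0, 196, 16, 7] LD.CS LD.RS 101 (LD.RS 41) = true := by decide +kernel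
theorem chain41 : checkChainC KD.Tb [0, 196, 16, 7] (LD.RS 41) (LD.RS 41).lev [] (LD.RS 41).want = true := by decide +kernel
theorem rootZ41 : checkRootZ KD.Tb [0, 196, 16, 7] LD.CS LD.RS 101 LD.ZL (LD.RS 41) = true := by decide +kernel

theorem rootA42 : checkRootA KD.Tb [0, 196, 16, 7] LD.CS LD.RS 101 (LD.RS 42) = true := by decide +kernel
theorem chain42 : checkChainC KD.Tb [0, 196, 16, 7] (LD.RS 42) (LD.RS 42).lev [] (LD.RS 42).want = true := by decide +kernel
theorem rootZ42 : checkRootZ KD.Tb [0, 196, 16, 7] LD.CS LD.RS 101 LD.ZL (LD.RS 42) = true := by decide +kernel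

theorem rootA43 : checkRootA KD.Tb [0, 196, 16, 7] LD.CS LD.RS 101 (LD.RS 43) = true := by decide +kernel
theorem chain43 : checkChainC KD.Tb [0, 196, 16, 7] (LD.RS 43) (LD.RS 43).lev [] (LD.RS 43).want = true := by decide +kernel
theorem rootZ43 : checkRootZ KD.Tb [0, 196, 16, 7] LD.CS LD.RS 101 LD.ZL (LD.RS 43) = true := by decide +kernel

theorem rootA44 : checkRootA KD.Tb [0, 196, 16, 7] LD.CS LD.RS 101 (LD.RS 44) = true := by decide +kernel
theorem chain44 : checkChainC KD.Tb [0, 196, 16, 7] (LD.RS 44) (LD.RS 44).lev [] (LD.RS 44).want = true := by decide +kernel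
theorem rootZ44 : checkRootZ KD.Tb [0, 196, 16, 7] LD.CS LD.RS 101 LD.ZL (LD.RS 44) = true := by decide +kernel

theorem rootA45 : checkRootA KD.Tb [0, 196, 16, 7] LD.CS LD.RS 101 (LD.RS 45) = true := by decide +kernel
theorem chain45 : checkChainC KD.Tb [0, 196, 16, 7] (LD.RS 45) (LD.RS 45).lev [] (LD.RS 45).want = true := by decide +kernel
theorem rootZ45 : checkRootZ KD.Tb [0, 196, 16, 7] LD.CS LD.RS 101 LD.ZL (LD.RS 45) = true := by decide +kernel

theorem rootA46 : checkRootA KD.Tb [0, 196, 16, 7] LD.CS LD.RS 101 (LD.RS 46) = true := by decide +kernel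
theorem chain46 : checkChainC KD.Tb [0, 196, 16, 7] (LD.RS 46) (LD.RS 46).lev [] (LD.RS 46).want = true := by decide +kernel
theorem rootZ46 : checkRootZ KD.Tb [0, 196, 16, 7] LD.CS LD.RS 101 LD.ZL (LD.RS 46) = true := by decide +kernel

theorem rootA47 : checkRootA KD.Tb [0, 196, 16, 7] LD.CS LD.RS 101 (LD.RS 47) = true := by decide +kernel
theorem chain47 : checkChainC KD.Tb [0, 196, 16, 7] (LD.RS 47) (LD.RS 47).lev [] (LD.RS 47).want = true := by decide +kernel
theorem rootZ47 : checkRootZ KD.Tb [0, 196, 16, 7] LD.CS LD.RS 101 LD.ZL (LD.RS 47) = true := by decide +kernel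

theorem rootA48 : checkRootA KD.Tb [0, 196, 16, 7] LD.CS LD.RS 101 (LD.RS 48) = true := by decide +kernel
theorem chain48 : checkChainC KD.Tb [0, 196, 16, 7] (LD.RS 48) (LD.RS 48).lev [] (LD.RS 48).want = true := by decide +kernel
theorem rootZ48 : checkRootZ KD.Tb [0, 196, 16, 7] LD.CS LD.RS 101 LD.ZL (LD.RS 48) = true := by decide +kernel

theorem rootA49 : checkRootA KD.Tb [0, 196, 16, 7] LD.CS LD.RS 101 (LD.RS 49) = true := by decide +kernel
theorem chain49 : checkChainC KD.Tb [0, 196, 16, 7] (LD.RS 49) (LD.RS 49).lev [] (LD.RS 49).want = true := by decide +kernel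
theorem rootZ49 : checkRootZ KD.Tb [0, 196, 16, 7] LD.CS LD.RS 101 LD.ZL (LD.RS 49) = true := by decide +kernel

theorem rootA50 : checkRootA KD.Tb [0, 196, 16, 7] LD.CS LD.RS 101 (LD.RS 50) = true := by decide +kernel
theorem chain50 : checkChainC KD.Tb [0, 196, 16, 7] (LD.RS 50) (LD.RS 50).lev [] (LD.RS 50).want = true := by decide +kernel
theorem rootZ50 : checkRootZ KD.Tb [0, 196, 16, 7] LD.CS LD.RS 101 LD.ZL (LD.RS 50) = true := by decide +kernel

theorem rootA51 : checkRootA KD.Tb [0, 196, 16, 7] LD.CS LD.RS 101 (LD.RS 51) = true := by decide +kernel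
theorem chain51 : checkChainC KD.Tb [0, 196, 16, 7] (LD.RS 51) (LD.RS 51).lev [] (LD.RS 51).want = true := by decide +kernel
theorem rootZ51 : checkRootZ KD.Tb [0, 196, 16, 7] LD.CS LD.RS 101 LD.ZL (LD.RS 51) = true := by decide +kernel

end CfsgLib.Coset.HN
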