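import Cfsg.Agent.Coset.HN.SgCheckB
import Cfsg.Agent.Coset.HN.LowData
import Cfsg.Agent.Coset.HN.CertData
import Cfsg.Agent.Coset.HN.KData

set_option autoImplicit false
set_option maxRecDepth 100000
set_option Elab.async false

namespace CfsgLib.Coset.HN

theorem rootA52 : checkRootA KD.Tb [0, 196, 16, 7] LD.CS LD.RS 101 (LD.RS 52) = true := by decide +kernel
theorem chain52 : checkChainC KD.Tb [0, 196, 16, 7] (LD.RS 52) (LD.RS 52).lev [] (LD.RS 52).want = true := by decide +kernel
theorem rootZ52 : checkRootZ KD.Tb [0, 196, 16, 7] LD.CS LD.RS 101 LD.ZL (LD.RS 52) = true := by decide +kernel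

theorem rootA53 : checkRootA KD.Tb [0, 196, 16, 7] LD.CS LD.RS 101 (LD.RS 53) = true := by decide +kernel
theorem chain53 : checkChainC KD.Tb [0, 196, 16, 7] (LD.RS 53) (LD.RS 53).lev [] (LD.RS 53).want = true := by decide +kernel
theorem rootZ53 : checkRootZ KD.Tb [0, 196, 16, 7] LD.CS LD.RS 101 LD.ZL (LD.RS 53) = true := by decide +kernel

theorem rootA54 : checkRootA KD.Tb [0, 196, 16, 7] LD.CS LD.RS 101 (LD.RS 54) = true := by decide +kernel
theorem chain54 : checkChainC KD.Tb [0, 196, 16, 7] (LD.RS 54) (LD.RS 54).lev [] (LD.RS 54).want = true := by decide +kernel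
theorem rootZ54 : checkRootZ KD.Tb [0, 196, 16, 7] LD.CS LD.RS 101 LD.ZL (LD.RS 54) = true := by decide +kernel

theorem rootA55 : checkRootA KD.Tb [0, 196, 16, 7] LD.CS LD.RS 101 (LD.RS 55) = true := by decide +kernel
theorem chain55 : checkChainC KD.Tb [0, 196, 16, 7] (LD.RS 55) (LD.RS 55).lev [] (LD.RS 55).want = true := by decide +kernel
theorem rootZ55 : checkRootZ KD.Tb [0, 196, 16, 7] LD.CS LD.RS 101 LD.ZL (LD.RS 55) = true := by decide +kernel

theorem rootA56 : checkRootA KD.Tb [0, 196, 16, 7] LD.CS LD.RS 101 (LD.RS 56) = true := by decide +kernel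
theorem chain56 : checkChainC KD.Tb [0, 196, 16, 7] (LD.RS 56) (LD.RS 56).lev [] (LD.RS 56).want = true := by decide +kernel
theorem rootZ56 : checkRootZ KD.Tb [0, 196, 16, 7] LD.CS LD.RS 101 LD.ZL (LD.RS 56) = true := by decide +kernel

theorem rootA57 : checkRootA KD.Tb [0, 196, 16, 7] LD.CS LD.RS 101 (LD.RS 57) = true := by decide +kernel
theorem chain57 : checkChainC KD.Tb [0, 196, 16, 7] (LD.RS 57) (LD.RS 57).lev [] (LD.RS 57).want = true := by decide +kernel
theorem rootZ57 : checkRootZ KD.Tb [0, 196, 16, 7] LD.CS LD.RS 101 LD.ZL (LD.RS 57) = true := by decide +kernel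

theorem rootA58 : checkRootA KD.Tb [0, 196, 16, 7] LD.CS LD.RS 101 (LD.RS 58) = true := by decide +kernel
theorem chain58 : checkChainC KD.Tb [0, 196, 16, 7] (LD.RS 58) (LD.RS 58).lev [] (LD.RS 58).want = true := by decide +kernel
theorem rootZ58 : checkRootZ KD.Tb [0, 196, 16, 7] LD.CS LD.RS 101 LD.ZL (LD.RS 58) = true := by decide +kernel

theorem rootA59 : checkRootA KD.Tb [0, 196, 16, 7] LD.CS LD.RS 101 (LD.RS 59) = true := by decide +kernel
theorem chain59 : checkChainC KD.Tb [0, 196, 16, 7] (LD.RS 59) (LD.RS 59).lev [] (LD.RS 59).want = true := by decide +kernel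
theorem rootZ59 : checkRootZ KD.Tb [0, 196, 16, 7] LD.CS LD.RS 101 LD.ZL (LD.RS 59) = true := by decide +kernel

theorem rootA60 : checkRootA KD.Tb [0, 196, 16, 7] LD.CS LD.RS 101 (LD.RS 60) = true := by decide +kernel
theorem chain60 : checkChainC KD.Tb [0, 196, 16, 7] (LD.RS 60) (LD.RS 60).lev [] (LD.RS 60).want = true := by decide +kernel
theorem rootZ60 : checkRootZ KD.Tb [0, 196, 16, 7] LD.CS LD.RS 101 LD.ZL (LD.RS 60) = true := by decide +kernel

theorem rootA61 : checkRootA KD.Tb [0, 196, 16, 7] LD.CS LD.RS 101 (LD.RS 61) = true := by decide +kernel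
theorem chain61 : checkChainC KD.Tb [0, 196, 16, 7] (LD.RS 61) (LD.RS 61).lev [] (LD.RS 61).want = true := by decide +kernel
theorem rootZ61 : checkRootZ KD.Tb [0, 196, 16, 7] LD.CS LD.RS 101 LD.ZL (LD.RS 61) = true := by decide +kernel

theorem rootA62 : checkRootA KD.Tb [0, 196, 16, 7] LD.CS LD.RS 101 (LD.RS 62) = true := by decide +kernel
theorem chain62 : checkChainC KD.Tb [0, 196, 16, 7] (LD.RS 62) (LD.RS 62).lev [] (LD.RS 62).want = true := by decide +kernel
theorem rootZ62 : checkRootZ KD.Tb [0, 196, 16, 7] LD.CS LD.RS 101 LD.ZL (LD.RS 62) = true := by decide +kernel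

theorem rootA63 : checkRootA KD.Tb [0, 196, 16, 7] LD.CS LD.RS 101 (LD.RS 63) = true := by decide +kernel
theorem chain63 : checkChainC KD.Tb [0, 196, 16, 7] (LD.RS 63) (LD.RS 63).lev [] (LD.RS 63).want = true := by decide +kernel
theorem rootZ63 : checkRootZ KD.Tb [0, 196, 16, 7] LD.CS LD.RS 101 LD.ZL (LD.RS 63) = true := by decide +kernel

theorem rootA64 : checkRootA KD.Tb [0, 196, 16, 7] LD.CS LD.RS 101 (LD.RS 64) = true := by decide +kernel
theorem chain64 : checkChainC KD.Tb [0, 196, 16, 7] (LD.RS 64) (LD.RS 64).lev [] (LD.RS 64).want = true := by decide +kernel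
theorem rootZ64 : checkRootZ KD.Tb [0, 196, 16, 7] LD.CS LD.RS 101 LD.ZL (LD.RS 64) = true := by decide +kernel

end CfsgLib.Coset.HN
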