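import Cfsg.Agent.Coset.HN.RootCheck4
import Cfsg.Agent.Coset.HN.LowData
import Cfsg.Agent.Coset.HN.CertData
import Cfsg.Agent.Coset.HN.KData

set_option autoImplicit false
set_option maxRecDepth 100000
set_option Elab.async false

namespace CfsgLib.Coset.HN

theorem rootA65 : checkRootA KD.Tb [0, 196, 16, 7] LD.CS LD.RS 101 (LD.RS 65) = true := by decide +kernel
theorem chain65 : checkChainC KD.Tb [0, 196, 16, 7] (LD.RS 65) (LD.RS 65).lev [] (LD.RS 65).want = true := by decide +kernel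
theorem rootZ65 : checkRootZ KD.Tb [0, 196, 16, 7] LD.CS LD.RS 101 LD.ZL (LD.RS 65) = true := by decide +kernel

theorem rootA66 : checkRootA KD.Tb [0, 196, 16, 7] LD.CS LD.RS 101 (LD.RS 66) = true := by decide +kernel
theorem chain66 : checkChainC KD.Tb [0, 196, 16, 7] (LD.RS 66) (LD.RS 66).lev [] (LD.RS 66).want = true := by decide +kernel
theorem rootZ66 : checkRootZ KD.Tb [0, 196, 16, 7] LD.CS LD.RS 101 LD.ZL (LD.RS 66) = true := by decide +kernel

theorem rootA67 : checkRootA KD.Tb [0, 196, 16, 7] LD.CS LD.RS 101 (LD.RS 67) = true := by decide +kernel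
theorem chain67 : checkChainC KD.Tb [0, 196, 16, 7] (LD.RS 67) (LD.RS 67).lev [] (LD.RS 67).want = true := by decide +kernel
theorem rootZ67 : checkRootZ KD.Tb [0, 196, 16, 7] LD.CS LD.RS 101 LD.ZL (LD.RS 67) = true := by decide +kernel

theorem rootA68 : checkRootA KD.Tb [0, 196, 16, 7] LD.CS LD.RS 101 (LD.RS 68) = true := by decide +kernel
theorem chain68 : checkChainC KD.Tb [0, 196, 16, 7] (LD.RS 68) (LD.RS 68).lev [] (LD.RS 68).want = true := by decide +kernel
theorem rootZ68 : checkRootZ KD.Tb [0, 196, 16, 7] LD.CS LD.RS 101 LD.ZL (LD.RS 68) = true := by decide +kernel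

theorem rootA69 : checkRootA KD.Tb [0, 196, 16, 7] LD.CS LD.RS 101 (LD.RS 69) = true := by decide +kernel
theorem chain69 : checkChainC KD.Tb [0, 196, 16, 7] (LD.RS 69) (LD.RS 69).lev [] (LD.RS 69).want = true := by decide +kernel
theorem rootZ69 : checkRootZ KD.Tb [0, 196, 16, 7] LD.CS LD.RS 101 LD.ZL (LD.RS 69) = true := by decide +kernel

theorem rootA70 : checkRootA KD.Tb [0, 196, 16, 7] LD.CS LD.RS 101 (LD.RS 70) = true := by decide +kernel
theorem chain70 : checkChainC KD.Tb [0, 196, 16, 7] (LD.RS 70) (LD.RS 70).lev [] (LD.RS 70).want = true := by decide +kernel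
theorem rootZ70 : checkRootZ KD.Tb [0, 196, 16, 7] LD.CS LD.RS 101 LD.ZL (LD.RS 70) = true := by decide +kernel

theorem rootA71 : checkRootA KD.Tb [0, 196, 16, 7] LD.CS LD.RS 101 (LD.RS 71) = true := by decide +kernel
theorem chain71 : checkChainC KD.Tb [0, 196, 16, 7] (LD.RS 71) (LD.RS 71).lev [] (LD.RS 71).want = true := by decide +kernel
theorem rootZ71 : checkRootZ KD.Tb [0, 196, 16, 7] LD.CS LD.RS 101 LD.ZL (LD.RS 71) = true := by decide +kernel

theorem rootA72 : checkRootA KD.Tb [0, 196, 16, 7] LD.CS LD.RS 101 (LD.RS 72) = true := by decide +kernel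
theorem chain72 : checkChainC KD.Tb [0, 196, 16, 7] (LD.RS 72) (LD.RS 72).lev [] (LD.RS 72).want = true := by decide +kernel
theorem rootZ72 : checkRootZ KD.Tb [0, 196, 16, 7] LD.CS LD.RS 101 LD.ZL (LD.RS 72) = true := by decide +kernel

theorem rootA73 : checkRootA KD.Tb [0, 196, 16, 7] LD.CS LD.RS 101 (LD.RS 73) = true := by decide +kernel
theorem chain73 : checkChainC KD.Tb [0, 196, 16, 7] (LD.RS 73) (LD.RS 73).lev [] (LD.RS 73).want = true := by decide +kernel
theorem rootZ73 : checkRootZ KD.Tb [0, 196, 16, 7] LD.CS LD.RS 101 LD.ZL (LD.RS 73) = true := by decide +kernel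

theorem rootA74 : checkRootA KD.Tb [0, 196, 16, 7] LD.CS LD.RS 101 (LD.RS 74) = true := by decide +kernel
theorem chain74 : checkChainC KD.Tb [0, 196, 16, 7] (LD.RS 74) (LD.RS 74).lev [] (LD.RS 74).want = true := by decide +kernel
theorem rootZ74 : checkRootZ KD.Tb [0, 196, 16, 7] LD.CS LD.RS 101 LD.ZL (LD.RS 74) = true := by decide +kernel

theorem rootA75 : checkRootA KD.Tb [0, 196, 16, 7] LD.CS LD.RS 101 (LD.RS 75) = true := by decide +kernel
theorem chain75 : checkChainC KD.Tb [0, 196, 16, 7] (LD.RS 75) (LD.RS 75).lev [] (LD.RS 75).want = true := by decide +kernel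
theorem rootZ75 : checkRootZ KD.Tb [0, 196, 16, 7] LD.CS LD.RS 101 LD.ZL (LD.RS 75) = true := by decide +kernel

theorem rootA76 : checkRootA KD.Tb [0, 196, 16, 7] LD.CS LD.RS 101 (LD.RS 76) = true := by decide +kernel
theorem chain76 : checkChainC KD.Tb [0, 196, 16, 7] (LD.RS 76) (LD.RS 76).lev [] (LD.RS 76).want = true := by decide +kernel
theorem rootZ76 : checkRootZ KD.Tb [0, 196, 16, 7] LD.CS LD.RS 101 LD.ZL (LD.RS 76) = true := by decide +kernel

theorem rootA77 : checkRootA KD.Tb [0, 196, 16, 7] LD.CS LD.RS 101 (LD.RS 77) = true := by decide +kernel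
theorem chain77 : checkChainC KD.Tb [0, 196, 16, 7] (LD.RS 77) (LD.RS 77).lev [] (LD.RS 77).want = true := by decide +kernel
theorem rootZ77 : checkRootZ KD.Tb [0, 196, 16, 7] LD.CS LD.RS 101 LD.ZL (LD.RS 77) = true := by decide +kernel

end CfsgLib.Coset.HN
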