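import Cfsg.Agent.Coset.HN.RootCheck5
import Cfsg.Agent.Coset.HN.LowData
import Cfsg.Agent.Coset.HN.CertData
import Cfsg.Agent.Coset.HN.KData

set_option autoImplicit false
set_option maxRecDepth 100000
set_option Elab.async false

namespace CfsgLib.Coset.HN

theorem rootA78 : checkRootA KD.Tb [0, 196, 16, 7] LD.CS LD.RS 101 (LD.RS 78) = true := by decide +kernel
theorem chain78 : checkChainC KD.Tb [0, 196, 16, 7] (LD.RS 78) (LD.RS 78).lev [] (LD.RS 78).want = true := by decide +kernel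
theorem rootZ78 : checkRootZ KD.Tb [0, 196, 16, 7] LD.CS LD.RS 101 LD.ZL (LD.RS 78) = true := by decide +kernel

theorem rootA79 : checkRootA KD.Tb [0, 196, 16, 7] LD.CS LD.RS 101 (LD.RS 79) = true := by decide +kernel
theorem chain79 : checkChainC KD.Tb [0, 196, 16, 7] (LD.RS 79) (LD.RS 79).lev [] (LD.RS 79).want = true := by decide +kernel
theorem rootZ79 : checkRootZ KD.Tb [0, 196, 16, 7] LD.CS LD.RS 101 LD.ZL (LD.RS 79) = true := by decide +kernel

theorem rootA80 : checkRootA KD.Tb [0, 196, 16, 7] LD.CS LD.RS 101 (LD.RS 80) = true := by decide +kernel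
theorem chain80 : checkChainC KD.Tb [0, 196, 16, 7] (LD.RS 80) (LD.RS 80).lev [] (LD.RS 80).want = true := by decide +kernel
theorem rootZ80 : checkRootZ KD.Tb [0, 196, 16, 7] LD.CS LD.RS 101 LD.ZL (LD.RS 80) = true := by decide +kernel

theorem rootA81 : checkRootA KD.Tb [0, 196, 16, 7] LD.CS LD.RS 101 (LD.RS 81) = true := by decide +kernel
theorem chain81 : checkChainC KD.Tb [0, 196, 16, 7] (LD.RS 81) (LD.RS 81).lev [] (LD.RS 81).want = true := by decide +kernel
theorem rootZ81 : checkRootZ KD.Tb [0, 196, 16, 7] LD.CS LD.RS 101 LD.ZL (LD.RS 81) = true := by decide +kernel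

theorem rootA82 : checkRootA KD.Tb [0, 196, 16, 7] LD.CS LD.RS 101 (LD.RS 82) = true := by decide +kernel
theorem chain82 : checkChainC KD.Tb [0, 196, 16, 7] (LD.RS 82) (LD.RS 82).lev [] (LD.RS 82).want = true := by decide +kernel
theorem rootZ82 : checkRootZ KD.Tb [0, 196, 16, 7] LD.CS LD.RS 101 LD.ZL (LD.RS 82) = true := by decide +kernel

theorem rootA83 : checkRootA KD.Tb [0, 196, 16, 7] LD.CS LD.RS 101 (LD.RS 83) = true := by decide +kernel
theorem chain83 : checkChainC KD.Tb [0, 196, 16, 7] (LD.RS 83) (LD.RS 83).lev [] (LD.RS 83).want = true := by decide +kernel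
theorem rootZ83 : checkRootZ KD.Tb [0, 196, 16, 7] LD.CS LD.RS 101 LD.ZL (LD.RS 83) = true := by decide +kernel

theorem rootA84 : checkRootA KD.Tb [0, 196, 16, 7] LD.CS LD.RS 101 (LD.RS 84) = true := by decide +kernel
theorem chain84 : checkChainC KD.Tb [0, 196, 16, 7] (LD.RS 84) (LD.RS 84).lev [] (LD.RS 84).want = true := by decide +kernel
theorem rootZ84 : checkRootZ KD.Tb [0, 196, 16, 7] LD.CS LD.RS 101 LD.ZL (LD.RS 84) = true := by decide +kernel

theorem rootA85 : checkRootA KD.Tb [0, 196, 16, 7] LD.CS LD.RS 101 (LD.RS 85) = true := by decide +kernel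
theorem chain85 : checkChainC KD.Tb [0, 196, 16, 7] (LD.RS 85) (LD.RS 85).lev [] (LD.RS 85).want = true := by decide +kernel
theorem rootZ85 : checkRootZ KD.Tb [0, 196, 16, 7] LD.CS LD.RS 101 LD.ZL (LD.RS 85) = true := by decide +kernel

theorem rootA86 : checkRootA KD.Tb [0, 196, 16, 7] LD.CS LD.RS 101 (LD.RS 86) = true := by decide +kernel
theorem chain86 : checkChainC KD.Tb [0, 196, 16, 7] (LD.RS 86) (LD.RS 86).lev [] (LD.RS 86).want = true := by decide +kernel
theorem rootZ86 : checkRootZ KD.Tb [0, 196, 16, 7] LD.CS LD.RS 101 LD.ZL (LD.RS 86) = true := by decide +kernel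

theorem rootA87 : checkRootA KD.Tb [0, 196, 16, 7] LD.CS LD.RS 101 (LD.RS 87) = true := by decide +kernel
theorem chain87 : checkChainC KD.Tb [0, 196, 16, 7] (LD.RS 87) (LD.RS 87).lev [] (LD.RS 87).want = true := by decide +kernel
theorem rootZ87 : checkRootZ KD.Tb [0, 196, 16, 7] LD.CS LD.RS 101 LD.ZL (LD.RS 87) = true := by decide +kernel

theorem rootA88 : checkRootA KD.Tb [0, 196, 16, 7] LD.CS LD.RS 101 (LD.RS 88) = true := by decide +kernel
theorem chain88 : checkChainC KD.Tb [0, 196, 16, 7] (LD.RS 88) (LD.RS 88).lev [] (LD.RS 88).want = true := by decide +kernel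
theorem rootZ88 : checkRootZ KD.Tb [0, 196, 16, 7] LD.CS LD.RS 101 LD.ZL (LD.RS 88) = true := by decide +kernel

theorem rootA89 : checkRootA KD.Tb [0, 196, 16, 7] LD.CS LD.RS 101 (LD.RS 89) = true := by decide +kernel
theorem chain89 : checkChainC KD.Tb [0, 196, 16, 7] (LD.RS 89) (LD.RS 89).lev [] (LD.RS 89).want = true := by decide +kernel
theorem rootZ89 : checkRootZ KD.Tb [0, 196, 16, 7] LD.CS LD.RS 101 LD.ZL (LD.RS 89) = true := by decide +kernel

theorem rootA90 : checkRootA KD.Tb [0, 196, 16, 7] LD.CS LD.RS 101 (LD.RS 90) = true := by decide +kernel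
theorem chain90 : checkChainC KD.Tb [0, 196, 16, 7] (LD.RS 90) (LD.RS 90).lev [] (LD.RS 90).want = true := by decide +kernel
theorem rootZ90 : checkRootZ KD.Tb [0, 196, 16, 7] LD.CS LD.RS 101 LD.ZL (LD.RS 90) = true := by decide +kernel

end CfsgLib.Coset.HN
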