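import Cfsg.Agent.Coset.HN.RootCheck6
import Cfsg.Agent.Coset.HN.LowData
import Cfsg.Agent.Coset.HN.CertData
import Cfsg.Agent.Coset.HN.KData

set_option autoImplicit false
set_option maxRecDepth 100000
set_option Elab.async false

namespace CfsgLib.Coset.HN

theorem rootA91 : checkRootA KD.Tb [0, 196, 16, 7] LD.CS LD.RS 101 (LD.RS 91) = true := by decide +kernel
theorem chain91 : checkChainC KD.Tb [0, 196, 16, 7] (LD.RS 91) (LD.RS 91).lev [] (LD.RS 91).want = true := by decide +kernel
theorem rootZ91 : checkRootZ KD.Tb [0, 196, 16, 7] LD.CS LD.RS 101 LD.ZL (LD.RS 91) = true := by decide +kernel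

theorem rootA92 : checkRootA KD.Tb [0, 196, 16, 7] LD.CS LD.RS 101 (LD.RS 92) = true := by decide +kernel
theorem chain92 : checkChainC KD.Tb [0, 196, 16, 7] (LD.RS 92) (LD.RS 92).lev [] (LD.RS 92).want = true := by decide +kernel
theorem rootZ92 : checkRootZ KD.Tb [0, 196, 16, 7] LD.CS LD.RS 101 LD.ZL (LD.RS 92) = true := by decide +kernel

theorem rootA93 : checkRootA KD.Tb [0, 196, 16, 7] LD.CS LD.RS 101 (LD.RS 93) = true := by decide +kernel
theorem chain93 : checkChainC KD.Tb [0, 196, 16, 7] (LD.RS 93) (LD.RS 93).lev [] (LD.RS 93).want = true := by decide +kernel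
theorem rootZ93 : checkRootZ KD.Tb [0, 196, 16, 7] LD.CS LD.RS 101 LD.ZL (LD.RS 93) = true := by decide +kernel

theorem rootA94 : checkRootA KD.Tb [0, 196, 16, 7] LD.CS LD.RS 101 (LD.RS 94) = true := by decide +kernel
theorem chain94 : checkChainC KD.Tb [0, 196, 16, 7] (LD.RS 94) (LD.RS 94).lev [] (LD.RS 94).want = true := by decide +kernel
theorem rootZ94 : checkRootZ KD.Tb [0, 196, 16, 7] LD.CS LD.RS 101 LD.ZL (LD.RS 94) = true := by decide +kernel

theorem rootA95 : checkRootA KD.Tb [0, 196, 16, 7] LD.CS LD.RS 101 (LD.RS 95) = true := by decide +kernel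
theorem chain95 : checkChainC KD.Tb [0, 196, 16, 7] (LD.RS 95) (LD.RS 95).lev [] (LD.RS 95).want = true := by decide +kernel
theorem rootZ95 : checkRootZ KD.Tb [0, 196, 16, 7] LD.CS LD.RS 101 LD.ZL (LD.RS 95) = true := by decide +kernel

theorem rootA96 : checkRootA KD.Tb [0, 196, 16, 7] LD.CS LD.RS 101 (LD.RS 96) = true := by decide +kernel
theorem chain96 : checkChainC KD.Tb [0, 196, 16, 7] (LD.RS 96) (LD.RS 96).lev [] (LD.RS 96).want = true := by decide +kernel
theorem rootZ96 : checkRootZ KD.Tb [0, 196, 16, 7] LD.CS LD.RS 101 LD.ZL (LD.RS 96) = true := by decide +kernel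

theorem rootA97 : checkRootA KD.Tb [0, 196, 16, 7] LD.CS LD.RS 101 (LD.RS 97) = true := by decide +kernel
theorem chain97 : checkChainC KD.Tb [0, 196, 16, 7] (LD.RS 97) (LD.RS 97).lev [] (LD.RS 97).want = true := by decide +kernel
theorem rootZ97 : checkRootZ KD.Tb [0, 196, 16, 7] LD.CS LD.RS 101 LD.ZL (LD.RS 97) = true := by decide +kernel

theorem rootA98 : checkRootA KD.Tb [0, 196, 16, 7] LD.CS LD.RS 101 (LD.RS 98) = true := by decide +kernel
theorem chain98 : checkChainC KD.Tb [0, 196, 16, 7] (LD.RS 98) (LD.RS 98).lev [] (LD.RS 98).want = true := by decide +kernel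
theorem rootZ98 : checkRootZ KD.Tb [0, 196, 16, 7] LD.CS LD.RS 101 LD.ZL (LD.RS 98) = true := by decide +kernel

theorem rootA99 : checkRootA KD.Tb [0, 196, 16, 7] LD.CS LD.RS 101 (LD.RS 99) = true := by decide +kernel
theorem chain99 : checkChainC KD.Tb [0, 196, 16, 7] (LD.RS 99) (LD.RS 99).lev [] (LD.RS 99).want = true := by decide +kernel
theorem rootZ99 : checkRootZ KD.Tb [0, 196, 16, 7] LD.CS LD.RS 101 LD.ZL (LD.RS 99) = true := by decide +kernel

theorem rootA100 : checkRootA KD.Tb [0, 196, 16, 7] LD.CS LD.RS 101 (LD.RS 100) = true := by decide +kernel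
theorem chain100 : checkChainC KD.Tb [0, 196, 16, 7] (LD.RS 100) (LD.RS 100).lev [] (LD.RS 100).want = true := by decide +kernel
theorem rootZ100 : checkRootZ KD.Tb [0, 196, 16, 7] LD.CS LD.RS 101 LD.ZL (LD.RS 100) = true := by decide +kernel

end CfsgLib.Coset.HN
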