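import Cfsg.Agent.Coset.Fi24.Equivariant
import Cfsg.Agent.Coset.HN.LowOm
import Cfsg.Agent.Coset.HN.RootCheck0
import Cfsg.Agent.Coset.HN.RootCheck1
import Cfsg.Agent.Coset.HN.RootCheck2
import Cfsg.Agent.Coset.HN.RootCheck3
import Cfsg.Agent.Coset.HN.RootCheck4
import Cfsg.Agent.Coset.HN.RootCheck5
import Cfsg.Agent.Coset.HN.RootCheck6
import Cfsg.Agent.Coset.HN.RootCheck7

/-!
The permutation giving `t` on the points, and its equivariance.
-/

set_option autoImplicit false
set_option maxRecDepth 100000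
set_option Elab.async false

namespace CfsgLib.Coset.HN

theorem rootA_all : ∀ r < 101, checkRootA KD.Tb baseK LD.CS LD.RS 101 (LD.RS r) = true := by
  intro r hr
  interval_cases r
  exacts [rootA0, rootA1, rootA2, rootA3, rootA4, rootA5, rootA6, rootA7, rootA8, rootA9, rootA10, rootA11, rootA12, rootA13, rootA14, rootA15, rootA16, rootA17, rootA18, rootA19, rootA20, rootA21, rootA22, rootA23, rootA24, rootA25, rootA26, rootA27, rootA28, rootA29, rootA30, rootA31, rootA32, rootA33, rootA34, rootA35, rootA36, rootA37, rootA38, rootA39, rootA40, rootA41, rootA42, rootA43, rootA44, rootA45, rootA46, rootA47, rootA48, rootA49, rootA50, rootA51, rootA52, rootA53, rootA54, rootA55, rootA56, rootA57, rootA58, rootA59, rootA60, rootA61, rootA62, rootA63, rootA64, rootA65, rootA66, rootA67, rootA68, rootA69, rootA70, rootA71, rootA72, rootA73, rootA74, rootA75, rootA76, rootA77, rootA78, rootA79, rootA80, rootA81, rootA82, rootA83, rootA84, rootA85, rootA86, rootA87, rootA88,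 rootA89, rootA90, rootA91, rootA92, rootA93, rootA94, rootA95, rootA96, rootA97, rootA98, rootA99, rootA100]

theorem chain_all : ∀ r < 101,
    checkChainC KD.Tb baseK (LD.RS r) (LD.RS r).lev [] (LD.RS r).want = true := by
  intro r hr
  interval_cases r
  exacts [chain0, chain1, chain2, chain3, chain4, chain5, chain6, chain7, chain8, chain9, chain10, chain11, chain12, chain13, chain14, chain15, chain16, chain17, chain18, chain19, chain20, chain21, chain22, chain23, chain24, chain25, chain26, chain27, chain28, chain29, chain30, chain31, chain32, chain33, chain34, chain35, chain36, chain37, chain38, chain39, chain40, chain41, chain42, chain43, chain44, chain45, chain46, chain47, chain48, chain49, chain50, chain51, chain52, chain53, chain54, chain55, chain56, chain57, chain58, chain59, chain60, chain61, chain62, chain63, chain64, chain65, chain66, chain67, chain68, chain69, chain70, chain71, chain72, chain73, chain74, chain75, chain76, chain77, chain78, chain79,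 chain80, chain81, chain82, chain83, chain84, chain85, chain86, chain87, chain88, chain89, chain90, chain91, chain92, chain93, chain94, chain95, chain96, chain97, chain98, chain99, chain100]

theorem rootZ_all : ∀ r < 101,
    checkRootZ KD.Tb baseK LD.CS LD.RS 101 LD.ZL (LD.RS r) = true := by
  intro r hr
  interval_cases r
  exacts [rootZ0, rootZ1, rootZ2, rootZ3, rootZ4, rootZ5, rootZ6, rootZ7, rootZ8, rootZ9, rootZ10, rootZ11, rootZ12, rootZ13, rootZ14, rootZ15, rootZ16, rootZ17, rootZ18, rootZ19, rootZ20, rootZ21, rootZ22, rootZ23, rootZ24, rootZ25, rootZ26, rootZ27, rootZ28, rootZ29, rootZ30, rootZ31, rootZ32, rootZ33, rootZ34, rootZ35, rootZ36, rootZ37, rootZ38, rootZ39, rootZ40, rootZ41, rootZ42, rootZ43, rootZ44, rootZ45, rootZ46, rootZ47, rootZ48, rootZ49, rootZ50, rootZ51, rootZ52, rootZ53, rootZ54, rootZ55, rootZ56, rootZ57, rootZ58, rootZ59, rootZ60, rootZ61, rootZ62, rootZ63, rootZ64, rootZ65, rootZ66, rootZ67, rootZ68, rootZ69, rootZ70, rootZ71, rootZ72,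 rootZ73, rootZ74, rootZ75, rootZ76, rootZ77, rootZ78, rootZ79, rootZ80, rootZ81, rootZ82, rootZ83, rootZ84, rootZ85, rootZ86, rootZ87, rootZ88, rootZ89, rootZ90, rootZ91, rootZ92, rootZ93, rootZ94, rootZ95, rootZ96, rootZ97, rootZ98, rootZ99, rootZ100]

theorem card_pstab_zero_le : Nat.card (pstab σK (0 : Fin 1408)) ≤ 126000 := by
  have h5 := card_orb_mul (ρ := σK) (⊤ : Subgroup K0) (0 : Fin 1408)
  have h6 := (matches_σK.orbit_le (β := (0 : Fin 1408)) (m := 1408) (dm := 11) (gens := KD.CK0G)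
    (P := KD.CK0P) (Inv := KD.CK0Inv) (by decide +kernel) (by rw [length_Lk]; decide +kernel)
    (S := ⊤) fun _ _ => trivial).1
  rw [top_inf_eq, Subgroup.card_top, card_K0.1] at h5
  have h7 : 1408 * Nat.card (pstab σK (0 : Fin 1408)) ≤ 177408000 := h5 ▸ Nat.mul_le_mul_right _ h6
  omega

/-- The root data, unpacked. -/
structure RootFacts (r : Nat) : Prop where
  hi : (LD.RS r).i < 9
  hj : (LD.RS r).j < 9
  la : ∀ l ∈ up (LD.RS r).a, l < 5
  lb : ∀ l ∈ up (LD.RS r).b, l < 5
  tl : ∀ w ∈ (LD.RS r).T.map up, ∀ l ∈ w, l < 5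
  tfix : ∀ w ∈ (LD.RS r).T.map up, σK (ev Lk w) 0 = 0
  tx : ∀ w ∈ (LD.RS r).T.map up,
    ev Lk (up (LD.RS r).a) * ev Lk w * (ev Lk (up (LD.RS r).a))⁻¹ ∈ Sg (LD.RS r).i
  ty : ∀ w ∈ (LD.RS r).T.map up,
    ev Lk (up (LD.RS r).b) * ev Lk w * (ev Lk (up (LD.RS r).b))⁻¹ ∈ Sg (LD.RS r).j

theorem rootFacts {r : Nat} (hr : r < 101) : RootFacts r := by
  have h := rootA_all r hr
  unfold checkRootA at h
  simp only [cond_false_eq_true] at h
  obtain ⟨⟨hi, hj⟩, ⟨la, lb⟩, hT, -, -⟩ := h
  have la' := low_iff la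
  have lb' := low_iff lb
  have hi' : (LD.RS r).i < 9 := Nat.lt_succ_of_le (Nat.ble_eq.mp hi)
  have hj' : (LD.RS r).j < 9 := Nat.lt_succ_of_le (Nat.ble_eq.mp hj)
  have key : ∀ w ∈ (LD.RS r).T.map up, (∀ l ∈ w, l < 5) ∧ σK (ev Lk w) 0 = 0 ∧
      ev Lk (up (LD.RS r).a) * ev Lk w * (ev Lk (up (LD.RS r).a))⁻¹ ∈ Sg (LD.RS r).i ∧
      ev Lk (up (LD.RS r).b) * ev Lk w * (ev Lk (up (LD.RS r).b))⁻¹ ∈ Sg (LD.RS r).j := by
    intro w hw
    obtain ⟨e, he, rfl⟩ := List.mem_map.mp hw
    obtain ⟨q, hq, rfl⟩ := List.getElem_of_mem he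
    have h1 := allList_iff.mp hT q (List.mem_range.mpr hq)
    simp only [cond_false_eq_true] at h1
    rw [List.getD_eq_getElem (LD.RS r).T 0 hq] at h1
    obtain ⟨⟨hl, hf⟩, hx, hy⟩ := h1
    have hl' := low_iff hl
    refine ⟨hl', ?_, ?_, ?_⟩
    · rw [matches_σK.fix_iff (fun l hm => length_Lk.symm ▸ hl' l hm)]
      have := Nat.eq_of_beq_eq_true hf
      rwa [followF_eq] at this
    · have := inSg_mem hi' (low_append (low_append la' hl') (invWd_low la')) hx
      rwa [ev_append, ev_append, ev_invWd_Lk la'] at this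
    · have := inSg_mem hj' (low_append (low_append lb' hl') (invWd_low lb')) hy
      rwa [ev_append, ev_append, ev_invWd_Lk lb'] at this
  exact ⟨hi', hj', la', lb', fun w hw => (key w hw).1, fun w hw => (key w hw).2.1,
    fun w hw => (key w hw).2.2.1, fun w hw => (key w hw).2.2.2⟩

/-- The stabiliser of a root in the point stabiliser. -/
noncomputable def Troot (r : Nat) : Subgroup K0 := genW Lk ((LD.RS r).T.map up)

theorem Troot_le {r : Nat} (hr : r < 101) : Troot r ≤ pstab σK (0 : Fin 1408) := by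
  refine (Subgroup.closure_le _).mpr ?_
  rintro _ ⟨w, hw, rfl⟩
  exact (rootFacts hr).tfix w hw

theorem chainC_sound {R : RootC} (hT : ∀ w ∈ R.T.map up, ∀ l ∈ w, l < 5) :
    ∀ (ls : List LevC) (base : List (Fin 1408)) (w : Nat),
      checkChainC KD.Tb baseK R ls (base.map Fin.val) w = true →
      w ≤ Nat.card (genW Lk (R.T.map up) ⊓ baseStab σK base : Subgroup K0) := by
  intro ls
  induction ls with
  | nil =>
    intro base w h
    rw [show w = 1 from Nat.eq_of_beq_eq_true h]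
    exact Nat.card_pos
  | cons V t ih =>
    intro base w h
    change cond (checkLevC KD.Tb baseK R (base.map Fin.val) V)
      (cond (Nat.beq (Nat.mul (Nat.div w V.m) V.m) w)
        (checkChainC KD.Tb baseK R t (base.map Fin.val ++ [V.pt]) (Nat.div w V.m)) false) false = true at h
    simp only [cond_false_eq_true] at h
    obtain ⟨hlev, hdiv, hrest⟩ := h
    unfold checkLevC at hlev
    simp only [cond_false_eq_true] at hlev
    obtain ⟨⟨hpt, hlow⟩, horb, hfix, hV⟩ := hlev
    have hp : V.pt < 1408 := Nat.ble_eq.mp hpt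
    have hl : checkLetters Lk.length (V.gens.map up) = true := by
      rw [length_Lk]
      refine allList_iff.mpr fun v hv => ?_
      obtain ⟨e, he, rfl⟩ := List.mem_map.mp hv
      exact allList_iff.mp hlow e he
    have hal : ∀ v ∈ tAlph R, (∀ l ∈ v, l < 5) ∧ ev Lk v ∈ genW Lk (R.T.map up) := by
      intro v hv
      rcases List.mem_append.mp hv with hv | hv <;> obtain ⟨e, he, rfl⟩ := List.mem_map.mp hv
      · exact ⟨hT _ (List.mem_map.mpr ⟨e, he, rfl⟩), ev_mem_genW (List.mem_map.mpr ⟨e, he, rfl⟩)⟩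
      · have hle := hT _ (List.mem_map.mpr ⟨e, he, rfl⟩)
        refine ⟨invWd_low hle, ?_⟩
        rw [ev_invWd_Lk hle]
        exact inv_mem (ev_mem_genW (List.mem_map.mpr ⟨e, he, rfl⟩))
    have hmem : ∀ v ∈ V.gens.map up, ev Lk v ∈ genW Lk (R.T.map up) := by
      intro v hv
      obtain ⟨e, he, rfl⟩ := List.mem_map.mp hv
      obtain ⟨q, hq, rfl⟩ := List.getElem_of_mem he
      have h1 := allList_iff.mp hV q (List.mem_range.mpr hq)
      simp only [cond_false_eq_true] at h1
      rw [List.getD_eq_getElem V.gens 0 hq] at h1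
      rw [ev_eq_of_eqK (low_iff (allList_iff.mp hlow _ (List.getElem_mem hq)))
        (expK_low (fun v hv => (hal v hv).1) _) h1.2]
      exact ev_expK_mem (fun v hv => (hal v hv).2) _
    have hrest' : checkChainC KD.Tb baseK R t ((base ++ [(⟨V.pt, hp⟩ : Fin 1408)]).map Fin.val)
        (Nat.div w V.m) = true := by simpa using hrest
    have := orbit_step_in matches_σK (genW Lk (R.T.map up)) (base := base)
      (β := (⟨V.pt, hp⟩ : Fin 1408)) (m := V.m) (dm := V.dm) (gens := V.gens.map up) (P := V.P)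
      (Inv := V.Inv) horb hl hfix hmem (ih _ _ hrest')
    calc w = Nat.div w V.m * V.m := (Nat.eq_of_beq_eq_true hdiv).symm
      _ = V.m * Nat.div w V.m := mul_comm _ _
      _ ≤ _ := this

theorem want_le {r : Nat} (hr : r < 101) : (LD.RS r).want ≤ Nat.card (Troot r) := by
  have h := chainC_sound (rootFacts hr).tl (LD.RS r).lev [] (LD.RS r).want (chain_all r hr)
  simpa [baseStab, Troot] using h

theorem mL_ok : ∀ r < 101, LD.mL.getD r 0 * (LD.RS r).want = 126000 := by decide +kernel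

theorem mL_sum : ∑ r : Fin 101, LD.mL.getD r.1 0 = 1539000 := by decide +kernel

/-- A root, as a pair of points. -/
noncomputable def xRt (r : Fin 101) : Om :=
  opnt ⟨(LD.RS r).i, (rootFacts r.2).hi⟩ (ev Lk (up (LD.RS r).a))

/-- Its image. -/
noncomputable def yRt (r : Fin 101) : Om :=
  opnt ⟨(LD.RS r).j, (rootFacts r.2).hj⟩ (ev Lk (up (LD.RS r).b))

theorem tr_fix {i : Fin 9} {a : K0} {ws : List (List Nat)}
    (h : ∀ w ∈ ws, a * ev Lk w * a⁻¹ ∈ Sg i.1) : ∀ s ∈ genW Lk ws, tr s (opnt i a) = opnt i a := by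
  have key : genW Lk ws ≤ (MulAction.stabilizer (Equiv.Perm Om) (opnt i a)).comap tr := by
    refine (Subgroup.closure_le _).mpr ?_
    rintro _ ⟨w, hw, rfl⟩
    show tr (ev Lk w) (opnt i a) = opnt i a
    have e := tr_inv_opnt i a (ev Lk w)⁻¹
    rw [map_inv, inv_inv] at e
    rw [e]
    refine opnt_eq ?_
    have := inv_mem (h w hw)
    simpa [mul_assoc, mul_inv_rev] using this
  exact fun s hs => key hs

theorem par_ok_low0 : checkForest KD.Tb CD.SL LD.RS 101 0 1408 11 LD.Par0 = true := by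
  decide +kernel

theorem par_ok_low1 : checkForest KD.Tb CD.SL LD.RS 101 1 1408 11 LD.Par1 = true := by
  decide +kernel

theorem par_ok_low2 : checkForest KD.Tb CD.SL LD.RS 101 2 1408 11 LD.Par2 = true := by
  decide +kernel

theorem par_ok_low3 : checkForest KD.Tb CD.SL LD.RS 101 3 1408 11 LD.Par3 = true := by
  decide +kernel

theorem par_ok_low4 : checkForest KD.Tb CD.SL LD.RS 101 4 1408 11 LD.Par4 = true := by
  decide +kernel

theorem par_ok_low5 : checkForest KD.Tb CD.SL LD.RS 101 5 1408 11 LD.Par5 = true := by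
  decide +kernel

theorem par_ok_low6 : checkForest KD.Tb CD.SL LD.RS 101 6 1408 11 LD.Par6 = true := by
  decide +kernel

theorem par_ok_low7 : checkForest KD.Tb CD.SL LD.RS 101 7 1408 11 LD.Par7 = true := by
  decide +kernel

theorem par_ok_low8 : checkForest KD.Tb CD.SL LD.RS 101 8 1408 11 LD.Par8 = true := by
  decide +kernel

theorem par_ok_low : ∀ i < 9, ∃ Par, checkForest KD.Tb CD.SL LD.RS 101 i 1408 11 Par = true := by
  intro i hi
  interval_cases i
  exacts [⟨_, par_ok_low0⟩, ⟨_, par_ok_low1⟩, ⟨_, par_ok_low2⟩, ⟨_, par_ok_low3⟩, ⟨_, par_ok_low4⟩, ⟨_, par_ok_low5⟩, ⟨_, par_ok_low6⟩, ⟨_, par_ok_low7⟩, ⟨_, par_ok_low8⟩]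

theorem forest_low {i : Nat} {Par : Nat → Nat}
    (h : checkForest KD.Tb CD.SL LD.RS 101 i 1408 11 Par = true) (p : Fin 1408) :
    ∃ r < 101, (LD.RS r).i = i ∧
      ∃ u ∈ Sg i, (σK u)⁻¹ (σK (ev Lk (up (LD.RS r).a)) 0) = p := by
  obtain ⟨d, hd⟩ : ∃ d, field (Par p) 2 = d := ⟨_, rfl⟩
  induction d using Nat.strong_induction_on generalizing p with
  | _ d ih =>
    have hp := of_allBelow h p p.2
    cases h0 : Nat.beq (field (Par p) 1) 0
    · simp only [h0, cond_false, cond_false_eq_true] at hp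
      obtain ⟨hq, hg, hgi, hdep, hfol⟩ := hp
      obtain ⟨f, hf, hfi, u, hu, hue⟩ :=
        ih (field (Par (field (Par p) 0)) 2) (hd ▸ Nat.ble_eq.mp hdep) ⟨_, Nat.ble_eq.mp hq⟩ rfl
      have hne : field (Par p) 1 ≠ 0 := Nat.ne_of_beq_eq_false h0
      have hglt : Nat.sub (field (Par p) 1) 1 < CD.SL.length := by
        have := Nat.ble_eq.mp hg
        simp only [Nat.sub_eq]; omega
      set g := Nat.sub (field (Par p) 1) 1
      have hl := low_iff (sl_low g hglt)
      refine ⟨f, hf, hfi, u * ev Lk (up (sE g).2),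
        mul_mem hu (Subgroup.subset_closure ⟨g, hglt, Nat.eq_of_beq_eq_true hgi, rfl⟩), ?_⟩
      rw [map_mul, mul_inv_rev, Equiv.Perm.mul_apply, hue]
      refine Fin.ext ?_
      rw [matches_σK.follow_eq _ _ (fun l hl' => length_Lk.symm ▸ hl l hl'), ← followF_eq]
      exact Nat.eq_of_beq_eq_true hfol
    · simp only [h0, cond_true, cond_false_eq_true] at hp
      obtain ⟨hf, hfi, hfol⟩ := hp
      have hf' : field (Par p) 0 < 101 := Nat.ble_eq.mp hf
      have hl := (rootFacts hf').la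
      refine ⟨_, hf', Nat.eq_of_beq_eq_true hfi, 1, one_mem _, ?_⟩
      rw [map_one, inv_one, Equiv.Perm.one_apply]
      refine Fin.ext ?_
      have e := matches_σK.follow_eq (invWd inv7 (up (LD.RS (field (Par p) 0)).a)) (0 : Fin 1408)
        (fun l hl' => length_Lk.symm ▸ invWd_low hl l hl')
      rw [ev_invWd_Lk hl, map_inv, inv_inv] at e
      rw [e]
      exact (followF_eq _ _ _).symm.trans (Nat.eq_of_beq_eq_true hfol)

theorem cover_roots (p : Om) :
    ∃ r, ∃ k ∈ pstab σK (0 : Fin 1408), tr k (xRt r) = p := by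
  obtain ⟨a, ha⟩ := opnt_surj p
  obtain ⟨Par, hPar⟩ := par_ok_low p.1.1 p.1.2
  obtain ⟨r, hr, hri, u, hu, hue⟩ := forest_low hPar (σK a 0)
  set α := ev Lk (up (LD.RS r).a)
  have hn : α⁻¹ * u * a ∈ pstab σK (0 : Fin 1408) := by
    rw [mem_pstab, map_mul, map_mul, map_inv, Equiv.Perm.mul_apply, Equiv.Perm.mul_apply, ← hue]
    simp
  refine ⟨⟨r, hr⟩, (α⁻¹ * u * a)⁻¹, inv_mem hn, ?_⟩
  rw [map_inv, xRt, tr_inv_opnt]
  have hi : (⟨(LD.RS r).i, (rootFacts hr).hi⟩ : Fin 9) = p.1 := Fin.ext hri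
  conv_rhs => rw [← ha]
  rw [show (⟨(LD.RS ((⟨r, hr⟩ : Fin 101) : Nat)).i, (rootFacts hr).hi⟩ : Fin 9) = p.1 from hi]
  refine opnt_eq ?_
  simpa [α, mul_assoc] using hu

theorem exists_tmap : ∃ f : Om → Om,
    ∀ r : Fin 101, ∀ k ∈ pstab σK (0 : Fin 1408), f (tr k (xRt r)) = tr k (yRt r) := by
  obtain ⟨f, hf, -⟩ := Fi24.exists_equivariant tr (pstab σK (0 : Fin 1408)) xRt yRt
    (fun r => LD.mL.getD r.1 0)
    (fun r => Fi24.pair_orbit_bound tr (pstab σK (0 : Fin 1408)) (Troot_le r.2)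
      (tr_fix (i := ⟨_, (rootFacts r.2).hi⟩) (rootFacts r.2).tx)
      (tr_fix (i := ⟨_, (rootFacts r.2).hj⟩) (rootFacts r.2).ty)
      (le_trans (card_pstab_zero_le.trans_eq (mL_ok r.1 r.2).symm)
        (Nat.mul_le_mul_left _ (want_le r.2))))
    (by rw [card_Om, mL_sum]) cover_roots
  exact ⟨f, hf⟩

/-- The map of right multiplication by `t`. -/
noncomputable def tmap : Om → Om := exists_tmap.choose

theorem tmap_spec (r : Fin 101) {k : K0} (hk : k ∈ pstab σK (0 : Fin 1408)) :
    tmap (tr k (xRt r)) = tr k (yRt r) := exists_tmap.choose_spec r k hk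

theorem tmap_tr {k : K0} (hk : k ∈ pstab σK (0 : Fin 1408)) (p : Om) :
    tmap (tr k p) = tr k (tmap p) := by
  obtain ⟨r, h, hh, rfl⟩ := cover_roots p
  rw [← Equiv.Perm.mul_apply, ← map_mul, tmap_spec r (mul_mem hk hh), tmap_spec r hh, map_mul,
    Equiv.Perm.mul_apply]

end CfsgLib.Coset.HN
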