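import Cfsg.Agent.Coset.HN.Group
import Cfsg.Agent.Coset.HN.HS

/-!
The presented group is simple: it is perfect, the subgroup on `x, y, z` is maximal, and that subgroup
has no perfect quotient.
-/

set_option autoImplicit false
set_option maxRecDepth 100000
set_option Elab.async false

namespace CfsgLib.Coset.HN

open MulAction

theorem hom_comm_eq_one {A : Type*} [CommGroup A] (f : Cfsg.Spor.HN →* A) : f = 1 := by
  set a := f (PresentedGroup.of .x) with ha
  set b := f (PresentedGroup.of .y) with hb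
  set c := f (PresentedGroup.of .z) with hc
  set d := f (PresentedGroup.of .t) with hd
  obtain ⟨F, hF⟩ : ∃ F : FreeGroup Cfsg.Spor.HN.Gen →* A, F = f.comp (FreeGroup.lift (gv Lg)) :=
    ⟨_, rfl⟩
  have hr : ∀ i < 14, F (Cfsg.Spor.HN.extra.getD i 1) = 1 := fun i hi => by
    rw [hF, MonoidHom.comp_apply, lift_extra i hi, map_one]
  have Fx : F (FreeGroup.of .x) = a := by rw [hF, MonoidHom.comp_apply, FreeGroup.lift_apply_of]; rfl
  have Fy : F (FreeGroup.of .y) = b := by rw [hF, MonoidHom.comp_apply, FreeGroup.lift_apply_of]; rfl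
  have Fz : F (FreeGroup.of .z) = c := by rw [hF, MonoidHom.comp_apply, FreeGroup.lift_apply_of]; rfl
  have Ft : F (FreeGroup.of .t) = d := by rw [hF, MonoidHom.comp_apply, FreeGroup.lift_apply_of]; rfl
  have b6 : b ^ 6 = 1 := by simpa [Cfsg.Spor.HN.extra, Cfsg.Spor.HN.x, Cfsg.Spor.HN.y, Cfsg.Spor.HN.z, Cfsg.Spor.HN.t, Fx, Fy, Fz, Ft] using hr 0 (by norm_num)
  have a4 : a ^ 4 = 1 := by
    have h : a ^ 2 * b * a ^ 2 * b⁻¹ = 1 := by
      simpa [Cfsg.Spor.HN.extra, Cfsg.Spor.HN.x, Cfsg.Spor.HN.y, Cfsg.Spor.HN.z, Cfsg.Spor.HN.t, Fx, Fy, Fz, Ft] using hr 1 (by norm_num)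
    rwa [mul_right_comm (a ^ 2) b, mul_inv_cancel_right, ← pow_add] at h
  have b15 : b ^ 15 = 1 := by
    have h : (b ^ 2 * b ^ 3) ^ 3 = 1 := by
      simpa [Cfsg.Spor.HN.extra, Cfsg.Spor.HN.x, Cfsg.Spor.HN.y, Cfsg.Spor.HN.z, Cfsg.Spor.HN.t, Fx, Fy, Fz, Ft] using hr 3 (by norm_num)
    rwa [← pow_add, ← pow_mul] at h
  have b16 : b ^ 16 = 1 := by
    have h : (a * b * a * b ^ 3) ^ 4 = 1 := by
      simpa [Cfsg.Spor.HN.extra, Cfsg.Spor.HN.x, Cfsg.Spor.HN.y, Cfsg.Spor.HN.z, Cfsg.Spor.HN.t, Fx, Fy, Fz, Ft] using hr 5 (by norm_num)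
    simpa [mul_pow, a4, ← pow_mul, ← pow_add] using h
  have b1 : b = 1 := by simpa [pow_succ, b15] using b16
  have c2 : c ^ 2 = 1 := by simpa [Cfsg.Spor.HN.extra, Cfsg.Spor.HN.x, Cfsg.Spor.HN.y, Cfsg.Spor.HN.z, Cfsg.Spor.HN.t, Fx, Fy, Fz, Ft] using hr 6 (by norm_num)
  have d5 : d ^ 5 = 1 := by simpa [Cfsg.Spor.HN.extra, Cfsg.Spor.HN.x, Cfsg.Spor.HN.y, Cfsg.Spor.HN.z, Cfsg.Spor.HN.t, Fx, Fy, Fz, Ft] using hr 10 (by norm_num)
  have d3 : d ^ 3 = 1 := by
    have h : d * d ^ 2 = 1 := by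
      simpa [Cfsg.Spor.HN.extra, Cfsg.Spor.HN.x, Cfsg.Spor.HN.y, Cfsg.Spor.HN.z, Cfsg.Spor.HN.t, Fx, Fy, Fz, Ft] using hr 11 (by norm_num)
    rwa [← pow_succ'] at h
  have d2 : d ^ 2 = 1 := by simpa [pow_add d 3 2, d3] using d5
  have d1 : d = 1 := by simpa [pow_succ _ 2, d2] using d3
  have c3 : c ^ 3 = 1 := by
    have h : (c * d) ^ 3 = 1 := by simpa [Cfsg.Spor.HN.extra, Cfsg.Spor.HN.x, Cfsg.Spor.HN.y, Cfsg.Spor.HN.z, Cfsg.Spor.HN.t, Fx, Fy, Fz, Ft] using hr 13 (by norm_num)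
    simpa [d1] using h
  have c1 : c = 1 := by simpa [pow_succ _ 2, c2] using c3
  have a3 : a ^ 3 = 1 := by
    simpa [Cfsg.Spor.HN.extra, Cfsg.Spor.HN.x, Cfsg.Spor.HN.y, Cfsg.Spor.HN.z, Cfsg.Spor.HN.t, Fx, Fy, Fz, Ft, b1, c1] using hr 9 (by norm_num)
  have a1 : a = 1 := by simpa [pow_succ _ 3, a3] using a4
  refine PresentedGroup.ext fun g => ?_
  cases g
  · exact a1
  · exact b1
  · exact c1
  · exact d1

theorem φ_injective : Function.Injective φ := by
  refine (injective_iff_map_eq_one _).mpr fun g hg => ?_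
  have h : g ∈ stab0 := by
    show φ g p0 = p0
    rw [hg]; rfl
  obtain ⟨k, rfl⟩ := (stab0_eq ▸ h : g ∈ HX)
  rw [φ_ψg] at hg
  rw [(injective_iff_map_eq_one _).mp tr_injective k hg, map_one]

/-! ### Maximality -/

theorem mem_HX_of_fix {g : Cfsg.Spor.HN} (h : φ g p0 = p0) : g ∈ HX := by
  rw [← stab0_eq]; exact h

theorem sizes_dvd : ∀ s : Finset (Fin 9), (0 : Fin 9) ∈ s →
    (∑ i ∈ s, sizes.getD i.1 0) ∣ 1539000 → s = Finset.univ ∨ s = {0} := by decide +kernel

theorem maximal_HX {M : Subgroup Cfsg.Spor.HN} (hM : HX ≤ M) : M = HX ∨ M = ⊤ := by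
  classical
  haveI := card_HN_le.1
  letI : MulAction M Om := MulAction.compHom Om (φ.comp M.subtype)
  set B := orbit M p0 with hB
  set s : Finset (Fin 9) := Finset.univ.filter fun i => ∃ p ∈ B, p.1 = i with hs
  have hKB : ∀ p ∈ B, ∀ k, tr k p ∈ B := by
    rintro _ ⟨m, rfl⟩ k
    refine ⟨⟨ψg k, hM ⟨k, rfl⟩⟩ * m, ?_⟩
    show φ (ψg k * m.1) p0 = tr k (φ m.1 p0)
    rw [map_mul, φ_ψg]; rfl
  have hmem : ∀ q : Om, q ∈ B ↔ q.1 ∈ s := by
    intro q
    constructor
    · exact fun hq => Finset.mem_filter.mpr ⟨Finset.mem_univ _, q, hq, rfl⟩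
    · intro hq
      obtain ⟨p, hp, e⟩ := (Finset.mem_filter.mp hq).2
      obtain ⟨i, a⟩ := p
      obtain ⟨j, b⟩ := q
      obtain rfl : i = j := e
      obtain ⟨k, hk⟩ := exists_smul_eq K0 a b
      have := hKB _ hp k
      rwa [show tr k ⟨i, a⟩ = (⟨i, b⟩ : Om) from congrArg (Sigma.mk i) hk] at this
  have hcard : Nat.card B = ∑ i ∈ s, sizes.getD i.1 0 := by
    have e : B ≃ (Σ i : s, K0 ⧸ Sg i.1.1) :=
      { toFun := fun p => ⟨⟨p.1.1, (hmem _).mp p.2⟩, p.1.2⟩
        invFun := fun p => ⟨⟨p.1.1, p.2⟩, (hmem _).mpr p.1.2⟩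
        left_inv := fun p => rfl
        right_inv := fun p => rfl }
    rw [Nat.card_congr e, Nat.card_sigma, ← Finset.sum_coe_sort s (fun i => sizes.getD i.1 0)]
    exact Finset.sum_congr rfl fun i _ => index_Sg i.1.1 i.1.2
  have hstab : stabilizer M p0 = HX.subgroupOf M := by
    ext m
    rw [Subgroup.mem_subgroupOf]
    exact ⟨fun h => mem_HX_of_fix h, fun h => HX_le h⟩
  have hprod : Nat.card B * 177408000 = Nat.card M := by
    have h := (stabilizer M p0).card_mul_index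
    have e : Nat.card (stabilizer M p0) = 177408000 := by
      rw [hstab, Nat.card_congr (Subgroup.subgroupOfEquivOfLe hM).toEquiv, card_HX]
    rw [e, MulAction.index_stabilizer, ← Nat.card_coe_set_eq] at h
    rw [← h, hB, mul_comm]
  have hdvd : (∑ i ∈ s, sizes.getD i.1 0) ∣ 1539000 := by
    rw [← hcard]
    refine Nat.dvd_of_mul_dvd_mul_right (show 0 < 177408000 by norm_num) ?_
    rw [hprod, show 1539000 * 177408000 = Nat.card Cfsg.Spor.HN by rw [card_HN]]
    exact Subgroup.card_subgroup_dvd_card M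
  have h0 : (0 : Fin 9) ∈ s :=
    Finset.mem_filter.mpr ⟨Finset.mem_univ _, p0, mem_orbit_self _, rfl⟩
  rcases sizes_dvd s h0 hdvd with h | h
  · right
    refine Subgroup.eq_top_of_card_eq _ ?_
    rw [← hprod, hcard, h, card_HN,
      (by decide +kernel : ∑ i : Fin 9, sizes.getD i.1 0 = 1539000)]
  · left
    refine (Subgroup.eq_of_le_of_card_ge hM ?_).symm
    rw [← hprod, hcard, h, card_HX, Finset.sum_singleton]
    exact le_of_eq (by decide +kernel)

/-! ### Simplicity -/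

theorem centralizer_HSim {π : Equiv.Perm (Fin 100)} (h : ∀ v ∈ HSim, Commute π v) : π = 1 := by
  have hv : ∀ v ∈ HSim, ∀ p, π (v p) = v (π p) := fun v hm p => DFunLike.congr_fun (h v hm).eq p
  have h0 : π 0 = 0 := by
    by_contra hne
    have hsingle : (orbit (stabilizer HSim (0 : Fin 100)) (π 0)).ncard = 1 := by
      rw [Set.ncard_eq_one]
      refine ⟨π 0, Set.eq_singleton_iff_unique_mem.mpr ⟨mem_orbit_self _, ?_⟩⟩
      rintro _ ⟨⟨⟨v, hm⟩, hfix⟩, rfl⟩
      show v (π 0) = π 0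
      rw [← hv v hm, show v 0 = 0 from hfix]
    rcases Cfsg.Agent.HSGraph.RankThree.orbit_cases (G := HSim) (Fintype.card_fin 100) ncard_b
      ncard_c (π 0) with e | e | e
    · exact hne e
    · rw [orbit_eq_iff.mpr e, ncard_b] at hsingle; omega
    · rw [orbit_eq_iff.mpr e, ncard_c] at hsingle; omega
  refine Equiv.ext fun p => ?_
  obtain ⟨g, rfl⟩ := exists_smul_eq HSim (0 : Fin 100) p
  show π (g.1 0) = g.1 0
  rw [hv g.1 g.2, h0]

theorem simple_HN : IsSimpleGroup Cfsg.Spor.HN := by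
  haveI := card_HN_le.1
  haveI : Nontrivial Cfsg.Spor.HN :=
    Finite.one_lt_card_iff_nontrivial.mp (by rw [card_HN]; norm_num)
  refine ⟨fun N hN => ?_⟩
  by_cases hle : N ≤ HX
  · left
    refine (Subgroup.eq_bot_iff_forall _).mpr fun n hn => φ_injective ?_
    rw [map_one]
    refine Equiv.ext fun p => ?_
    obtain ⟨g, rfl⟩ := φ_transitive p
    have h : φ (g⁻¹ * n * g⁻¹⁻¹) p0 = p0 := HX_le (hle (hN.conj_mem n hn g⁻¹))
    rw [inv_inv, map_mul, map_mul, map_inv, Equiv.Perm.mul_apply, Equiv.Perm.mul_apply,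
      Equiv.Perm.inv_def, Equiv.symm_apply_eq] at h
    exact h
  · right
    have hsup : N ⊔ HX = ⊤ := (maximal_HX le_sup_right).resolve_left
      fun e => hle (e ▸ le_sup_left)
    set f : K0 →* Cfsg.Spor.HN ⧸ N := (QuotientGroup.mk' N).comp ψg with hf
    have hsurj : Function.Surjective f := by
      intro q
      induction q using QuotientGroup.induction_on with
      | _ g =>
        obtain ⟨n, hn, h, ⟨k, rfl⟩, rfl⟩ :=
          Subgroup.mem_sup_of_normal_left.mp (hsup.symm ▸ Subgroup.mem_top g)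
        exact ⟨k, QuotientGroup.eq.mpr (by simpa [mul_assoc] using Subgroup.Normal.conj_mem' hN n hn (ψg k))⟩
    haveI := card_K0_le.1
    -- no character of order two factors through the quotient
    obtain ⟨p, hp, hpε⟩ : ∃ p ∈ f.ker, ε p ≠ 1 := by
      by_contra hcon
      push Not at hcon
      let q := MonoidHom.liftOfSurjective f hsurj ⟨ε, fun k hk => hcon k hk⟩
      have h := hom_comm_eq_one (q.comp (QuotientGroup.mk' N))
      have h4 : ε (fl Lk 4) = 1 := by
        rw [← MonoidHom.liftOfRightInverse_comp_apply f _ (Function.rightInverse_surjInv hsurj)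
          ⟨ε, fun k hk => hcon k hk⟩ (fl Lk 4)]
        exact DFunLike.congr_fun h (ψg (fl Lk 4))
      rw [ε, numHom_fl] at h4
      exact absurd h4 (by decide +kernel)
    set T := (f.ker.subgroupOf Keven).map toHS with hT
    haveI := simple_HSim
    haveI : (f.ker.subgroupOf Keven).Normal := inferInstance
    rcases ((inferInstance : (f.ker.subgroupOf Keven).Normal).map toHS toHS_surjective).eq_bot_or_eq_top
      with h | h
    · exfalso
      have hc : σH p = 1 := centralizer_HSim fun v hv => by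
        obtain ⟨k, hk, rfl⟩ := hv
        have hm : p * k * p⁻¹ * k⁻¹ ∈ f.ker := by
          rw [MonoidHom.mem_ker] at hp ⊢
          simp [hp]
        have hK : p * k * p⁻¹ * k⁻¹ ∈ Keven := by
          rw [Keven, MonoidHom.mem_ker, map_mul, map_mul, map_mul, map_inv, map_inv,
            mul_comm (ε p) (ε k), mul_inv_cancel_right, mul_inv_cancel]
        have h1 : toHS ⟨_, hK⟩ = 1 := by
          rw [← Subgroup.mem_bot, ← h]
          exact ⟨⟨_, hK⟩, hm, rfl⟩
        have h2 : σH (p * k * p⁻¹ * k⁻¹) = 1 := congrArg Subtype.val h1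
        rw [map_mul, map_mul, map_mul, map_inv, map_inv, mul_inv_eq_one, mul_inv_eq_iff_eq_mul] at h2
        exact h2
      have : p ∈ Keven := (Subgroup.zpowers_le.mpr x2_Keven) (ker_σH ▸ hc)
      exact hpε this
    · have heven : ∀ k ∈ Keven, f k ∈ (Subgroup.zpowers x2).map f := by
        intro k hk
        obtain ⟨⟨u, hu⟩, hm, e⟩ := (h ▸ Subgroup.mem_top (toHS ⟨k, hk⟩) :
          toHS ⟨k, hk⟩ ∈ (f.ker.subgroupOf Keven).map toHS)
        have e' : σH u = σH k := congrArg Subtype.val e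
        have hz : u⁻¹ * k ∈ Subgroup.zpowers x2 := by
          rw [← ker_σH, MonoidHom.mem_ker, map_mul, map_inv, e', inv_mul_cancel]
        refine ⟨_, hz, ?_⟩
        rw [map_mul, map_inv, show f u = 1 from hm, inv_one, one_mul]
      have hall : ∀ q, q ∈ (Subgroup.zpowers x2).map f := by
        intro q
        obtain ⟨k, rfl⟩ := hsurj q
        by_cases hk : k ∈ Keven
        · exact heven k hk
        · have hk' : p⁻¹ * k ∈ Keven := by
            rw [Keven, MonoidHom.mem_ker] at hk ⊢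
            rw [map_mul, map_inv, (Int.units_eq_one_or (ε p)).resolve_left hpε,
              (Int.units_eq_one_or (ε k)).resolve_left hk, inv_mul_cancel]
          have := heven _ hk'
          rwa [map_mul, map_inv, MonoidHom.mem_ker.mp hp, inv_one, one_mul] at this
      letI : CommGroup (Cfsg.Spor.HN ⧸ N) :=
        { (inferInstance : Group (Cfsg.Spor.HN ⧸ N)) with
          mul_comm := fun a b => by
            obtain ⟨u, hu, rfl⟩ := hall a
            obtain ⟨v, hv, rfl⟩ := hall b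
            obtain ⟨m, rfl⟩ := Subgroup.mem_zpowers_iff.mp hu
            obtain ⟨n, rfl⟩ := Subgroup.mem_zpowers_iff.mp hv
            rw [← map_mul, ← map_mul, ← zpow_add, ← zpow_add, add_comm] }
      refine eq_top_iff.mpr fun g _ => ?_
      rw [← QuotientGroup.eq_one_iff]
      exact DFunLike.congr_fun (hom_comm_eq_one (QuotientGroup.mk' N)) g

theorem isHN : Cfsg.IsHN Cfsg.Spor.HN := ⟨simple_HN, card_HN⟩

end CfsgLib.Coset.HN
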