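import Cfsg.Agent.Coset.HN.Frame

/-!
Soundness of the derivation: every listed edge and stabiliser element is right in any group
satisfying the relators.
-/

set_option autoImplicit false
set_option maxRecDepth 100000
set_option Elab.async false

namespace CfsgLib.Coset.HN

/-- The representative words. -/
noncomputable def rWd (i : Nat) : List Nat := up (CD.rwL.getD i 0)

/-- The stabiliser entry. -/
abbrev sE (g : Nat) : Nat × Nat := CD.SL.getD g (0, 0)

/-- The edge. -/
abbrev eE (f : Nat) : Edge := CD.EL.getD f ⟨0, 0, 0, 0⟩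

variable {Γ : Type*} [Group Γ] {L : List Γ}

/-- The value of a representative. -/
noncomputable def rv (L : List Γ) (i : Nat) : Γ := ev L (rWd i)

namespace Frame

variable (F : Frame L)

/-- An edge holds. -/
def EdgeHolds (f : Nat) : Prop :=
  rv L (eE f).i * F.ψ (ev Lk (up (eE f).a)) * fl L 5 *
    (rv L (eE f).j * F.ψ (ev Lk (up (eE f).b)))⁻¹ ∈ F.HH

/-- A stabiliser entry holds. -/
def StabHolds (g : Nat) : Prop :=
  rv L (sE g).1 * F.ψ (ev Lk (up (sE g).2)) * (rv L (sE g).1)⁻¹ ∈ F.HH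

/-- Elements fixing the coset of a representative. -/
noncomputable def SS (i : Nat) : Subgroup K0 :=
  (F.HH.comap (MulAut.conj (rv L i)).toMonoidHom).comap F.ψ

theorem mem_SS {i : Nat} {u : K0} : u ∈ F.SS i ↔ rv L i * F.ψ u * (rv L i)⁻¹ ∈ F.HH := Iff.rfl

theorem uWord_ok {ns i : Nat} (hS : ∀ g < ns, F.StabHolds g) : ∀ {w : List (Nat × Bool)},
    uOK CD.SL ns i w = true →
    (∀ l ∈ uWord CD.SL w, l < 5) ∧ ev Lk (uWord CD.SL w) ∈ F.SS i
  | [], _ => ⟨by simp [uWord], by simp [uWord, mem_SS]⟩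
  | p :: w, h => by
    have h1 := allList_iff.mp h
    obtain ⟨hl, hm⟩ := uWord_ok hS (w := w) (allList_iff.mpr fun q hq => h1 q (by simp [hq]))
    have hp := h1 p (by simp)
    rw [cond_false_eq_true, cond_false_eq_true] at hp
    obtain ⟨hlt, hi, hlow⟩ := hp
    have hg := hS p.1 (Nat.ble_eq.mp hlt)
    have hlow' := low_iff hlow
    have hg' : ev Lk (up (sE p.1).2) ∈ F.SS i := by
      rw [← Nat.eq_of_beq_eq_true hi]; exact hg
    rw [uWord, List.flatMap_cons, ← uWord]
    refine ⟨fun l hl' => ?_, ?_⟩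
    · rcases List.mem_append.mp hl' with h' | h'
      · cases hb : p.2
        · rw [hb, cond_false] at h'; exact invWd_low hlow' l h'
        · rw [hb, cond_true] at h'; exact hlow' l h'
      · exact hl l h'
    · rw [ev_append]
      refine mul_mem ?_ hm
      cases hb : p.2
      · rw [cond_false, ev_invWd_Lk hlow']; exact inv_mem hg'
      · rw [cond_true]; exact hg'

/-- The point reached by a path. -/
def Rel (i : Nat) (k : K0) (g : Γ) (j : Nat) (k' : K0) : Prop :=
  rv L i * F.ψ k * g * (rv L j * F.ψ k')⁻¹ ∈ F.HH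

theorem step_of_src {i j : Nat} {k src dst u n : K0} {τ : Γ} (hu : u ∈ F.SS i)
    (h : rv L i * F.ψ src * τ * (rv L j * F.ψ dst)⁻¹ ∈ F.HH)
    (hn : n = src⁻¹ * u * k) (hc : Commute (F.ψ n) τ) :
    F.Rel i k τ j (dst * n) := by
  have e : rv L i * F.ψ k * τ * (rv L j * F.ψ (dst * n))⁻¹ =
      (rv L i * F.ψ u * (rv L i)⁻¹)⁻¹ * (rv L i * F.ψ src * τ * (rv L j * F.ψ dst)⁻¹) := by
    have hk : F.ψ k = (F.ψ u)⁻¹ * F.ψ src * F.ψ n := by
      rw [hn, map_mul, map_mul, map_inv]; group
    rw [hk, map_mul]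
    simp only [mul_inv_rev, mul_assoc, inv_inv]
    simp only [← mul_assoc]
    have := hc.eq
    calc rv L i * (F.ψ u)⁻¹ * F.ψ src * F.ψ n * τ * (F.ψ n)⁻¹ * (F.ψ dst)⁻¹ * (rv L j)⁻¹
        = rv L i * (F.ψ u)⁻¹ * F.ψ src * (F.ψ n * τ) * (F.ψ n)⁻¹ * (F.ψ dst)⁻¹ * (rv L j)⁻¹ := by group
      _ = rv L i * (F.ψ u)⁻¹ * F.ψ src * (τ * F.ψ n) * (F.ψ n)⁻¹ * (F.ψ dst)⁻¹ * (rv L j)⁻¹ := by rw [this]
      _ = _ := by group
  show _ ∈ F.HH
  rw [e]
  exact mul_mem (inv_mem hu) h

theorem useOK_sound {ne ns i d : Nat} {k : List Nat} {c : Choice} (hE : ∀ f < ne, F.EdgeHolds f)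
    (hS : ∀ g < ns, F.StabHolds g) (hk : ∀ l ∈ k, l < 5) (hd : d ≤ 1)
    (h : useOK KD.Tb baseK CD.EL CD.SL ne ns i k d c = true) :
    (∀ l ∈ up c.k, l < 5) ∧ F.Rel i (ev Lk k) (fl L (d + 5)) c.j (ev Lk (up c.k)) := by
  unfold useOK at h
  simp only [cond_false_eq_true] at h
  obtain ⟨hf, hcd, hu, hck, h⟩ := h
  have hE' := hE c.f (Nat.ble_eq.mp hf)
  obtain ⟨hul, hum⟩ := F.uWord_ok hS hu
  have hcl := low_iff hck
  refine ⟨hcl, ?_⟩
  have hdd : c.d = d := Nat.eq_of_beq_eq_true hcd
  cases hd0 : Nat.beq c.d 0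
  · rw [hd0, cond_false] at h
    simp only [cond_false_eq_true] at h
    obtain ⟨hd1, hi, hj, ⟨ha, hb⟩, hfix, heq⟩ := h
    rw [← hdd, Nat.eq_of_beq_eq_true hd1]
    have la := low_iff ha; have lb := low_iff hb
    have ln : ∀ l ∈ invWd inv7 (up (eE c.f).b) ++ uWord CD.SL c.w ++ k, l < 5 := by
      intro l hl
      rcases List.mem_append.mp hl with hl | hl
      · rcases List.mem_append.mp hl with hl | hl
        · exact invWd_low lb l hl
        · exact hul l hl
      · exact hk l hl
    have hn0 : σK (ev Lk (invWd inv7 (up (eE c.f).b) ++ uWord CD.SL c.w ++ k)) 0 = 0 := by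
      rw [matches_σK.fix_iff (fun l hl => length_Lk.symm ▸ ln l hl)]
      have := Nat.eq_of_beq_eq_true hfix
      rwa [followF_eq] at this
    have heq' := ev_eq_of_eqK hcl (fun l hl => by
      rcases List.mem_append.mp hl with hl | hl
      · exact la l hl
      · exact ln l hl) heq
    rw [heq', ev_append]
    have hE'' : rv L i * F.ψ (ev Lk (up (eE c.f).b)) * fl L 6 *
        (rv L c.j * F.ψ (ev Lk (up (eE c.f).a)))⁻¹ ∈ F.HH := by
      rw [← Nat.eq_of_beq_eq_true hi, ← Nat.eq_of_beq_eq_true hj, F.fl_six]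
      have := inv_mem hE'
      simp only [mul_inv_rev, inv_inv, mul_assoc] at this ⊢
      exact this
    refine F.step_of_src hum hE'' (by rw [ev_append, ev_append, ev_invWd_Lk lb]) ?_
    rw [F.fl_six]; exact (F.comm_t hn0).inv_right
  · rw [hd0, cond_true] at h
    simp only [cond_false_eq_true] at h
    obtain ⟨hi, hj, ⟨ha, hb⟩, hfix, heq⟩ := h
    rw [← hdd, Nat.eq_of_beq_eq_true hd0]
    have la := low_iff ha; have lb := low_iff hb
    have ln : ∀ l ∈ invWd inv7 (up (eE c.f).a) ++ uWord CD.SL c.w ++ k, l < 5 := by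
      intro l hl
      rcases List.mem_append.mp hl with hl | hl
      · rcases List.mem_append.mp hl with hl | hl
        · exact invWd_low la l hl
        · exact hul l hl
      · exact hk l hl
    have hn0 : σK (ev Lk (invWd inv7 (up (eE c.f).a) ++ uWord CD.SL c.w ++ k)) 0 = 0 := by
      rw [matches_σK.fix_iff (fun l hl => length_Lk.symm ▸ ln l hl)]
      have := Nat.eq_of_beq_eq_true hfix
      rwa [followF_eq] at this
    have heq' := ev_eq_of_eqK hcl (fun l hl => by
      rcases List.mem_append.mp hl with hl | hl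
      · exact lb l hl
      · exact ln l hl) heq
    rw [heq', ev_append]
    have hE'' : rv L i * F.ψ (ev Lk (up (eE c.f).a)) * fl L 5 *
        (rv L c.j * F.ψ (ev Lk (up (eE c.f).b)))⁻¹ ∈ F.HH := by
      rw [← Nat.eq_of_beq_eq_true hi, ← Nat.eq_of_beq_eq_true hj]
      exact hE'
    exact F.step_of_src hum hE'' (by rw [ev_append, ev_append, ev_invWd_Lk la]) (F.comm_t hn0)

theorem runK_sound {ne ns : Nat} (hE : ∀ f < ne, F.EdgeHolds f) (hS : ∀ g < ns, F.StabHolds g) :
    ∀ (U : List Nat) (cs : List Choice) (i : Nat) (k : List Nat) (Kc : Nat → List Nat → Bool),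
      (∀ l ∈ k, l < 5) → runK KD.Tb baseK CD.EL CD.SL ne ns U cs i k Kc = true →
      ∃ j k', Kc j k' = true ∧ (∀ l ∈ k', l < 5) ∧
        F.Rel i (ev Lk k) (ev L U) j (ev Lk k') := by
  intro U
  induction U with
  | nil =>
    intro cs i k Kc hk h
    cases cs with
    | nil => exact ⟨i, k, h, hk, by simp [Rel]⟩
    | cons c t => exact absurd h (by simp [runK])
  | cons l U ih =>
    intro cs i k Kc hk h
    change cond (Nat.ble (Nat.add l 1) 5)
      (runK KD.Tb baseK CD.EL CD.SL ne ns U cs i (k ++ [l]) Kc)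
      (cond (Nat.ble l 6) (List.rec false (fun c t _ =>
        cond (useOK KD.Tb baseK CD.EL CD.SL ne ns i k (Nat.sub l 5) c)
          (runK KD.Tb baseK CD.EL CD.SL ne ns U t c.j (up c.k) Kc) false) cs) false) = true at h
    cases hb : Nat.ble (Nat.add l 1) 5
    · rw [hb, cond_false, cond_false_eq_true] at h
      obtain ⟨hl6, h⟩ := h
      have hl5 : 5 ≤ l := by
        by_contra hc
        rw [Nat.ble_eq.mpr (show Nat.add l 1 ≤ 5 by simp only [Nat.add_eq]; omega)] at hb
        exact Bool.noConfusion hb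
      cases cs with
      | nil => exact absurd h (by simp)
      | cons c t =>
        change cond (useOK KD.Tb baseK CD.EL CD.SL ne ns i k (Nat.sub l 5) c)
          (runK KD.Tb baseK CD.EL CD.SL ne ns U t c.j (up c.k) Kc) false = true at h
        rw [cond_false_eq_true] at h
        obtain ⟨hu, h⟩ := h
        obtain ⟨hck, hR⟩ := F.useOK_sound hE hS hk
          (show l - 5 ≤ 1 by have := Nat.ble_eq.mp hl6; omega) hu
        obtain ⟨j, k', hK, hk', hR'⟩ := ih t c.j (up c.k) Kc hck h
        refine ⟨j, k', hK, hk', ?_⟩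
        rw [show l - 5 + 5 = l by omega] at hR
        rw [ev_cons]
        have := mul_mem hR hR'
        show _ ∈ F.HH
        simpa [mul_assoc, mul_inv_rev] using this
    · rw [hb, cond_true] at h
      have hl5 : l < 5 := Nat.ble_eq.mp hb
      have hk' : ∀ a ∈ k ++ [l], a < 5 := by
        intro a ha
        rcases List.mem_append.mp ha with ha | ha
        · exact hk a ha
        · rw [List.mem_singleton.mp ha]; exact hl5
      obtain ⟨j, k', hK, hkl, hR⟩ := ih cs i (k ++ [l]) Kc hk' h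
      refine ⟨j, k', hK, hkl, ?_⟩
      have e : F.ψ (ev Lk (k ++ [l])) = F.ψ (ev Lk k) * fl L l := by
        rw [ev_append, map_mul, F.ψ_ev (w := [l]) (by simpa using hl5)]; simp
      show _ ∈ F.HH
      unfold Rel at hR
      rw [e] at hR
      simpa [mul_assoc] using hR

include F in
theorem relW_one {w : List Nat} (hw : w ∈ CD.relW) : ev L w = 1 := by
  have key : ∀ w ∈ CD.relW, ∃ r ∈ ([[4, 5, 4, 5, 4, 5], [5, 5, 5, 5, 5], [0, 0, 5, 0, 0, 5],
      [1, 5, 0, 5, 5], [4, 6, 4, 6, 4, 6], [5, 6], [6, 5]] : List (List Nat)),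
      ∃ o ∈ List.range 7, w = r.drop o ++ r.take o ∨
        w = (invWd inv7 r).drop o ++ (invWd inv7 r).take o := by decide +kernel
  obtain ⟨r, hr, o, -, ho⟩ := key w hw
  have hrot : ∀ v : List Nat, ev L v = 1 → ev L (v.drop o ++ v.take o) = 1 := by
    intro v hv
    have h1 : ev L (v.take o) * ev L (v.drop o) = 1 := by rw [← ev_append, List.take_append_drop, hv]
    rw [ev_append, eq_inv_of_mul_eq_one_left h1]; simp
  suffices ev L r = 1 by
    rcases ho with rfl | rfl
    · exact hrot r this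
    · exact hrot _ (by rw [F.ev_inv, this, inv_one])
  have h1 := F.rel [4, 5, 4, 5, 4, 5] (by decide +kernel)
  simp only [List.mem_cons, List.not_mem_nil, or_false] at hr
  rcases hr with rfl | rfl | rfl | rfl | rfl | rfl | rfl
  · exact h1
  · exact F.rel _ (by decide +kernel)
  · have hx := F.x_t_x
    have h5 := F.t_pow_five
    have h4 : fl L 0 ^ 4 = 1 := by
      have := congrArg F.ψ x_pow_four
      rw [F.ψ_ev (by decide), map_one] at this
      simpa [pow_succ, mul_assoc] using this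
    have e : fl L 0 * fl L 0 = (fl L 0)⁻¹ * (fl L 0)⁻¹ := by
      rw [← mul_inv_rev, eq_inv_iff_mul_eq_one]
      simpa [pow_succ, mul_assoc] using h4
    have e3 : (fl L 0)⁻¹ * fl L 5 ^ 3 * fl L 0 = fl L 5 ^ 4 := by
      have h : (fl L 0)⁻¹ * fl L 5 ^ 3 * fl L 0 = ((fl L 0)⁻¹ * fl L 5 * fl L 0) ^ 3 := by
        simp [pow_succ, mul_assoc]
      rw [h, hx, ← pow_mul, show 3 * 3 = 5 + 4 from rfl, pow_add, h5, one_mul]
    have : fl L 0 * fl L 0 * fl L 5 * (fl L 0 * fl L 0) * fl L 5 = 1 := by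
      conv_lhs => arg 1; arg 1; arg 1; rw [e]
      calc (fl L 0)⁻¹ * (fl L 0)⁻¹ * fl L 5 * (fl L 0 * fl L 0) * fl L 5
          = (fl L 0)⁻¹ * ((fl L 0)⁻¹ * fl L 5 * fl L 0) * fl L 0 * fl L 5 := by group
        _ = 1 := by rw [hx, e3, ← pow_succ, h5]
    simpa [mul_assoc] using this
  · exact F.rel _ (by decide +kernel)
  · have := hrot [5, 4, 5, 4, 5, 4] (by
      have h2 : ev L ([5, 4, 5, 4, 5, 4] : List Nat) = (fl L 4)⁻¹ * ev L [4, 5, 4, 5, 4, 5] * fl L 4 := by
        simp [mul_assoc]
      rw [h2, h1, mul_one, inv_mul_cancel])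
    have h3 : ev L ([4, 6, 4, 6, 4, 6] : List Nat) = (ev L [5, 4, 5, 4, 5, 4])⁻¹ := by
      rw [← F.ev_inv, show invWd inv7 [5, 4, 5, 4, 5, 4] = [4, 6, 4, 6, 4, 6] by decide +kernel]
    rw [h3, show ev L ([5, 4, 5, 4, 5, 4] : List Nat) = (fl L 4)⁻¹ * ev L [4, 5, 4, 5, 4, 5] * fl L 4 by
      simp [mul_assoc], h1, mul_one, inv_mul_cancel, inv_one]
  · exact F.rel _ (by decide +kernel)
  · exact F.rel _ (by decide +kernel)

theorem inW_mem {w : List Nat} : ∀ {R : List (List Nat)}, inW R w = true → w ∈ R := by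
  intro R
  induction R with
  | nil => intro h; exact absurd h (by simp [inW])
  | cons a t ih =>
    intro h
    change cond (wordEq a w) true (inW t w) = true at h
    cases hb : wordEq a w
    · rw [hb, cond_false] at h; exact List.mem_cons_of_mem _ (ih h)
    · rw [eq_of_wordEq hb]; exact List.mem_cons_self

theorem items_sound : ∀ (its : List Item) (ne ns : Nat),
    checkItems KD.Tb baseK CD.EL CD.SL CD.rwL CD.relW its ne ns = true →
    (∀ f < ne, F.EdgeHolds f) → (∀ g < ns, F.StabHolds g) →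
    (∀ f < CD.EL.length, F.EdgeHolds f) ∧ ∀ g < CD.SL.length, F.StabHolds g := by
  intro its
  induction its with
  | nil =>
    intro ne ns h hE hS
    change cond (Nat.beq ne CD.EL.length) (Nat.beq ns CD.SL.length) false = true at h
    rw [cond_false_eq_true] at h
    exact ⟨fun f hf => hE f (Nat.eq_of_beq_eq_true h.1 ▸ hf),
      fun g hg => hS g (Nat.eq_of_beq_eq_true h.2 ▸ hg)⟩
  | cons it t ih =>
    intro ne ns h hE hS
    have extE : F.EdgeHolds ne → ∀ f < ne + 1, F.EdgeHolds f := fun hne f hf => by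
      rcases Nat.lt_succ_iff_lt_or_eq.mp hf with hf | rfl
      · exact hE f hf
      · exact hne
    have extS : F.StabHolds ns → ∀ g < ns + 1, F.StabHolds g := fun hns g hg => by
      rcases Nat.lt_succ_iff_lt_or_eq.mp hg with hg | rfl
      · exact hS g hg
      · exact hns
    cases it with
    | triv =>
      change cond _ (cond _ (cond _ (checkItems KD.Tb baseK CD.EL CD.SL CD.rwL CD.relW t ne (Nat.add ns 1))
        false) false) false = true at h
      simp only [cond_false_eq_true] at h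
      obtain ⟨-, hl, hcase, h⟩ := h
      refine ih ne (ns + 1) h hE (extS ?_)
      unfold StabHolds
      have hl' := low_iff hl
      cases h0 : Nat.beq (sE ns).1 0
      · rw [show Nat.beq (CD.SL.getD ns (0, 0)).1 0 = false from h0, cond_false] at hcase
        simp only [cond_false_eq_true] at hcase
        obtain ⟨h1, hfix, hr⟩ := hcase
        rw [show (sE ns).1 = 1 from Nat.eq_of_beq_eq_true h1]
        have hr' : rWd 1 = [5] := eq_of_wordEq hr
        have hn : σK (ev Lk (up (sE ns).2)) 0 = 0 := by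
          rw [matches_σK.fix_iff (fun l hl => length_Lk.symm ▸ hl' l hl)]
          have := Nat.eq_of_beq_eq_true hfix
          rwa [followF_eq] at this
        rw [rv, hr', ev_cons, ev_nil, mul_one, ← (F.comm_t hn).eq, mul_inv_cancel_right]
        exact F.ψ_mem _
      · rw [show (sE ns).1 = 0 from Nat.eq_of_beq_eq_true h0]
        have hr0 : rWd 0 = [] := by decide +kernel
        rw [rv, hr0, ev_nil, one_mul, inv_one, mul_one]
        exact F.ψ_mem _
    | defn =>
      change cond _ (cond _ (cond _ (cond _ (checkItems KD.Tb baseK CD.EL CD.SL CD.rwL CD.relW t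
        (Nat.add ne 1) ns) false) false) false) false = true at h
      simp only [cond_false_eq_true] at h
      obtain ⟨-, hl, hr, hb, h⟩ := h
      refine ih (ne + 1) ns h (extE ?_) hS
      unfold EdgeHolds
      have hr' : rWd (eE ne).j = rWd (eE ne).i ++ up (eE ne).a ++ [5] := eq_of_wordEq hr
      have hb' : (eE ne).b = 0 := Nat.eq_of_beq_eq_true hb
      rw [hb', show up 0 = [] from by decide +kernel, ev_nil, map_one, mul_one, rv, rv, hr',
        ev_append, ev_append, ev_cons, ev_nil, mul_one, F.ψ_ev (low_iff hl), mul_inv_cancel]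
      exact one_mem _
    | edge p =>
      change cond _ (cond _ (cond _ (checkItems KD.Tb baseK CD.EL CD.SL CD.rwL CD.relW t
        (Nat.add ne 1) ns) false) false) false = true at h
      simp only [cond_false_eq_true] at h
      obtain ⟨-, ⟨hk, hW⟩, hrun, h⟩ := h
      refine ih (ne + 1) ns h (extE ?_) hS
      obtain ⟨a, ka, hA, hka, RA⟩ := F.runK_sound hE hS _ _ _ _ _ (low_iff hk) hrun
      obtain ⟨b, kb, hB, hkb, RB⟩ := F.runK_sound hE hS _ _ _ _ _ (low_iff hk) hA
      simp only [cond_false_eq_true] at hB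
      obtain ⟨⟨ha, hb⟩, ⟨la, lb⟩, ea, eb⟩ := hB
      unfold EdgeHolds
      rw [show (eE ne).i = a from Nat.eq_of_beq_eq_true ha,
        show (eE ne).j = b from Nat.eq_of_beq_eq_true hb,
        show ev Lk (up (eE ne).a) = ev Lk ka from ev_eq_of_eqK (low_iff la) hka ea,
        show ev Lk (up (eE ne).b) = ev Lk kb from ev_eq_of_eqK (low_iff lb) hkb eb]
      have hrel := F.relW_one (inW_mem hW)
      rw [ev_append, ev_cons, F.ev_inv, ← mul_assoc, mul_inv_eq_one] at hrel
      have := mul_mem (inv_mem RA) RB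
      rw [← hrel] at this
      simpa [mul_assoc, mul_inv_rev] using this
    | stab p =>
      change cond _ (cond _ (cond _ (checkItems KD.Tb baseK CD.EL CD.SL CD.rwL CD.relW t
        ne (Nat.add ns 1)) false) false) false = true at h
      simp only [cond_false_eq_true] at h
      obtain ⟨-, ⟨hk, hW⟩, hrun, h⟩ := h
      refine ih ne (ns + 1) h hE (extS ?_)
      obtain ⟨a, ka, hA, hka, RA⟩ := F.runK_sound hE hS _ _ _ _ _ (low_iff hk) hrun
      obtain ⟨b, kb, hB, hkb, RB⟩ := F.runK_sound hE hS _ _ _ _ _ (low_iff hk) hA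
      simp only [cond_false_eq_true] at hB
      obtain ⟨⟨ha, hb⟩, ls, es⟩ := hB
      unfold StabHolds
      have hl2 : ∀ l ∈ kb ++ invWd inv7 ka, l < 5 := fun l hl => by
        rcases List.mem_append.mp hl with hl | hl
        · exact hkb l hl
        · exact invWd_low hka l hl
      rw [show ev Lk (up (sE ns).2) = ev Lk (kb ++ invWd inv7 ka) from ev_eq_of_eqK (low_iff ls) hl2 es,
        ev_append, ev_invWd_Lk hka, map_mul, map_inv]
      have e1 : (sE ns).1 = a := Nat.eq_of_beq_eq_true ha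
      have e2 : (sE ns).1 = b := Nat.eq_of_beq_eq_true hb
      rw [← e1] at RA
      rw [← e2] at RB
      have hrel := F.relW_one (inW_mem hW)
      rw [ev_append, F.ev_inv, mul_inv_eq_one] at hrel
      have := mul_mem (inv_mem RB) RA
      rw [← hrel] at this
      simpa [mul_assoc, mul_inv_rev] using this

end Frame

end CfsgLib.Coset.HN
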