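import Cfsg.Agent.Coset.HN.UpperChecks

/-!
The subgroup `⟨x, y, z⟩` has index at most 1539000 in a group satisfying the relators.
-/

set_option autoImplicit false
set_option maxRecDepth 100000
set_option Elab.async false

namespace CfsgLib.Coset.HN

/-- The sizes of the double cosets. -/
def sizes : List Nat := [1, 1408, 35200, 2200, 123200, 354816, 739200, 277200, 5775]

namespace Frame

variable {Γ : Type*} [Group Γ] {L : List Γ} (F : Frame L)

theorem edges_hold : ∀ f < CD.EL.length, F.EdgeHolds f :=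
  (F.items_sound CD.items 0 0 items_ok (fun f hf => absurd hf (Nat.not_lt_zero f))
    (fun g hg => absurd hg (Nat.not_lt_zero g))).1

theorem stabs_hold : ∀ g < CD.SL.length, F.StabHolds g :=
  (F.items_sound CD.items 0 0 items_ok (fun f hf => absurd hf (Nat.not_lt_zero f))
    (fun g hg => absurd hg (Nat.not_lt_zero g))).2

theorem Sg_le (i : Nat) : Sg i ≤ F.SS i := by
  refine (Subgroup.closure_le _).mpr ?_
  rintro _ ⟨g, hg, rfl, rfl⟩
  exact F.stabs_hold g hg

theorem forest {i : Nat} {Par : Nat → Nat} (h : checkPar KD.Tb CD.EL CD.SL i 1408 11 Par = true)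
    (p : Fin 1408) : ∃ f < CD.EL.length, (eE f).i = i ∧ (∀ l ∈ up (eE f).a, l < 5) ∧
      ∃ u ∈ F.SS i, (σK u)⁻¹ (σK (ev Lk (up (eE f).a)) 0) = p := by
  have hlowE : ∀ f < CD.EL.length, low (up (eE f).a) = true := by decide +kernel
  obtain ⟨d, hd⟩ : ∃ d, field (Par p) 2 = d := ⟨_, rfl⟩
  induction d using Nat.strong_induction_on generalizing p with
  | _ d ih =>
    have hp := of_allBelow h p p.2
    cases h0 : Nat.beq (field (Par p) 1) 0
    · simp only [h0, cond_false, cond_false_eq_true] at hp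
      obtain ⟨hq, hg, hgi, hdep, hfol⟩ := hp
      obtain ⟨f, hf, hfi, hfl, u, hu, hue⟩ :=
        ih (field (Par (field (Par p) 0)) 2) (hd ▸ Nat.ble_eq.mp hdep) ⟨_, Nat.ble_eq.mp hq⟩ rfl
      have hne : field (Par p) 1 ≠ 0 := Nat.ne_of_beq_eq_false h0
      have hglt : Nat.sub (field (Par p) 1) 1 < CD.SL.length := by
        have := Nat.ble_eq.mp hg
        simp only [Nat.sub_eq]; omega
      set g := Nat.sub (field (Par p) 1) 1
      have hl := low_iff (sl_low g hglt)
      refine ⟨f, hf, hfi, hfl, u * ev Lk (up (sE g).2), mul_mem hu ?_, ?_⟩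
      · have := F.stabs_hold g hglt
        rw [← Nat.eq_of_beq_eq_true hgi]
        exact this
      · rw [map_mul, mul_inv_rev, Equiv.Perm.mul_apply, hue]
        refine Fin.ext ?_
        rw [matches_σK.follow_eq _ _ (fun l hl' => length_Lk.symm ▸ hl l hl'), ← followF_eq]
        exact Nat.eq_of_beq_eq_true hfol
    · simp only [h0, cond_true, cond_false_eq_true] at hp
      obtain ⟨hf, hfi, hfol⟩ := hp
      have hf' : field (Par p) 0 < CD.EL.length := Nat.ble_eq.mp hf
      have hl := low_iff (hlowE _ hf')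
      refine ⟨_, hf', Nat.eq_of_beq_eq_true hfi, hl, 1, one_mem _, ?_⟩
      rw [map_one, inv_one, Equiv.Perm.one_apply]
      refine Fin.ext ?_
      have e := matches_σK.follow_eq (invWd inv7 (up (eE (field (Par p) 0)).a)) (0 : Fin 1408)
        (fun l hl' => length_Lk.symm ▸ invWd_low hl l hl')
      rw [ev_invWd_Lk hl, map_inv, inv_inv] at e
      rw [e]
      exact (followF_eq _ _ _).symm.trans (Nat.eq_of_beq_eq_true hfol)

/-- The union of the double cosets. -/
def XX : Set Γ := {g | ∃ i < 9, ∃ a : K0, g * (rv L i * F.ψ a)⁻¹ ∈ F.HH}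

theorem XX_mul_t {g : Γ} (hg : g ∈ F.XX) : g * fl L 5 ∈ F.XX := by
  obtain ⟨i, hi, a, ha⟩ := hg
  obtain ⟨Par, hPar⟩ : ∃ Par, checkPar KD.Tb CD.EL CD.SL i 1408 11 Par = true := by
    interval_cases i
    exacts [⟨_, par_ok0⟩, ⟨_, par_ok1⟩, ⟨_, par_ok2⟩, ⟨_, par_ok3⟩, ⟨_, par_ok4⟩, ⟨_, par_ok5⟩,
      ⟨_, par_ok6⟩, ⟨_, par_ok7⟩, ⟨_, par_ok8⟩]
  obtain ⟨f, hf, hfi, -, u, hu, hue⟩ := F.forest hPar (σK a 0)
  have hn : σK ((ev Lk (up (eE f).a))⁻¹ * u * a) 0 = 0 := by
    rw [map_mul, map_mul, map_inv, Equiv.Perm.mul_apply, Equiv.Perm.mul_apply, ← hue]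
    simp
  have hE := F.edges_hold f hf
  rw [EdgeHolds, hfi] at hE
  have hR := F.step_of_src (k := a) hu hE rfl (F.comm_t hn)
  have hj : (eE f).j < 9 := (by decide +kernel : ∀ f < CD.EL.length, (eE f).j < 9) f hf
  refine ⟨(eE f).j, hj, ev Lk (up (eE f).b) * ((ev Lk (up (eE f).a))⁻¹ * u * a), ?_⟩
  have := mul_mem ha hR
  simpa [mul_assoc, mul_inv_rev] using this

theorem mem_XX (hgen : Subgroup.closure {v | v ∈ L} = ⊤) (g : Γ) : g ∈ F.XX := by
  have h5 := F.len
  have hone : (1 : Γ) ∈ F.XX := ⟨0, by norm_num, 1, by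
    have hr0 : rWd 0 = [] := by decide +kernel
    simp [rv, hr0]⟩
  have hK : ∀ {g : Γ}, g ∈ F.XX → ∀ k : K0, g * F.ψ k ∈ F.XX := by
    rintro g ⟨i, hi, a, ha⟩ k
    exact ⟨i, hi, a * k, by simpa [mul_assoc, mul_inv_rev] using ha⟩
  have hstep : ∀ {g : Γ}, g ∈ F.XX → ∀ l, g * fl L l ∈ F.XX := by
    intro g hg l
    rcases lt_trichotomy l 5 with hl | rfl | hl
    · have := hK hg (fl Lk l)
      rwa [show fl Lk l = ev Lk [l] by simp, F.ψ_ev (by simpa using hl),
        show ev L [l] = fl L l by simp] at this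
    · exact F.XX_mul_t hg
    · rcases eq_or_ne l 6 with rfl | h6
      · have e : fl L 6 = fl L 5 * fl L 5 * fl L 5 * fl L 5 := by
          rw [F.fl_six]
          refine inv_eq_of_mul_eq_one_right ?_
          simpa [pow_succ, mul_assoc] using F.t_pow_five
        rw [e, ← mul_assoc, ← mul_assoc, ← mul_assoc]
        exact F.XX_mul_t (F.XX_mul_t (F.XX_mul_t (F.XX_mul_t hg)))
      · rw [fl_of_le _ (by omega), mul_one]; exact hg
  have hmem : g ∈ Subgroup.closure {v | v ∈ L} := hgen ▸ Subgroup.mem_top g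
  induction hmem using Subgroup.closure_induction_right with
  | one => exact hone
  | mul_right x hx y hy ih =>
    obtain ⟨l, hl, rfl⟩ := List.getElem_of_mem hy
    rw [← List.getD_eq_getElem L 1 hl]
    exact hstep ih l
  | mul_inv_cancel x hx y hy ih =>
    obtain ⟨l, hl, rfl⟩ := List.getElem_of_mem hy
    rw [← List.getD_eq_getElem L 1 hl, show L.getD l 1 = fl L l from rfl, ← F.inv7_fl]
    exact hstep ih _

theorem index_Sg_le : ∀ i < 9, (F.SS i).index ≤ sizes.getD i 0 := by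
  intro i hi
  have key : ∀ m c : Nat, c ≤ Nat.card (Sg i) → 177408000 ≤ m * c → (F.SS i).index ≤ m := by
    intro m c hc hm
    have h1 := (F.SS i).card_mul_index
    rw [card_K0.1] at h1
    have h2 : c ≤ Nat.card (F.SS i) :=
      hc.trans (Nat.le_of_dvd (Nat.card_pos (α := F.SS i)) (Subgroup.card_dvd_of_le (F.Sg_le i)))
    refine Nat.le_of_mul_le_mul_left ?_ (Nat.card_pos (α := F.SS i))
    rw [h1]
    exact hm.trans ((Nat.mul_le_mul_left m h2).trans_eq (mul_comm _ _))
  rcases Nat.eq_zero_or_pos i with rfl | h0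
  · have e : F.SS 0 = ⊤ := by
      refine eq_top_iff.mpr fun u _ => ?_
      have hr0 : rWd 0 = [] := by decide +kernel
      rw [mem_SS, rv, hr0, ev_nil, one_mul, inv_one, mul_one]
      exact F.ψ_mem u
    rw [e, Subgroup.index_top]; rfl
  · interval_cases i
    · exact key 1408 _ card_Sg1 (by norm_num)
    · exact key 35200 _ card_Sg2 (by norm_num)
    · exact key 2200 _ card_Sg3 (by norm_num)
    · exact key 123200 _ card_Sg4 (by norm_num)
    · exact key 354816 _ card_Sg5 (by norm_num)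
    · exact key 739200 _ card_Sg6 (by norm_num)
    · exact key 277200 _ card_Sg7 (by norm_num)
    · exact key 5775 _ card_Sg8 (by norm_num)

/-- The index bound. -/
theorem index_HH_le (hgen : Subgroup.closure {v | v ∈ L} = ⊤) :
    F.HH.index ≠ 0 ∧ F.HH.index ≤ 1539000 := by
  classical
  let f : (Σ i : Fin 9, K0 ⧸ F.SS i) → Γ ⧸ F.HH :=
    fun p => QuotientGroup.mk (F.ψ p.2.out * (rv L p.1)⁻¹)
  have hf : Function.Surjective f := by
    intro q
    induction q using QuotientGroup.induction_on with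
    | _ g =>
      obtain ⟨i, hi, a, ha⟩ := F.mem_XX hgen g⁻¹
      set q : K0 ⧸ F.SS (⟨i, hi⟩ : Fin 9) := QuotientGroup.mk a⁻¹ with hq
      refine ⟨⟨⟨i, hi⟩, q⟩, QuotientGroup.eq.mpr ?_⟩
      have hs : (q.out)⁻¹ * a⁻¹ ∈ F.SS i := QuotientGroup.eq.mp q.out_eq'
      rw [mem_SS, map_mul, map_inv, map_inv] at hs
      have := mul_mem hs (inv_mem ha)
      simpa [mul_assoc, mul_inv_rev] using this
  haveI : ∀ i : Fin 9, Finite (K0 ⧸ F.SS i) := fun i => inferInstance
  haveI : Finite (Γ ⧸ F.HH) := Finite.of_surjective f hf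
  refine ⟨Nat.card_pos.ne', (Nat.card_le_card_of_surjective f hf).trans ?_⟩
  rw [Nat.card_sigma]
  calc ∑ i : Fin 9, Nat.card (K0 ⧸ F.SS i) ≤ ∑ i : Fin 9, sizes.getD i 0 :=
        Finset.sum_le_sum fun i _ => F.index_Sg_le i i.2
    _ = 1539000 := by decide +kernel

include F in
/-- The order bound. -/
theorem card_le (hgen : Subgroup.closure {v | v ∈ L} = ⊤) :
    Finite Γ ∧ Nat.card Γ ≤ 273030912000000 := by
  obtain ⟨h1, h2⟩ := F.index_HH_le hgen
  haveI : Finite F.HH := Finite.of_surjective _ F.ψ.rangeRestrict_surjective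
  have h3 : Nat.card F.HH ≤ 177408000 :=
    (Nat.card_le_card_of_surjective _ F.ψ.rangeRestrict_surjective).trans card_K0.1.le
  have h4 := F.HH.card_mul_index
  refine ⟨Nat.finite_of_card_ne_zero ?_, ?_⟩
  · rw [← h4]; exact mul_ne_zero Nat.card_pos.ne' h1
  · rw [← h4]; exact (Nat.mul_le_mul h3 h2).trans (by norm_num)

end Frame

end CfsgLib.Coset.HN
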