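import Cfsg.Agent.Coset.HN.Sound
import Cfsg.Agent.Coset.HN.SData

/-!
The derivation checks, and lower bounds for the stabilisers of the double cosets.
-/

set_option autoImplicit false
set_option maxRecDepth 100000
set_option Elab.async false

namespace CfsgLib.Coset.HN

theorem items_ok :
    checkItems KD.Tb baseK CD.EL CD.SL CD.rwL CD.relW CD.items 0 0 = true := by decide +kernel

/-- The stabiliser words of a representative and their inverses. -/
noncomputable def alph (idx : List Nat) : List (List Nat) :=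
  idx.map (fun g => up (sE g).2) ++ idx.map (fun g => invWd inv7 (up (sE g).2))

/-- The subgroup generated by the listed stabiliser elements of a representative. -/
noncomputable def Sg (i : Nat) : Subgroup K0 :=
  Subgroup.closure {u | ∃ g < CD.SL.length, (sE g).1 = i ∧ ev Lk (up (sE g).2) = u}

theorem sl_low : ∀ g < CD.SL.length, low (up (sE g).2) = true := by decide +kernel

theorem alph_mem {i : Nat} {idx : List Nat}
    (h : (idx.all fun g => decide (g < CD.SL.length) && decide ((sE g).1 = i)) = true) :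
    (∀ w ∈ alph idx, ∀ l ∈ w, l < 5) ∧ ∀ w ∈ alph idx, ev Lk w ∈ Sg i := by
  simp only [List.all_eq_true, Bool.and_eq_true, decide_eq_true_eq] at h
  constructor
  · intro w hw
    rcases List.mem_append.mp hw with hw | hw <;> obtain ⟨g, hg, rfl⟩ := List.mem_map.mp hw
    · exact low_iff (sl_low g (h g hg).1)
    · exact invWd_low (low_iff (sl_low g (h g hg).1))
  · intro w hw
    rcases List.mem_append.mp hw with hw | hw <;> obtain ⟨g, hg, rfl⟩ := List.mem_map.mp hw
    · exact Subgroup.subset_closure ⟨g, (h g hg).1, (h g hg).2, rfl⟩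
    · rw [ev_invWd_Lk (low_iff (sl_low g (h g hg).1))]
      exact inv_mem (Subgroup.subset_closure ⟨g, (h g hg).1, (h g hg).2, rfl⟩)

theorem card_Sg1 : 126000 ≤ Nat.card (Sg 1) := by
  obtain ⟨hlow, hmem⟩ := alph_mem (i := 1) (idx := SD.gens1) (by decide +kernel)
  have h2 := orbit_step_in matches_σK (Sg 1) (base := ([196, 16] : List (Fin 1408))) (β := (7 : Fin 1408))
    (m := 2) (dm := 1) (gens := SD.S1L2G) (P := SD.S1L2P) (Inv := SD.S1L2Inv)
    (by decide +kernel) (by rw [length_Lk]; decide +kernel) (by decide +kernel)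
    (mem_of_checkExpr (g := alph SD.gens1) (vs := SD.S1L2V) (by decide +kernel) hlow hmem)
    (show 1 ≤ Nat.card (Sg 1 ⊓ baseStab σK ([196, 16, 7] : List (Fin 1408)) : Subgroup K0) from Nat.card_pos)
  have h1 := orbit_step_in matches_σK (Sg 1) (base := ([196] : List (Fin 1408))) (β := (16 : Fin 1408))
    (m := 125) (dm := 7) (gens := SD.S1L1G) (P := SD.S1L1P) (Inv := SD.S1L1Inv)
    (by decide +kernel) (by rw [length_Lk]; decide +kernel) (by decide +kernel)
    (mem_of_checkExpr (g := alph SD.gens1) (vs := SD.S1L1V) (by decide +kernel) hlow hmem)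
    h2
  have h0 := orbit_step_in matches_σK (Sg 1) (base := ([] : List (Fin 1408))) (β := (196 : Fin 1408))
    (m := 504) (dm := 9) (gens := SD.S1L0G) (P := SD.S1L0P) (Inv := SD.S1L0Inv)
    (by decide +kernel) (by rw [length_Lk]; decide +kernel) (by decide +kernel)
    (mem_of_checkExpr (g := alph SD.gens1) (vs := SD.S1L0V) (by decide +kernel) hlow hmem)
    h1
  simpa [baseStab] using h0

theorem card_Sg2 : 5040 ≤ Nat.card (Sg 2) := by
  obtain ⟨hlow, hmem⟩ := alph_mem (i := 2) (idx := SD.gens2) (by decide +kernel)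
  have h1 := orbit_step_in matches_σK (Sg 2) (base := ([16] : List (Fin 1408))) (β := (17 : Fin 1408))
    (m := 10) (dm := 4) (gens := SD.S2L1G) (P := SD.S2L1P) (Inv := SD.S2L1Inv)
    (by decide +kernel) (by rw [length_Lk]; decide +kernel) (by decide +kernel)
    (mem_of_checkExpr (g := alph SD.gens2) (vs := SD.S2L1V) (by decide +kernel) hlow hmem)
    (show 1 ≤ Nat.card (Sg 2 ⊓ baseStab σK ([16, 17] : List (Fin 1408)) : Subgroup K0) from Nat.card_pos)
  have h0 := orbit_step_in matches_σK (Sg 2) (base := ([] : List (Fin 1408))) (β := (16 : Fin 1408))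
    (m := 504) (dm := 9) (gens := SD.S2L0G) (P := SD.S2L0P) (Inv := SD.S2L0Inv)
    (by decide +kernel) (by rw [length_Lk]; decide +kernel) (by decide +kernel)
    (mem_of_checkExpr (g := alph SD.gens2) (vs := SD.S2L0V) (by decide +kernel) hlow hmem)
    h1
  simpa [baseStab] using h0

theorem card_Sg3 : 80640 ≤ Nat.card (Sg 3) := by
  obtain ⟨hlow, hmem⟩ := alph_mem (i := 3) (idx := SD.gens3) (by decide +kernel)
  have h2 := orbit_step_in matches_σK (Sg 3) (base := ([6, 13] : List (Fin 1408))) (β := (9 : Fin 1408))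
    (m := 2) (dm := 1) (gens := SD.S3L2G) (P := SD.S3L2P) (Inv := SD.S3L2Inv)
    (by decide +kernel) (by rw [length_Lk]; decide +kernel) (by decide +kernel)
    (mem_of_checkExpr (g := alph SD.gens3) (vs := SD.S3L2V) (by decide +kernel) hlow hmem)
    (show 1 ≤ Nat.card (Sg 3 ⊓ baseStab σK ([6, 13, 9] : List (Fin 1408)) : Subgroup K0) from Nat.card_pos)
  have h1 := orbit_step_in matches_σK (Sg 3) (base := ([6] : List (Fin 1408))) (β := (13 : Fin 1408))
    (m := 60) (dm := 6) (gens := SD.S3L1G) (P := SD.S3L1P) (Inv := SD.S3L1Inv)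
    (by decide +kernel) (by rw [length_Lk]; decide +kernel) (by decide +kernel)
    (mem_of_checkExpr (g := alph SD.gens3) (vs := SD.S3L1V) (by decide +kernel) hlow hmem)
    h2
  have h0 := orbit_step_in matches_σK (Sg 3) (base := ([] : List (Fin 1408))) (β := (6 : Fin 1408))
    (m := 672) (dm := 10) (gens := SD.S3L0G) (P := SD.S3L0P) (Inv := SD.S3L0Inv)
    (by decide +kernel) (by rw [length_Lk]; decide +kernel) (by decide +kernel)
    (mem_of_checkExpr (g := alph SD.gens3) (vs := SD.S3L0V) (by decide +kernel) hlow hmem)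
    h1
  simpa [baseStab] using h0

theorem card_Sg4 : 1440 ≤ Nat.card (Sg 4) := by
  obtain ⟨hlow, hmem⟩ := alph_mem (i := 4) (idx := SD.gens4) (by decide +kernel)
  have h1 := orbit_step_in matches_σK (Sg 4) (base := ([16] : List (Fin 1408))) (β := (7 : Fin 1408))
    (m := 4) (dm := 2) (gens := SD.S4L1G) (P := SD.S4L1P) (Inv := SD.S4L1Inv)
    (by decide +kernel) (by rw [length_Lk]; decide +kernel) (by decide +kernel)
    (mem_of_checkExpr (g := alph SD.gens4) (vs := SD.S4L1V) (by decide +kernel) hlow hmem)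
    (show 1 ≤ Nat.card (Sg 4 ⊓ baseStab σK ([16, 7] : List (Fin 1408)) : Subgroup K0) from Nat.card_pos)
  have h0 := orbit_step_in matches_σK (Sg 4) (base := ([] : List (Fin 1408))) (β := (16 : Fin 1408))
    (m := 360) (dm := 9) (gens := SD.S4L0G) (P := SD.S4L0P) (Inv := SD.S4L0Inv)
    (by decide +kernel) (by rw [length_Lk]; decide +kernel) (by decide +kernel)
    (mem_of_checkExpr (g := alph SD.gens4) (vs := SD.S4L0V) (by decide +kernel) hlow hmem)
    h1
  simpa [baseStab] using h0

theorem card_Sg5 : 500 ≤ Nat.card (Sg 5) := by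
  obtain ⟨hlow, hmem⟩ := alph_mem (i := 5) (idx := SD.gens5) (by decide +kernel)
  have h1 := orbit_step_in matches_σK (Sg 5) (base := ([15] : List (Fin 1408))) (β := (6 : Fin 1408))
    (m := 2) (dm := 1) (gens := SD.S5L1G) (P := SD.S5L1P) (Inv := SD.S5L1Inv)
    (by decide +kernel) (by rw [length_Lk]; decide +kernel) (by decide +kernel)
    (mem_of_checkExpr (g := alph SD.gens5) (vs := SD.S5L1V) (by decide +kernel) hlow hmem)
    (show 1 ≤ Nat.card (Sg 5 ⊓ baseStab σK ([15, 6] : List (Fin 1408)) : Subgroup K0) from Nat.card_pos)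
  have h0 := orbit_step_in matches_σK (Sg 5) (base := ([] : List (Fin 1408))) (β := (15 : Fin 1408))
    (m := 250) (dm := 8) (gens := SD.S5L0G) (P := SD.S5L0P) (Inv := SD.S5L0Inv)
    (by decide +kernel) (by rw [length_Lk]; decide +kernel) (by decide +kernel)
    (mem_of_checkExpr (g := alph SD.gens5) (vs := SD.S5L0V) (by decide +kernel) hlow hmem)
    h1
  simpa [baseStab] using h0

theorem card_Sg6 : 240 ≤ Nat.card (Sg 6) := by
  obtain ⟨hlow, hmem⟩ := alph_mem (i := 6) (idx := SD.gens6) (by decide +kernel)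
  have h1 := orbit_step_in matches_σK (Sg 6) (base := ([6] : List (Fin 1408))) (β := (9 : Fin 1408))
    (m := 2) (dm := 1) (gens := SD.S6L1G) (P := SD.S6L1P) (Inv := SD.S6L1Inv)
    (by decide +kernel) (by rw [length_Lk]; decide +kernel) (by decide +kernel)
    (mem_of_checkExpr (g := alph SD.gens6) (vs := SD.S6L1V) (by decide +kernel) hlow hmem)
    (show 1 ≤ Nat.card (Sg 6 ⊓ baseStab σK ([6, 9] : List (Fin 1408)) : Subgroup K0) from Nat.card_pos)
  have h0 := orbit_step_in matches_σK (Sg 6) (base := ([] : List (Fin 1408))) (β := (6 : Fin 1408))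
    (m := 120) (dm := 7) (gens := SD.S6L0G) (P := SD.S6L0P) (Inv := SD.S6L0Inv)
    (by decide +kernel) (by rw [length_Lk]; decide +kernel) (by decide +kernel)
    (mem_of_checkExpr (g := alph SD.gens6) (vs := SD.S6L0V) (by decide +kernel) hlow hmem)
    h1
  simpa [baseStab] using h0

theorem card_Sg7 : 640 ≤ Nat.card (Sg 7) := by
  obtain ⟨hlow, hmem⟩ := alph_mem (i := 7) (idx := SD.gens7) (by decide +kernel)
  have h1 := orbit_step_in matches_σK (Sg 7) (base := ([2] : List (Fin 1408))) (β := (6 : Fin 1408))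
    (m := 2) (dm := 1) (gens := SD.S7L1G) (P := SD.S7L1P) (Inv := SD.S7L1Inv)
    (by decide +kernel) (by rw [length_Lk]; decide +kernel) (by decide +kernel)
    (mem_of_checkExpr (g := alph SD.gens7) (vs := SD.S7L1V) (by decide +kernel) hlow hmem)
    (show 1 ≤ Nat.card (Sg 7 ⊓ baseStab σK ([2, 6] : List (Fin 1408)) : Subgroup K0) from Nat.card_pos)
  have h0 := orbit_step_in matches_σK (Sg 7) (base := ([] : List (Fin 1408))) (β := (2 : Fin 1408))
    (m := 320) (dm := 9) (gens := SD.S7L0G) (P := SD.S7L0P) (Inv := SD.S7L0Inv)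
    (by decide +kernel) (by rw [length_Lk]; decide +kernel) (by decide +kernel)
    (mem_of_checkExpr (g := alph SD.gens7) (vs := SD.S7L0V) (by decide +kernel) hlow hmem)
    h1
  simpa [baseStab] using h0

theorem card_Sg8 : 30720 ≤ Nat.card (Sg 8) := by
  obtain ⟨hlow, hmem⟩ := alph_mem (i := 8) (idx := SD.gens8) (by decide +kernel)
  have h1 := orbit_step_in matches_σK (Sg 8) (base := ([0] : List (Fin 1408))) (β := (18 : Fin 1408))
    (m := 24) (dm := 5) (gens := SD.S8L1G) (P := SD.S8L1P) (Inv := SD.S8L1Inv)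
    (by decide +kernel) (by rw [length_Lk]; decide +kernel) (by decide +kernel)
    (mem_of_checkExpr (g := alph SD.gens8) (vs := SD.S8L1V) (by decide +kernel) hlow hmem)
    (show 1 ≤ Nat.card (Sg 8 ⊓ baseStab σK ([0, 18] : List (Fin 1408)) : Subgroup K0) from Nat.card_pos)
  have h0 := orbit_step_in matches_σK (Sg 8) (base := ([] : List (Fin 1408))) (β := (0 : Fin 1408))
    (m := 1280) (dm := 11) (gens := SD.S8L0G) (P := SD.S8L0P) (Inv := SD.S8L0Inv)
    (by decide +kernel) (by rw [length_Lk]; decide +kernel) (by decide +kernel)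
    (mem_of_checkExpr (g := alph SD.gens8) (vs := SD.S8L0V) (by decide +kernel) hlow hmem)
    h1
  simpa [baseStab] using h0

theorem par_ok0 : checkPar KD.Tb CD.EL CD.SL 0 1408 11 CD.Par0 = true := by decide +kernel

theorem par_ok1 : checkPar KD.Tb CD.EL CD.SL 1 1408 11 CD.Par1 = true := by decide +kernel

theorem par_ok2 : checkPar KD.Tb CD.EL CD.SL 2 1408 11 CD.Par2 = true := by decide +kernel

theorem par_ok3 : checkPar KD.Tb CD.EL CD.SL 3 1408 11 CD.Par3 = true := by decide +kernel

theorem par_ok4 : checkPar KD.Tb CD.EL CD.SL 4 1408 11 CD.Par4 = true := by decide +kernel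

theorem par_ok5 : checkPar KD.Tb CD.EL CD.SL 5 1408 11 CD.Par5 = true := by decide +kernel

theorem par_ok6 : checkPar KD.Tb CD.EL CD.SL 6 1408 11 CD.Par6 = true := by decide +kernel

theorem par_ok7 : checkPar KD.Tb CD.EL CD.SL 7 1408 11 CD.Par7 = true := by decide +kernel

theorem par_ok8 : checkPar KD.Tb CD.EL CD.SL 8 1408 11 CD.Par8 = true := by decide +kernel

end CfsgLib.Coset.HN
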